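import Cfsg.Agent.Lib.HSRec.Frame
import Cfsg.Agent.Lib.LargeExtra.Basic
import Cfsg.Prelude

/-!
# The frame of `O₂(H)`
-/

set_option autoImplicit false
set_option linter.unusedSectionVars false

namespace CfsgLib.HSRec.Pin

open Subgroup

variable {G : Type*} [Group G]

theorem hQ_left_inv : ∀ r < 64, ∃ u < 64, hQ u r = 0 := fun r hr => hQ_rinv 0 (by norm_num) r hr

namespace Five

variable {t x y x' y' c : G} (F : Five t x y x' y' c)

include F

/-- The coded elements, as a subgroup. -/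
def span : Subgroup G where
  carrier := {g | ∃ r < 64, qEl x y x' y' c r = g}
  one_mem' := ⟨0, by norm_num, F.q_zero⟩
  mul_mem' := by
    rintro _ _ ⟨r, hr, rfl⟩ ⟨r', hr', rfl⟩
    exact ⟨hQ r r', (hQ_low r hr r' hr').2.2.2.2.2, (F.q_mul hr hr').symm⟩
  inv_mem' := by
    rintro _ ⟨r, hr, rfl⟩
    obtain ⟨u, hu, e⟩ := hQ_left_inv r hr
    refine ⟨u, hu, eq_inv_of_mul_eq_one_left ?_⟩
    rw [F.q_mul hu hr, e, F.q_zero]

theorem span_gens : x ∈ F.span ∧ y ∈ F.span ∧ x' ∈ F.span ∧ y' ∈ F.span ∧ c ∈ F.span := by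
  obtain ⟨e1, e2, e3, e4, e5, -⟩ := F.q_small
  exact ⟨⟨1, by norm_num, e1⟩, ⟨2, by norm_num, e2⟩, ⟨4, by norm_num, e3⟩, ⟨8, by norm_num, e4⟩,
    ⟨16, by norm_num, e5⟩⟩

theorem card_span : Nat.card F.span = 64 := by
  let f : Fin 64 → ↥F.span := fun r => ⟨qEl x y x' y' c r, r, r.2, rfl⟩
  have hf : Function.Bijective f := ⟨fun r r' e => Fin.ext (F.q_inj r.2 r'.2 (congrArg Subtype.val e)),
    fun ⟨g, r, hr, e⟩ => ⟨⟨r, hr⟩, Subtype.ext e⟩⟩
  rw [← Nat.card_eq_of_bijective f hf, Nat.card_fin]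

end Five

theorem comm_cases {E : Subgroup G} {z : G} (hcom : ∀ g h : G, g ∈ E → h ∈ E → ∀ s, g * h * g⁻¹ * h⁻¹ = s → s = 1 ∨ s = z)
    {g h : G} (hg : g ∈ E) (hh : h ∈ E) : g * h = h * g ∨ g * h = z * (h * g) := by
  rcases hcom g h hg hh _ rfl with e | e
  · left; calc g * h = g * h * g⁻¹ * h⁻¹ * (h * g) := by group
      _ = h * g := by rw [e, one_mul]
  · right; calc g * h = g * h * g⁻¹ * h⁻¹ * (h * g) := by group
      _ = z * (h * g) := by rw [e]

/-- The central product of a cyclic group of order four and an extraspecial group of order 32 has a frame. -/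
theorem exists_frame [Finite G] (t : G) (ht : orderOf t = 2) (R Cy E : Subgroup G) (hCy : IsCyclic Cy)
    (hCycard : Nat.card Cy = 4) (hCyle : Cy ≤ R ⊓ centralizer (R : Set G)) (hEle : E ≤ R)
    (hEex : Cfsg.IsExtraspecial 2 E) (hEcard : Nat.card E = 32) (hprod : Cy ⊔ E = R)
    (hmeet : Cy ⊓ E = E ⊓ centralizer (E : Set G)) (htR : t ∈ R) (htc : ∀ r ∈ R, r * t = t * r) :
    ∃ x y x' y' c : G, Five t x y x' y' c ∧ Frame t R (qEl x y x' y' c) := by
  obtain ⟨z, hzE, hz2, hzmap, hzc, hzcases⟩ := CfsgLib.LargeExtra.exists_centre_involution hEex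
  have hzz : z * z = 1 := by rw [← pow_two, ← hz2, pow_orderOf_eq_one]
  have hzne : z ≠ 1 := fun e => by rw [e, orderOf_one] at hz2; omega
  have hcen : ∀ g ∈ E, (∀ h ∈ E, h * g = g * h) → g = 1 ∨ g = z := fun g hg hh =>
    hzcases g (hzmap ▸ ⟨⟨g, hg⟩, mem_center_iff.2 fun h => Subtype.ext (hh h h.2), rfl⟩)
  have hcom : ∀ g h : G, g ∈ E → h ∈ E → ∀ s, g * h * g⁻¹ * h⁻¹ = s → s = 1 ∨ s = z := by
    rintro g h hg hh _ rfl
    exact hzcases _ (hzmap ▸ ⟨_, CfsgLib.LargeExtra.comm_mem_center hEex ⟨g, hg⟩ ⟨h, hh⟩, rfl⟩)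
  obtain ⟨⟨c, hcCy⟩, hgen⟩ := hCy.exists_generator
  have hoc : orderOf c = 4 := by
    have h := orderOf_eq_card_of_forall_mem_zpowers hgen
    rw [Subgroup.orderOf_mk] at h
    rw [h, hCycard]
  have hcR : ∀ r ∈ R, r * c = c * r := fun r hr => mem_centralizer_iff.1 (hCyle hcCy).2 r hr
  have hCy' : ∀ g ∈ Cy, g = 1 ∨ g = c ∨ g = c * c ∨ g = c * (c * c) := fun g hg => by
    obtain ⟨k, hk⟩ := Subgroup.mem_zpowers_iff.1 (hgen ⟨g, hg⟩)
    have hk' : g = c ^ k := (congrArg Subtype.val hk).symm.trans (SubgroupClass.coe_zpow _ k)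
    rw [hk', ← zpow_mod_orderOf, hoc]
    have h1 := Int.emod_nonneg k (by norm_num : ((4 : ℕ) : ℤ) ≠ 0)
    have h2 := Int.emod_lt_of_pos k (by norm_num : (0 : ℤ) < ((4 : ℕ) : ℤ))
    generalize k % ((4 : ℕ) : ℤ) = m at h1 h2
    push_cast at h2
    interval_cases m
    · exact Or.inl (zpow_zero c)
    · exact Or.inr (Or.inl (zpow_one c))
    · exact Or.inr (Or.inr (Or.inl (zpow_two c)))
    · exact Or.inr (Or.inr (Or.inr (by rw [show (3 : ℤ) = ((3 : ℕ) : ℤ) from rfl, zpow_natCast, pow_succ', pow_two])))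
  have hcne : c ≠ 1 := fun e => by rw [e, orderOf_one] at hoc; omega
  have hc4 : c * c * (c * c) = 1 := by
    rw [show c * c * (c * c) = c ^ 4 by simp [pow_succ, mul_assoc], ← hoc, pow_orderOf_eq_one]
  have hcc1 : c * c ≠ 1 := fun e => by
    have := orderOf_dvd_of_pow_eq_one (show c ^ 2 = 1 by rw [pow_two, e])
    rw [hoc] at this; omega
  have hzCy : z ∈ Cy := (hmeet.ge ⟨hzE, mem_centralizer_iff.2 fun g hg => hzc g hg⟩).1
  have hcz : c * c = z := by
    rcases hCy' z hzCy with e | e | e | e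
    · exact absurd e hzne
    · exact absurd (e ▸ hzz) hcc1
    · exact e.symm
    · refine absurd ?_ hcc1
      have : c * (c * c) * (c * (c * c)) = 1 := e ▸ hzz
      rw [show c * (c * c) * (c * (c * c)) = c * c * (c * c) * (c * c) by group, hc4, one_mul] at this
      exact this
  have hc3 : c * (c * c) * (c * (c * c)) = z := by
    rw [show c * (c * c) * (c * (c * c)) = c * c * (c * c) * (c * c) by group, hc4, one_mul, hcz]
  -- every element of `R` is a power of `c` times an element of `E`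
  have hsq : ∀ g ∈ E, g * g = 1 ∨ g * g = z := fun g hg =>
    hzcases _ (hzmap ▸ ⟨_, CfsgLib.LargeExtra.sq_mem_center hEex ⟨g, hg⟩, rfl⟩)
  have inv : ∀ g ∈ E, ∃ g' : G, (g' = g ∨ g' = g * c) ∧ g' * g' = 1 := fun g hg => by
    rcases hsq g hg with e | e
    · exact ⟨g, .inl rfl, e⟩
    · refine ⟨g * c, .inr rfl, ?_⟩
      rw [show g * c * (g * c) = g * (c * g) * c by group, ← hcR g (hEle hg),
        show g * (g * c) * c = g * g * (c * c) by group, e, hcz, hzz]
  -- the four elements
  have hE1 : ∃ e ∈ E, e ≠ 1 ∧ e ≠ z := by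
    by_contra hcon
    push Not at hcon
    have hle : E ≤ zpowers z := fun g hg => by
      by_cases e : g = 1
      · exact e ▸ one_mem _
      · exact hcon g hg e ▸ mem_zpowers z
    have := Subgroup.card_le_of_le hle
    rw [hEcard, Nat.card_zpowers, hz2] at this
    omega
  obtain ⟨e1, he1, e1a, e1b⟩ := hE1
  obtain ⟨e2, he2, n12⟩ : ∃ e2 ∈ E, e2 * e1 ≠ e1 * e2 := by
    by_contra hcon
    push Not at hcon
    rcases hcen e1 he1 hcon with e | e
    · exact e1a e
    · exact e1b e
  have z12 : e2 * e1 = z * (e1 * e2) := (comm_cases hcom he2 he1).resolve_left n12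
  -- the centraliser of both in `E`
  have red : ∀ g ∈ E, ∀ a b : G, a ∈ E → b ∈ E → b * a = z * (a * b) → ∃ w ∈ E, w * a = a * w ∧ w * b = b * w ∧
      (g = w ∨ g = w * a ∨ g = w * b ∨ g = w * (a * b)) := by
    intro g hg a b ha hb hab
    have hzg : ∀ w ∈ E, w * z = z * w := hzc
    have hba : a * b = z * (b * a) := by rw [hab, ← mul_assoc, hzz, one_mul]
    rcases comm_cases hcom hg ha with ea | ea <;> rcases comm_cases hcom hg hb with eb | eb
    · exact ⟨g, hg, ea, eb, .inl rfl⟩
    · refine ⟨g * a⁻¹, mul_mem hg (inv_mem ha), ?_, ?_, .inr (.inl (by group))⟩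
      · rw [inv_mul_cancel_right, ← mul_assoc, ← ea, mul_inv_cancel_right]
      · have h1 : a⁻¹ * b = z * (b * a⁻¹) := by
          apply mul_left_cancel (a := a)
          rw [mul_inv_cancel_left, ← mul_assoc a z, hzg a ha, mul_assoc z a, ← mul_assoc a b, hba]
          rw [show z * (z * (b * a) * a⁻¹) = z * z * b by group, hzz, one_mul]
        rw [mul_assoc, h1, ← mul_assoc g z, hzg g hg, mul_assoc z g, ← mul_assoc g b, eb,
          show z * (z * (b * g) * a⁻¹) = z * z * (b * (g * a⁻¹)) by group, hzz, one_mul]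
    · refine ⟨g * b⁻¹, mul_mem hg (inv_mem hb), ?_, ?_, .inr (.inr (.inl (by group)))⟩
      · have h1 : b⁻¹ * a = z * (a * b⁻¹) := by
          apply mul_left_cancel (a := b)
          rw [mul_inv_cancel_left, ← mul_assoc b z, hzg b hb, mul_assoc z b, ← mul_assoc b a, hab]
          rw [show z * (z * (a * b) * b⁻¹) = z * z * a by group, hzz, one_mul]
        rw [mul_assoc, h1, ← mul_assoc g z, hzg g hg, mul_assoc z g, ← mul_assoc g a, ea,
          show z * (z * (a * g) * b⁻¹) = z * z * (a * (g * b⁻¹)) by group, hzz, one_mul]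
      · rw [inv_mul_cancel_right, ← mul_assoc, ← eb, mul_inv_cancel_right]
    · refine ⟨g * (a * b)⁻¹, mul_mem hg (inv_mem (mul_mem ha hb)), ?_, ?_, .inr (.inr (.inr (by group)))⟩
      · have h1 : (a * b)⁻¹ * a = z * (a * (a * b)⁻¹) := by
          apply mul_left_cancel (a := a * b)
          rw [mul_inv_cancel_left, ← mul_assoc (a * b) z, hzg _ (mul_mem ha hb), mul_assoc z (a * b),
            ← mul_assoc (a * b) a, mul_assoc a b a, hab, ← mul_assoc a z, hzg a ha, mul_assoc z a,
            show z * (z * (a * (a * b)) * (a * b)⁻¹) = z * z * a by group, hzz, one_mul]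
        rw [mul_assoc, h1, ← mul_assoc g z, hzg g hg, mul_assoc z g, ← mul_assoc g a, ea,
          show z * (z * (a * g) * (a * b)⁻¹) = z * z * (a * (g * (a * b)⁻¹)) by group, hzz, one_mul]
      · have h1 : (a * b)⁻¹ * b = z * (b * (a * b)⁻¹) := by
          apply mul_left_cancel (a := a * b)
          rw [mul_inv_cancel_left, ← mul_assoc (a * b) z, hzg _ (mul_mem ha hb), mul_assoc z (a * b),
            ← mul_assoc (a * b) b]
          rw [show a * b * b = z * (b * (a * b)) by rw [← mul_assoc b a b, ← mul_assoc z, ← hba],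
            show z * (z * (b * (a * b)) * (a * b)⁻¹) = z * z * b by group, hzz, one_mul]
        rw [mul_assoc, h1, ← mul_assoc g z, hzg g hg, mul_assoc z g, ← mul_assoc g b, eb,
          show z * (z * (b * g) * (a * b)⁻¹) = z * z * (b * (g * (a * b)⁻¹)) by group, hzz, one_mul]
  let K : Subgroup G := E ⊓ centralizer ({e1, e2} : Set G)
  have hK : ∀ w ∈ E, w * e1 = e1 * w → w * e2 = e2 * w → w ∈ K := fun w hw a b => ⟨hw, mem_centralizer_iff.2 (by
    rintro u (rfl | rfl)
    · exact a.symm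
    · exact b.symm)⟩
  have hK1 : ∃ e3 ∈ K, e3 ≠ 1 ∧ e3 ≠ z := by
    by_contra hcon
    push Not at hcon
    have hK2 : ∀ w ∈ K, w = 1 ∨ w = z := fun w hw => (em (w = 1)).imp_right (hcon w hw)
    let f : Fin 2 × Fin 2 × Fin 2 → G := fun p => z ^ (p.1 : ℕ) * (e1 ^ (p.2.1 : ℕ) * e2 ^ (p.2.2 : ℕ))
    have hsub : (E : Set G) ⊆ Set.range f := by
      intro g hg
      obtain ⟨w, hwE, h1, h2, hcase⟩ := red g hg e1 e2 he1 he2 z12
      rcases hK2 w (hK w hwE h1 h2) with rfl | rfl <;> rcases hcase with e | e | e | e <;> rw [e]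
      exacts [⟨(0, 0, 0), by simp [f]⟩, ⟨(0, 1, 0), by simp [f]⟩, ⟨(0, 0, 1), by simp [f]⟩, ⟨(0, 1, 1), by simp [f]⟩,
        ⟨(1, 0, 0), by simp [f]⟩, ⟨(1, 1, 0), by simp [f]⟩, ⟨(1, 0, 1), by simp [f]⟩, ⟨(1, 1, 1), by simp [f]⟩]
    have := (Set.ncard_le_ncard hsub (Set.finite_range f)).trans (Finite.card_range_le f)
    rw [← Nat.card_coe_set_eq, SetLike.coe_sort_coe, hEcard] at this
    simp at this
  obtain ⟨e3, he3, e3a, e3b⟩ := hK1
  have he3E : e3 ∈ E := he3.1
  have c31 : e3 * e1 = e1 * e3 := (mem_centralizer_iff.1 he3.2 e1 (.inl rfl)).symm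
  have c32 : e3 * e2 = e2 * e3 := (mem_centralizer_iff.1 he3.2 e2 (.inr rfl)).symm
  obtain ⟨e4, he4, n34⟩ : ∃ e4 ∈ K, e4 * e3 ≠ e3 * e4 := by
    by_contra hcon
    push Not at hcon
    refine (hcen e3 he3E fun g hg => ?_).elim e3a e3b
    obtain ⟨w, hwE, h1, h2, hcase⟩ := red g hg e1 e2 he1 he2 z12
    have h3 : Commute w e3 := hcon w (hK w hwE h1 h2)
    rcases hcase with e | e | e | e <;> rw [e]
    · exact h3
    · exact h3.mul_left c31.symm
    · exact h3.mul_left c32.symm
    · exact h3.mul_left (Commute.mul_left (c31.symm : Commute e1 e3) c32.symm)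
  have he4E : e4 ∈ E := he4.1
  have c41 : e4 * e1 = e1 * e4 := (mem_centralizer_iff.1 he4.2 e1 (.inl rfl)).symm
  have c42 : e4 * e2 = e2 * e4 := (mem_centralizer_iff.1 he4.2 e2 (.inr rfl)).symm
  have z34 : e4 * e3 = z * (e3 * e4) := (comm_cases hcom he4E he3E).resolve_left n34
  obtain ⟨x, hxe, hxx⟩ := inv e1 he1
  obtain ⟨y, hye, hyy⟩ := inv e2 he2
  obtain ⟨x', hx'e, hxx'⟩ := inv e3 he3E
  obtain ⟨y', hy'e, hyy'⟩ := inv e4 he4E
  have ce : ∀ e ∈ E, Commute c e := fun e he => (hcR e (hEle he)).symm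
  have cw : ∀ e g, e ∈ E → (g = e ∨ g = e * c) → Commute c g := by
    rintro e g he (rfl | rfl)
    exacts [ce _ he, (ce e he).mul_right (.refl c)]
  have cg : ∀ e e' g g', e ∈ E → e' ∈ E → Commute e e' → (g = e ∨ g = e * c) → (g' = e' ∨ g' = e' * c) →
      Commute g g' := by
    rintro e e' g g' he he' h (rfl | rfl) (rfl | rfl)
    exacts [h, h.mul_right (ce _ he).symm, h.mul_left (ce _ he'),
      (h.mul_right (ce e he).symm).mul_left ((ce e' he').mul_right (.refl c))]
  have zg : ∀ e e' g g', e ∈ E → e' ∈ E → e' * e = z * (e * e') → (g = e ∨ g = e * c) → (g' = e' ∨ g' = e' * c) →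
      g' * g = g * g' * z := by
    intro e e' g g' he he' h hg hg'
    have hcz' : Commute c z := ce z hzE
    have hzg : ∀ u ∈ E, u * z = z * u := hzc
    have base : e' * e = e * e' * z := by rw [h, hzg _ (mul_mem he he')]
    rcases hg with rfl | rfl <;> rcases hg' with rfl | rfl
    · exact base
    · rw [mul_assoc, (ce g he).eq, ← mul_assoc, base, mul_assoc, ← hcz'.eq]
      group
    · rw [← mul_assoc, base, mul_assoc _ z c, ← hcz'.eq, mul_assoc e c g', (ce g' he').eq]
      group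
    · rw [show e' * c * (e * c) = e' * (c * e) * c by group, (ce e he).eq,
        show e' * (e * c) * c = (e' * e) * (c * c) by group, base,
        show e * c * (e' * c) * z = e * (c * e') * c * z by group, (ce e' he').eq, hcz,
        show e * (e' * c) * c * z = e * e' * (c * c) * z by group, hcz]
  have hF : Five z x y x' y' c := ⟨hcz, hzz, hzne, hxx, hyy, hxx', hyy', zg e1 e2 x y he1 he2 z12 hxe hye,
    zg e3 e4 x' y' he3E he4E z34 hx'e hy'e, cg e1 e3 x x' he1 he3E c31.symm hxe hx'e,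
    cg e1 e4 x y' he1 he4E c41.symm hxe hy'e, cg e2 e3 y x' he2 he3E c32.symm hye hx'e,
    cg e2 e4 y y' he2 he4E c42.symm hye hy'e, cw e1 x he1 hxe, cw e2 y he2 hye, cw e3 x' he3E hx'e,
    cw e4 y' he4E hy'e⟩
  obtain ⟨hx, hy, hx', hy', hc⟩ := hF.span_gens
  have hback : ∀ e g, (g = e ∨ g = e * c) → g ∈ hF.span → e ∈ hF.span := by
    rintro e g (rfl | rfl) h
    exacts [h, by simpa using mul_mem h (inv_mem hc)]
  have i1 := hback _ _ hxe hx
  have i2 := hback _ _ hye hy
  have i3 := hback _ _ hx'e hx'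
  have i4 := hback _ _ hy'e hy'
  have iz : z ∈ hF.span := by
    have h := mul_mem hc hc
    rwa [hcz] at h
  have hKsp : ∀ w ∈ K, w ∈ hF.span := by
    intro w hw
    obtain ⟨u, huE, h3, h4, hcase⟩ := red w hw.1 e3 e4 he3E he4E z34
    have hu : u ∈ hF.span := by
      have k3 : e3 ∈ K := he3
      have hu12 : Commute u e1 ∧ Commute u e2 := by
        have hw1 : Commute w e1 := (mem_centralizer_iff.1 hw.2 e1 (.inl rfl)).symm
        have hw2 : Commute w e2 := (mem_centralizer_iff.1 hw.2 e2 (.inr rfl)).symm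
        have back : ∀ g v, Commute w g → Commute v g → w = u * v → Commute u g := fun g v h h' e' => by
          have := h.mul_left h'.inv_left
          rwa [e', mul_inv_cancel_right] at this
        rcases hcase with e | e | e | e
        exacts [⟨e ▸ hw1, e ▸ hw2⟩, ⟨back _ _ hw1 c31 e, back _ _ hw2 c32 e⟩, ⟨back _ _ hw1 c41 e, back _ _ hw2 c42 e⟩,
          ⟨back _ _ hw1 (Commute.mul_left c31 c41) e, back _ _ hw2 (Commute.mul_left c32 c42) e⟩]
      -- three central elements would give 48 elements of `E`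
      by_contra hnot
      have hu1 : u ≠ 1 := fun e => hnot (e ▸ one_mem _)
      have huz : u ≠ z := fun e => hnot (e ▸ iz)
      let sgn : Fin 3 → G := ![1, z, u]
      have hsgn : ∀ i, sgn i ∈ E ∧ Commute (sgn i) e1 ∧ Commute (sgn i) e2 ∧ Commute (sgn i) e3 ∧ Commute (sgn i) e4 := by
        intro i
        fin_cases i
        · exact ⟨one_mem _, .one_left _, .one_left _, .one_left _, .one_left _⟩
        · exact ⟨hzE, (hzc e1 he1).symm, (hzc e2 he2).symm, (hzc e3 he3E).symm, (hzc e4 he4E).symm⟩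
        · exact ⟨huE, hu12.1, hu12.2, h3, h4⟩
      have code : ∀ g, g ∈ hF.span → ∃ r < 64, qEl x y x' y' c r = g := fun g h => h
      have low : ∀ e g (k : ℕ), k < 64 → (g = e ∨ g = e * c) → qEl x y x' y' c k = g →
          ∃ r < 64, qEl x y x' y' c r = e ∧ r % 16 = k % 16 := by
        rintro e g k hk (rfl | rfl) hq
        · exact ⟨k, hk, hq, rfl⟩
        · refine ⟨hQ k 48, (hQ_low k hk 48 (by norm_num)).2.2.2.2.2, ?_, ?_⟩
          · rw [← hF.q_mul hk (by norm_num), hq]
            have h48 : qEl x y x' y' c 48 = c ^ 3 := by simp [qEl]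
            rw [h48, mul_assoc, ← pow_succ', hF.c_four, mul_one]
          · revert hk
            clear hq
            revert k
            decide +kernel
      obtain ⟨q1, q2, q3, q4, -, -⟩ := hF.q_small
      obtain ⟨r1, hr1, qe1, l1⟩ := low e1 x 1 (by norm_num) hxe q1
      obtain ⟨r2, hr2, qe2, l2⟩ := low e2 y 2 (by norm_num) hye q2
      obtain ⟨r3, hr3, qe3, l3⟩ := low e3 x' 4 (by norm_num) hx'e q3
      obtain ⟨r4, hr4, qe4, l4⟩ := low e4 y' 8 (by norm_num) hy'e q4
      let P : ℕ → G := fun n => (if n % 2 = 1 then e1 else 1) * (if n / 2 % 2 = 1 then e2 else 1) *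
        (if n / 4 % 2 = 1 then e3 else 1) * (if n / 8 % 2 = 1 then e4 else 1)
      let C : ℕ → ℕ := fun n => hQ (hQ (hQ (if n % 2 = 1 then r1 else 0) (if n / 2 % 2 = 1 then r2 else 0))
        (if n / 4 % 2 = 1 then r3 else 0)) (if n / 8 % 2 = 1 then r4 else 0)
      have hlt : ∀ a b, a < 64 → b < 64 → hQ a b < 64 := fun a b ha hb => (hQ_low a ha b hb).2.2.2.2.2
      have hxor : ∀ a < 64, ∀ b < 64, hQ a b % 16 = (a % 16) ^^^ (b % 16) := by decide +kernel
      have hC : ∀ n, C n < 64 ∧ qEl x y x' y' c (C n) = P n ∧ C n % 16 = n % 16 := by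
        intro n
        have ha : (if n % 2 = 1 then r1 else 0) < 64 := by split_ifs <;> omega
        have hb : (if n / 2 % 2 = 1 then r2 else 0) < 64 := by split_ifs <;> omega
        have hd : (if n / 4 % 2 = 1 then r3 else 0) < 64 := by split_ifs <;> omega
        have he : (if n / 8 % 2 = 1 then r4 else 0) < 64 := by split_ifs <;> omega
        refine ⟨hlt _ _ (hlt _ _ (hlt _ _ ha hb) hd) he, ?_, ?_⟩
        · simp only [C, P]
          rw [← hF.q_mul (hlt _ _ (hlt _ _ ha hb) hd) he, ← hF.q_mul (hlt _ _ ha hb) hd, ← hF.q_mul ha hb]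
          simp only [apply_ite (qEl x y x' y' c), qe1, qe2, qe3, qe4, hF.q_zero]
        · simp only [C]
          rw [hxor _ (hlt _ _ (hlt _ _ ha hb) hd) _ he, hxor _ (hlt _ _ ha hb) _ hd, hxor _ ha _ hb]
          simp only [apply_ite (fun v => v % 16), l1, l2, l3, l4]
          have : ∀ m < 16, (((if m % 2 = 1 then 1 % 16 else 0 % 16) ^^^ (if m / 2 % 2 = 1 then 2 % 16 else 0 % 16)) ^^^
              (if m / 4 % 2 = 1 then 4 % 16 else 0 % 16)) ^^^ (if m / 8 % 2 = 1 then 8 % 16 else 0 % 16) = m := by decide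
          have := this (n % 16) (Nat.mod_lt _ (by norm_num))
          rw [show n % 16 % 2 = n % 2 by omega, show n % 16 / 2 % 2 = n / 2 % 2 by omega,
            show n % 16 / 4 % 2 = n / 4 % 2 by omega, show n % 16 / 8 % 2 = n / 8 % 2 by omega] at this
          exact this
      let f : Fin 16 × Fin 3 → ↥E := fun p => ⟨P p.1 * sgn p.2, mul_mem (mul_mem (mul_mem (mul_mem
        (by split_ifs <;> first | exact he1 | exact one_mem _) (by split_ifs <;> first | exact he2 | exact one_mem _))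
        (by split_ifs <;> first | exact he3E | exact one_mem _)) (by split_ifs <;> first | exact he4E | exact one_mem _))
        (hsgn p.2).1⟩
      have hf : Function.Injective f := by
        rintro ⟨n, i⟩ ⟨m, j⟩ h
        have h' : P n * sgn i = P m * sgn j := congrArg Subtype.val h
        obtain ⟨a1, a2, a3⟩ := hC n
        obtain ⟨b1, b2, b3⟩ := hC m
        obtain ⟨v, hv, ev⟩ := hQ_rinv _ a1 _ b1
        have key : qEl x y x' y' c v = sgn j * (sgn i)⁻¹ := by
          have e' := hF.q_mul hv b1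
          rw [ev, a2, b2] at e'
          have hc' : Commute (P m) (sgn j * (sgn i)⁻¹) := by
            obtain ⟨-, p1, p2, p3, p4⟩ := hsgn j
            obtain ⟨-, o1, o2, o3, o4⟩ := hsgn i
            simp only [P]
            refine ((Commute.mul_left ?_ ?_).mul_left ?_).mul_left ?_ <;> split_ifs
            exacts [p1.symm.mul_right o1.symm.inv_right, .one_left _, p2.symm.mul_right o2.symm.inv_right, .one_left _,
              p3.symm.mul_right o3.symm.inv_right, .one_left _, p4.symm.mul_right o4.symm.inv_right, .one_left _]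
          have : P n = P m * (sgn j * (sgn i)⁻¹) := by rw [← mul_assoc, ← h', mul_inv_cancel_right]
          rw [hc'.eq] at this
          exact mul_right_cancel (e'.trans this)
        have hcom' : ∀ e g (k : ℕ), k < 64 → e ∈ E → (g = e ∨ g = e * c) → qEl x y x' y' c k = g →
            Commute (sgn j) e → Commute (sgn i) e → hQ v k = hQ k v := by
          intro e g k hk he hg hq hj hi
          refine hF.q_inj (hlt _ _ hv hk) (hlt _ _ hk hv) ?_
          rw [← hF.q_mul hv hk, ← hF.q_mul hk hv, hq, key]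
          have hce : Commute (sgn j * (sgn i)⁻¹) c :=
            (ce _ (hsgn j).1).symm.mul_left (ce _ (hsgn i).1).symm.inv_left
          rcases hg with rfl | rfl
          · exact hj.mul_left hi.inv_left
          · exact (hj.mul_left hi.inv_left).mul_right hce
        have dec : ∀ v < 64, (∀ k ∈ [1, 2, 4, 8], hQ v k = hQ k v) → v % 16 = 0 := by decide +kernel
        have hv0 := dec v hv (by
          intro k hk
          simp only [List.mem_cons, List.not_mem_nil, or_false] at hk
          rcases hk with rfl | rfl | rfl | rfl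
          · exact hcom' e1 x 1 (by norm_num) he1 hxe q1 (hsgn j).2.1 (hsgn i).2.1
          · exact hcom' e2 y 2 (by norm_num) he2 hye q2 (hsgn j).2.2.1 (hsgn i).2.2.1
          · exact hcom' e3 x' 4 (by norm_num) he3E hx'e q3 (hsgn j).2.2.2.1 (hsgn i).2.2.2.1
          · exact hcom' e4 y' 8 (by norm_num) he4E hy'e q4 (hsgn j).2.2.2.2 (hsgn i).2.2.2.2)
        have hnm : n = m := by
          have := hxor v hv (C m) b1
          rw [ev, a3, b3, hv0, Nat.zero_xor] at this
          exact Fin.ext (by omega)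
        subst hnm
        have hij : sgn i = sgn j := mul_left_cancel h'
        refine Prod.ext rfl ?_
        fin_cases i <;> fin_cases j <;> simp [sgn] at hij ⊢ <;>
          first | exact absurd hij hzne | exact absurd hij.symm hzne | exact absurd hij hu1 | exact absurd hij.symm hu1 |
            exact absurd hij huz | exact absurd hij.symm huz
      have := Nat.card_le_card_of_injective f hf
      rw [hEcard] at this
      simp at this
    rcases hcase with e | e | e | e <;> rw [e]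
    exacts [hu, mul_mem hu i3, mul_mem hu i4, mul_mem hu (mul_mem i3 i4)]
  have hEsp : E ≤ hF.span := fun g hg => by
    obtain ⟨w, hwE, h1, h2, hcase⟩ := red g hg e1 e2 he1 he2 z12
    have hw := hKsp w (hK w hwE h1 h2)
    rcases hcase with e | e | e | e <;> rw [e]
    exacts [hw, mul_mem hw i1, mul_mem hw i2, mul_mem hw (mul_mem i1 i2)]
  have hCsp : Cy ≤ hF.span := fun g hg => by
    rcases hCy' g hg with e | e | e | e <;> rw [e]
    exacts [one_mem _, hc, mul_mem hc hc, mul_mem hc (mul_mem hc hc)]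
  have hRsp : R ≤ hF.span := hprod ▸ sup_le hCsp hEsp
  have hcR' : c ∈ R := (hCyle hcCy).1
  have hin : ∀ e g, e ∈ E → (g = e ∨ g = e * c) → g ∈ R := by
    rintro e g he (rfl | rfl)
    exacts [hEle he, mul_mem (hEle he) hcR']
  have hspR : hF.span ≤ R := by
    rintro _ ⟨r, -, rfl⟩
    exact mul_mem (mul_mem (mul_mem (mul_mem (pow_mem (hin e1 x he1 hxe) _) (pow_mem (hin e2 y he2 hye) _))
      (pow_mem (hin e3 x' he3E hx'e) _)) (pow_mem (hin e4 y' he4E hy'e) _)) (pow_mem hcR' _)
  -- the involution of the centre is `t`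
  have htz : t = z := by
    obtain ⟨r, hr, e⟩ := hRsp htR
    have hr' : ∀ u < 64, hQ r u = hQ u r := fun u hu => by
      refine hF.q_inj (hQ_low r hr u hu).2.2.2.2.2 (hQ_low u hu r hr).2.2.2.2.2 ?_
      rw [← hF.q_mul hr hu, ← hF.q_mul hu hr, e]
      exact (htc _ (hspR ⟨u, hu, rfl⟩)).symm
    have hrr : hQ r r = 0 := by
      refine hF.q_inj (hQ_low r hr r hr).2.2.2.2.2 (by norm_num) ?_
      rw [← hF.q_mul hr hr, e, hF.q_zero, ← pow_two, ← ht, pow_orderOf_eq_one]
    have hne : r ≠ 0 := fun h0 => by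
      rw [h0, hF.q_zero] at e
      rw [← e, orderOf_one] at ht
      omega
    have dec : ∀ r < 64, (∀ u ∈ [1, 2, 4, 8], hQ r u = hQ u r) → hQ r r = 0 → r ≠ 0 → r = 32 := by decide +kernel
    rw [dec r hr (fun u hu => hr' u (by simp at hu; omega)) hrr hne, hF.q_small.2.2.2.2.2] at e
    exact e.symm
  subst htz
  have : Finite R := inferInstance
  refine ⟨x, y, x', y', c, hF, hF.frame ?_ (hspR hx) (hspR hy) (hspR hx') (hspR hy') hcR'⟩
  rw [le_antisymm hRsp hspR, hF.card_span]

end CfsgLib.HSRec.Pin
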