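import Cfsg.Agent.Lib.HSRec.Glue.Exists
import Cfsg.Agent.Lib.HSRec.Glue.Twist

/-!
The gluing: after an automorphism of the codes, some element exchanges the two involutions as prescribed.
-/

set_option autoImplicit false
set_option maxRecDepth 100000

namespace CfsgLib.HSRec.Glue

/-- Facts on the prescribed map. -/
def psiB : Bool :=
  ((List.range 256).all fun i => Nat.beq (psi (psi i)) i &&
      Nat.beq (psi (hPerm.getD (psi (hPerm.getD (psi (hPerm.getD i 0)) 0)) 0)) i) &&
    ((List.range 256).all fun c => Nat.blt c 4 || lG.any fun g => !Nat.beq (lMul c g) (lMul g c)) &&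
    Nat.beq (psi 1) 2 && Nat.beq (psi 2) 1 &&
    ((List.range 4).all fun c => Nat.beq c 0 || !Nat.beq (psi (hPerm.getD c 0)) c) &&
    dPairs.all fun p => (List.range 256).any fun i => Nat.beq (lc i) p.1 && Nat.beq (lc (psi i)) p.2

theorem psi_ok : psiB = true := by decide +kernel

theorem psiG_eq : psiG = lG.map psi := by decide +kernel

theorem central {c : ℕ} (hc : c < 256) (h : ∀ g ∈ lG, lMul c g = lMul g c) : c < 4 := by
  have h' := psi_ok
  simp only [psiB, Bool.and_eq_true, List.all_eq_true, List.mem_range, Bool.or_eq_true, List.any_eq_true,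
    Bool.not_eq_true', Nat.blt_eq] at h'
  refine (h'.1.1.1.1.2 c hc).resolve_right fun ⟨g, hg, hne⟩ => ?_
  have : Nat.beq (lMul c g) (lMul g c) = true := Nat.beq_eq ▸ h g hg
  rw [this] at hne
  exact Bool.noConfusion hne

theorem free {c : ℕ} (hc : c < 4) (h : psi (hPerm.getD c 0) = c) : c = 0 := by
  have h' := psi_ok
  simp only [psiB, Bool.and_eq_true, List.all_eq_true, List.mem_range, Bool.or_eq_true,
    Bool.not_eq_true'] at h'
  refine (h'.1.2 c hc).elim Nat.eq_of_beq_eq_true fun hne => ?_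
  have : Nat.beq (psi (hPerm.getD c 0)) c = true := Nat.beq_eq ▸ h
  rw [this] at hne
  exact Bool.noConfusion hne

theorem psi_spec {i : ℕ} (hi : i < 256) :
    psi (psi i) = i ∧ psi (hPerm.getD (psi (hPerm.getD (psi (hPerm.getD i 0)) 0)) 0) = i := by
  have h' := psi_ok
  simp only [psiB, Bool.and_eq_true, List.all_eq_true, List.mem_range, Nat.beq_eq] at h'
  exact h'.1.1.1.1.1 i hi

theorem psi_small : psi 1 = 2 ∧ psi 2 = 1 ∧ psi 3 = 3 ∧ lMul 1 2 = 3 ∧ lMul 3 3 = 0 := by decide +kernel

theorem pair_spec {p : ℕ × ℕ} (hp : p ∈ dPairs) : ∃ i < 256, lc i = p.1 ∧ lc (psi i) = p.2 := by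
  have h' := psi_ok
  simp only [psiB, Bool.and_eq_true, List.all_eq_true, List.any_eq_true, List.mem_range, Nat.beq_eq] at h'
  exact h'.2 p hp

variable {G : Type*} [Group G] {t : G} {el : ℕ → G} (C : Code t el)
include C

/-- The normalisation of an element with the prescribed conjugation map on generators. -/
theorem exists_amal {n : G} (hn : ∀ g ∈ lG, n * el (lc g) = el (lc (psi g)) * n) : ∃ n' : G, Amal el n' := by
  have hall : ∀ i < 256, n * el (lc i) = el (lc (psi i)) * n := by
    intro i hi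
    have h2 : List.Forall₂ (fun g y => g < 256 ∧ y < 256 ∧ n * el (lc g) = el (lc y) * n) lG psiG := by
      rw [psiG_eq, List.forall₂_map_right_iff, List.forall₂_same]
      exact fun g hg => ⟨lG_lt hg, psi_lt g, hn g hg⟩
    have := conj_lVal C h2 i 0 (by decide) 0 (by decide) (by rw [el_zero C, mul_one, one_mul])
    rwa [(num_spec hi).2.2.2] at this
  obtain ⟨p1, p2, p3, m12, m33⟩ := psi_small
  suffices key : ∃ n' : G, n' * n' = 1 ∧ ∀ i < 256, n' * el (lc i) = el (lc (psi i)) * n' by
    obtain ⟨m, hsq, hm⟩ := key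
    refine ⟨m, hsq, ?_, fun p hp => ?_⟩
    · obtain ⟨g, hg⟩ : ∃ g, g = m * el hC := ⟨_, rfl⟩
      rw [← hg]
      have step : ∀ j < 256, g * el (lc j) = el (lc (psi (hPerm.getD j 0))) * g := fun j hj => by
        rw [hg, mul_assoc, el_hC C hj, ← mul_assoc, hm _ (hPerm_lt hj), mul_assoc]
      have cube : ∀ j < 256, g ^ 3 * el (lc j) = el (lc j) * g ^ 3 := by
        intro j hj
        rw [pow_succ, pow_two, mul_assoc, step j hj, ← mul_assoc, mul_assoc g g, step _ (psi_lt _), ← mul_assoc,
          step _ (psi_lt _), (psi_spec hj).2]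
        simp only [mul_assoc]
      obtain ⟨c, hc, e⟩ := exists_lc C (g := g ^ 3) (by rw [← el_two C]; exact cube 2 (by decide))
        (by rw [← lc_small.2.1]; exact cube 1 (by decide))
      have hc4 := central hc fun x hx => lc_el_inj C (lMul_lt _ _) (lMul_lt _ _) (by
        rw [← lc_mul C hc (lG_lt hx), ← lc_mul C (lG_lt hx) hc, e, cube x (lG_lt hx)])
      have h0 : c = 0 := free hc4 (lc_el_inj C (psi_lt _) hc (mul_right_cancel (b := g) (by
        rw [← step c hc, e, ← pow_succ', ← pow_succ])))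
      rw [← e, h0, el_zero C]
    · obtain ⟨i, hi, e1, e2⟩ := pair_spec hp
      rw [← e1, ← e2, hm i hi]
  have k2 : n * el (lc 2) = el (lc 1) * n := by rw [hall 2 (by decide), p2]
  have k1 : n * el (lc 1) = el (lc 2) * n := by rw [hall 1 (by decide), p1]
  have hnn : ∀ i < 256, n * n * el (lc i) = el (lc i) * (n * n) := fun i hi => by
    rw [mul_assoc, hall i hi, ← mul_assoc, hall _ (psi_lt _), (psi_spec hi).1, mul_assoc]
  obtain ⟨c, hc, e⟩ := exists_lc C (g := n * n) (by rw [← el_two C]; exact hnn 2 (by decide))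
    (by rw [← lc_small.2.1]; exact hnn 1 (by decide))
  have hc4 := central hc fun g hg => lc_el_inj C (lMul_lt _ _) (lMul_lt _ _) (by
    rw [← lc_mul C hc (lG_lt hg), ← lc_mul C (lG_lt hg) hc, e, hnn g (lG_lt hg)])
  have hfix : psi c = c := lc_el_inj C (psi_lt _) hc (mul_right_cancel (b := n) (by
    rw [← hall c hc, e, mul_assoc]))
  interval_cases c
  · exact ⟨n, by rw [← e, el_zero C], hall⟩
  · rw [p1] at hfix; omega
  · rw [p2] at hfix; omega
  · refine ⟨n * el (lc 2), ?_, fun i hi => ?_⟩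
    · have tn : el (lc 2) * n = n * el (lc 1) := k1.symm
      calc n * el (lc 2) * (n * el (lc 2)) = n * (el (lc 2) * n) * el (lc 2) := by simp only [mul_assoc]
        _ = n * n * (el (lc 1) * el (lc 2)) := by rw [tn]; simp only [mul_assoc]
        _ = 1 := by rw [← e, lc_mul C (by decide) (by decide), m12, lc_mul C (by decide) (by decide), m33, el_zero C]
    · have hcm : el (lc 2) * el (lc i) = el (lc i) * el (lc 2) := by
        rw [el_two C]; exact (lc_comm C hi).1.symm
      rw [mul_assoc, hcm, ← mul_assoc, hall i hi, mul_assoc]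

omit C

/-- `Local` only looks at the codes below 64. -/
theorem local_congr {el el' : ℕ → G} {M : Subgroup G} (L : Local el M) (h : ∀ c, c < 64 → el' c = el c) :
    Local el' M := by
  have hv : ∀ a ∈ vSet, el' a = el a := fun a ha => h a (by
    simp only [vSet, List.mem_cons, List.not_mem_nil, or_false] at ha
    omega)
  have hc : ∀ g : G, (∀ a ∈ vSet, Commute g (el' a)) → ∀ a ∈ vSet, Commute g (el a) := fun g hg a ha => by
    rw [← hv a ha]; exact hg a ha
  refine ⟨?_, L.card, ?_, ?_, fun g k hg hk => L.comm g k (hc g hg) (hc k hk), fun g hg => L.four g (hc g hg), ?_⟩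
  · rw [L.norm]
    exact congrArg (fun S : Set G => Subgroup.normalizer S) (Set.image_congr fun a ha => (hv a ha).symm)
  · intro a b ha hb ha0 hb0
    rw [hv a ha, hv b hb]
    exact L.trans a b ha hb ha0 hb0
  · intro a b ha hb ha0 hb0 hab
    rw [hv a ha, hv b hb]
    exact L.pairs a b ha hb ha0 hb0 hab
  · intro g hg hgg
    obtain ⟨a, ha, e⟩ := L.invol g (hc g hg) hgg
    exact ⟨a, ha, (hv a ha).trans e⟩

include C

/-- The gluing. -/
theorem exists_glue {M : Subgroup G} (L : Local el M) :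
    ∃ (el' : ℕ → G) (n : G), Code t el' ∧ Local el' M ∧ Amal el' n ∧ ∀ c, c < 64 → el' c = el c := by
  obtain ⟨n, β, A, eβ⟩ := exists_aut C L
  obtain ⟨e, d, hd, hg⟩ := A.twist
  have hagree : ∀ c, c < 64 → el (tw e c) = el c := fun c hc => by
    cases e
    · rfl
    · rw [(tw_spec (by omega)).2.2.2 hc]
  have C' := code_tw C e
  obtain ⟨n', hn'⟩ := exists_amal C' (n := (el (lc d))⁻¹ * n) (by
    intro g hgm
    have hg' := lG_lt hgm
    show (el (lc d))⁻¹ * n * el (tw e (lc g)) = el (tw e (lc (psi g))) * ((el (lc d))⁻¹ * n)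
    rw [← lc_twL e hg', ← lc_twL e (psi_lt g)]
    have h1 : el (lc (β (twL e g))) * el (lc d) = el (lc d) * el (lc (twL e (psi g))) := by
      rw [lc_mul C (A.lt _ (twL_lt hg')) hd, lc_mul C hd (twL_lt (psi_lt g)), hg g hgm]
    have h2 : (el (lc d))⁻¹ * el (lc (β (twL e g))) = el (lc (twL e (psi g))) * (el (lc d))⁻¹ := by
      rw [eq_mul_inv_iff_mul_eq, mul_assoc, h1, inv_mul_cancel_left]
    rw [mul_assoc, eβ _ (twL_lt hg'), ← mul_assoc, h2, mul_assoc])
  exact ⟨_, n', C', local_congr L hagree, hn', hagree⟩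

end CfsgLib.HSRec.Glue
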