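import Cfsg.Agent.Lib.HSRec.Cert.Derive
import Cfsg.Agent.Lib.HSRec.Cert.Gen

/-!
The group of the graph maps onto the subgroup generated by a coded centraliser and an exchanging element.
-/

set_option autoImplicit false
set_option maxRecDepth 100000

namespace CfsgLib.HSRec

open CfsgLib.Golay CfsgLib.CodeCert

/-- The image of the model's involution. -/
noncomputable def tM : ↥HS.hsGroup := Cert.elM tC

theorem full_n : Cert.fullD.n = 5775 := by decide +kernel

/-- A coded centraliser with an exchanging element lies in a copy of the Higman–Sims group. -/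
theorem exists_hom {G : Type*} [Group G] {t : G} {el : ℕ → G} {n : G} (C : Code t el) (A : Amal el n) :
    ∃ φ : ↥HS.hsGroup →* G, Function.Injective φ ∧ Subgroup.centralizer ({t} : Set G) ≤ φ.range ∧ φ tM = t := by
  obtain ⟨φ, h1, -, -⟩ := CodeCert.exists_hom Cert.full_facts Cert.full_end (Cert.sysFull C A) Cert.sysM
    Cert.KM_top (by rw [HS.card_hsGroup, full_n]; rfl)
  have hinj : Function.Injective φ := by
    haveI := HS.hs_simple
    refine (MonoidHom.ker_eq_bot_iff φ).1 ((φ.normal_ker.eq_bot_or_eq_top).resolve_right fun h => ?_)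
    have h32 : φ (Cert.elM 32) = 1 := MonoidHom.mem_ker.1 (h ▸ Subgroup.mem_top _)
    rw [h1 32 (show 32 < 7680 by norm_num)] at h32
    exact absurd (C.inj 32 0 (by norm_num) (by norm_num) (h32.trans C.one.symm)) (by norm_num)
  refine ⟨φ, hinj, fun g hg => ?_, (h1 tC (show 32 < 7680 by norm_num)).trans C.t_eq⟩
  obtain ⟨c, hc, rfl⟩ := C.surj g hg
  exact ⟨Cert.elM c, h1 c hc⟩

/-- The coded centraliser has order 7680. -/
theorem card_centralizer {G : Type*} [Group G] {t : G} {el : ℕ → G} (C : Code t el) :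
    Nat.card ↥(Subgroup.centralizer ({t} : Set G)) = 7680 := by
  have hset : (Subgroup.centralizer ({t} : Set G) : Set G) = el '' Set.Iio 7680 := by
    ext g
    constructor
    · intro hg
      obtain ⟨c, hc, e⟩ := C.surj g hg
      exact ⟨c, hc, e⟩
    · rintro ⟨c, hc, rfl⟩
      exact C.mem c hc
  show Nat.card ↑(Subgroup.centralizer ({t} : Set G) : Set G) = 7680
  rw [hset, Nat.card_coe_set_eq,
    Set.ncard_image_of_injOn (show Set.InjOn el (Set.Iio 7680) from fun c hc d hd => C.inj c d hc hd),
    Set.ncard_Iio_nat]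

/-- The copy of the Higman–Sims group as a subgroup. -/
theorem exists_equiv {G : Type*} [Group G] {t : G} {el : ℕ → G} {n : G} (C : Code t el) (A : Amal el n) :
    ∃ X : Subgroup G, Nonempty (↥HS.hsGroup ≃* ↥X) ∧ Subgroup.centralizer ({t} : Set G) ≤ X := by
  obtain ⟨φ, hinj, hle, -⟩ := exists_hom C A
  exact ⟨φ.range, ⟨MonoidHom.ofInjective hinj⟩, hle⟩

end CfsgLib.HSRec
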