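import Cfsg.Agent.Lib.HSRec.Lifts
import Cfsg.Agent.Lib.HSRec.Extract
import Cfsg.Agent.Lib.HSRec.Glue
import Cfsg.Agent.Lib.HSRec.Hom
import Cfsg.Agent.Lib.HSEndgame.Main

/-!
# Putting the pieces together
-/

set_option autoImplicit false
set_option linter.unusedSectionVars false
set_option maxRecDepth 100000
set_option synthInstance.maxSize 2000

namespace CfsgLib.HSRec.Pin

open Subgroup

variable {G : Type*} [Group G]

theorem iso_three_ok : ((List.range 16).all fun a => (List.range 16).all fun b => (List.range 16).all fun d =>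
    !(Nat.beq (om a b) 0 && Nat.beq (om a d) 0 && Nat.beq (om b d) 0) || Nat.beq a 0 || Nat.beq b 0 || Nat.beq a b ||
      Nat.beq d 0 || Nat.beq d a || Nat.beq d b || Nat.beq d (a ^^^ b)) = true := by decide +kernel

theorem iso_three (a : ℕ) (ha : a < 16) (b : ℕ) (hb : b < 16) (d : ℕ) (hd : d < 16) (h1 : om a b = 0) (h2 : om a d = 0)
    (h3 : om b d = 0) (a0 : a ≠ 0) (b0 : b ≠ 0) (ab : a ≠ b) : d = 0 ∨ d = a ∨ d = b ∨ d = a ^^^ b := by
  have h := List.all_eq_true.1 (List.all_eq_true.1 (List.all_eq_true.1 iso_three_ok a (List.mem_range.2 ha)) b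
    (List.mem_range.2 hb)) d (List.mem_range.2 hd)
  simp only [h1, h2, h3, Bool.or_eq_true, Nat.beq_eq] at h
  simp [a0, b0, ab] at h
  omega

/-- A code of a subgroup of order eight in the frame contains the central involution. -/
theorem t_mem_of_frame [Finite G] {t : G} {R V : Subgroup G} {q : ℕ → G} (F : Frame t R q) (hVR : V ≤ R)
    (hVcard : Nat.card V = 8) (hVcomm : ∀ a ∈ V, ∀ b ∈ V, a * b = b * a) (hVsq : ∀ a ∈ V, a * a = 1) : t ∈ V := by
  classical
  set L : Finset ℕ := (Finset.range 64).filter fun r => q r ∈ V with hL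
  have hmem : ∀ r, r ∈ L ↔ r < 64 ∧ q r ∈ V := fun r => by simp [hL]
  have hcard : 8 ≤ L.card := by
    have himg : (Set.toFinite (V : Set G)).toFinset ⊆ L.image q := fun g hg => by
      have hgV : g ∈ V := (Set.Finite.mem_toFinset _).1 hg
      obtain ⟨r, hr, e⟩ := F.surj g (hVR hgV)
      exact Finset.mem_image.2 ⟨r, (hmem r).2 ⟨hr, e ▸ hgV⟩, e⟩
    have h := (Finset.card_le_card himg).trans Finset.card_image_le
    rwa [← Set.ncard_eq_toFinset_card _ (Set.toFinite _), ← Nat.card_coe_set_eq, SetLike.coe_sort_coe, hVcard] at h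
  have sq : ∀ r ∈ L, hQ r r = 0 := fun r hr => by
    obtain ⟨h1, h2⟩ := (hmem r).1 hr
    refine F.inj _ _ (hQ_lt _ _) (by norm_num) ?_
    rw [← F.mul r r h1 h1, hVsq _ h2, F.one]
  have cm : ∀ r ∈ L, ∀ s ∈ L, hQ r s = hQ s r := fun r hr s hs => by
    obtain ⟨h1, h2⟩ := (hmem r).1 hr
    obtain ⟨h3, h4⟩ := (hmem s).1 hs
    refine F.inj _ _ (hQ_lt _ _) (hQ_lt _ _) ?_
    rw [← F.mul r s h1 h3, ← F.mul s r h3 h1, hVcomm _ h2 _ h4]
  -- two elements of one class have product the central involution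
  by_contra htV
  have hclass : Set.InjOn (fun r => r % 16) (L : Set ℕ) := by
    intro r hr s hs e
    have d : ∀ r < 64, ∀ s < 64, hQ r r = 0 → hQ s s = 0 → r % 16 = s % 16 → r = s ∨ hQ r s = 32 := by decide +kernel
    obtain ⟨h1, h2⟩ := (hmem r).1 (Finset.mem_coe.1 hr)
    obtain ⟨h3, h4⟩ := (hmem s).1 (Finset.mem_coe.1 hs)
    rcases d r h1 s h3 (sq r (Finset.mem_coe.1 hr)) (sq s (Finset.mem_coe.1 hs)) e with d | d
    · exact d
    · exact absurd (by rw [← F.t_eq, show tC = 32 from rfl, ← d, ← F.mul r s h1 h3]; exact mul_mem h2 h4) htV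
  set C : Finset ℕ := L.image fun r => r % 16 with hC
  have hCcard : C.card = L.card := Finset.card_image_of_injOn hclass
  have hCsub : C ⊆ Finset.range 16 := fun c hc => by
    obtain ⟨r, -, e⟩ := Finset.mem_image.1 hc
    exact Finset.mem_range.2 (e ▸ Nat.mod_lt _ (by norm_num))
  have hC0 : ∀ c ∈ C, ∀ d ∈ C, om c d = 0 := by
    intro c hc d hd
    obtain ⟨r, hr, rfl⟩ := Finset.mem_image.1 hc
    obtain ⟨s, hs, rfl⟩ := Finset.mem_image.1 hd
    have om0 : ∀ a < 64, ∀ b < 64, hQ a b = hQ b a → om (a % 16) (b % 16) = 0 := by decide +kernel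
    exact om0 r ((hmem r).1 hr).1 s ((hmem s).1 hs).1 (cm r hr s hs)
  -- a totally isotropic set has at most four members
  obtain ⟨a, haC, ha0⟩ := Finset.exists_mem_notMem_of_card_lt_card (s := ({0} : Finset ℕ)) (t := C)
    (by rw [Finset.card_singleton, hCcard]; omega)
  obtain ⟨b, hbC, hb0⟩ := Finset.exists_mem_notMem_of_card_lt_card (s := ({0, a} : Finset ℕ)) (t := C)
    (Finset.card_le_two.trans_lt (by rw [hCcard]; omega))
  simp only [Finset.mem_singleton, Finset.mem_insert, not_or] at ha0 hb0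
  have hsub : C ⊆ ({0, a, b, a ^^^ b} : Finset ℕ) := fun d hd => by
    rcases iso_three a (Finset.mem_range.1 (hCsub haC)) b (Finset.mem_range.1 (hCsub hbC)) d (Finset.mem_range.1 (hCsub hd))
      (hC0 a haC b hbC) (hC0 a haC d hd) (hC0 b hbC d hd) ha0 hb0.1 (Ne.symm hb0.2) with e | e | e | e <;> simp [e]
  have := (Finset.card_le_card hsub).trans Finset.card_le_four
  omega

end CfsgLib.HSRec.Pin

namespace CfsgLib.HSRec

open Subgroup

/-- A centraliser with a frame and the data of the local subgroup, given coordinates for the lifts. -/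
theorem isoHS_of_pieces {G : Type*} [Group G] [Finite G] {t : G} {R V M : Subgroup G}
    {π : ↥(centralizer ({t} : Set G)) →* Equiv.Perm (Fin 5)} (S : Pin.Setting t R V π) {q : ℕ → G}
    (F : Pin.Frame t R q)
    (hcode : ∀ (q : ℕ → G) (a b : G), Pin.Lifted t R V q a b →
      ∃ el, Code t el ∧ ∀ g, g ∈ V ↔ ∃ x ∈ vSet, el x = g)
    (hlocal : ∀ el : ℕ → G, Code t el → (∀ g, g ∈ V ↔ ∃ x ∈ vSet, el x = g) → Local el M) :
    Cfsg.Spor.IsoHS G := by
  obtain ⟨q', a, b, L⟩ := Pin.exists_lifted S F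
  obtain ⟨el, C, hV⟩ := hcode q' a b L
  obtain ⟨el', n, C', -, A, -⟩ := Glue.exists_glue C (hlocal el C hV)
  obtain ⟨φ, hφ, hle, -⟩ := exists_hom C' A
  exact HSEndgame.isoHS_of_hom S.ht (card_centralizer C') φ hφ hle

end CfsgLib.HSRec
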