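import Mathlib
import Mathlib.Data.Nat.Bitwise
import Cfsg.Agent.Lib.HSRec.Data

/-!
# The interface: the centraliser as codes, the exchanging element
-/

set_option autoImplicit false

namespace CfsgLib.HSRec

/-- An entry of a packed row. -/
def hGet (T : List ℕ) (w i j : ℕ) : ℕ := ((T.getD i 0) >>> (w * j)) % 2 ^ w

/-- The product in the normal subgroup of order 64: the bits 0..3 of a code stand for four involutions
`x₁, y₁, x₂, y₂`, the two top bits for the power of the central element of order four. -/
def hQ (r r' : ℕ) : ℕ :=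
  ((r % 16) ^^^ (r' % 16)) +
    16 * ((r / 16 + r' / 16 + 2 * ((r / 2) % 2 * (r' % 2) + (r / 8) % 2 * (r' / 4 % 2))) % 4)

/-- The product of two codes. -/
def hMul (c d : ℕ) : ℕ :=
  let u := hGet cocT 13 (c / 64) (d / 64)
  hQ (hQ (c % 64) (hGet actT 6 (c / 64) (d % 64))) (u % 64) + 64 * (u / 64)

/-- The code of the involution. -/
def tC : ℕ := 32

/-- The code of the central element of order four of the normal subgroup. -/
def iC : ℕ := 16

/-- The code of the second involution. -/
def sC : ℕ := 1

/-- With `sC` and `tC` this generates the elementary subgroup of order eight. -/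
def vC : ℕ := 4

/-- An involution fixing `tC`, taking `sC` to `sC * tC` and normalising that subgroup. -/
def hC : ℕ := 911

variable {G : Type*} [Group G]

/-- The centraliser of `t` is coded by `el`; the codes below 64 form the normal subgroup of order 64. -/
structure Code (t : G) (el : ℕ → G) : Prop where
  one : el 0 = 1
  mul : ∀ c d, c < 7680 → d < 7680 → hMul c d < 7680 ∧ el c * el d = el (hMul c d)
  mem : ∀ c, c < 7680 → el c ∈ Subgroup.centralizer ({t} : Set G)
  inj : ∀ c d, c < 7680 → d < 7680 → el c = el d → c = d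
  surj : ∀ g ∈ Subgroup.centralizer ({t} : Set G), ∃ c, c < 7680 ∧ el c = g
  t_eq : el tC = t

/-- The elementary subgroup of order eight. -/
def vSet : List ℕ := [0, 1, 4, 5, 32, 33, 36, 37]

/-- `V` has order eight, its normaliser acts on it as the full linear group, and its centraliser there is abelian
of exponent four with exactly eight elements of order at most two, all in `V`. -/
structure Local (el : ℕ → G) (M : Subgroup G) : Prop where
  norm : M = Subgroup.normalizer (el '' {c | c ∈ vSet})
  card : Nat.card M = 10752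
  trans : ∀ a b : ℕ, a ∈ vSet → b ∈ vSet → a ≠ 0 → b ≠ 0 → ∃ g ∈ M, g * el a * g⁻¹ = el b
  pairs : ∀ a b : ℕ, a ∈ vSet → b ∈ vSet → a ≠ 0 → b ≠ 0 → a ≠ b →
    ∃ g ∈ M, g * el a * g⁻¹ = el b ∧ g * el b * g⁻¹ = el a
  comm : ∀ g h : G, (∀ a ∈ vSet, Commute g (el a)) → (∀ a ∈ vSet, Commute h (el a)) → Commute g h
  four : ∀ g : G, (∀ a ∈ vSet, Commute g (el a)) → g ^ 4 = 1
  invol : ∀ g : G, (∀ a ∈ vSet, Commute g (el a)) → g * g = 1 → ∃ a ∈ vSet, el a = g

/-- The element exchanging the two involutions. -/
structure Amal (el : ℕ → G) (n : G) : Prop where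
  sq : n * n = 1
  cube : (n * el hC) ^ 3 = 1
  conj : ∀ x ∈ dPairs, n * el x.1 = el x.2 * n

end CfsgLib.HSRec
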