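import Mathlib.Data.Nat.Notation

/-!
The derived tables for the three values of the relations which are refuted in `Cases` (tools/hs/steps.py).
-/

set_option autoImplicit false
set_option maxRecDepth 10000

namespace CfsgLib.HSRec.Pin

/-- The table of the values [32, 0, 30, 0], where it is needed. -/
def uRoots : List ℕ := [
  0, 0, 32, 0, 0, 0, 0, 0, 32, 0, 0, 0, 32, 0, 0, 0, 0, 0, 64, 0,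
  0, 0, 0, 0, 32, 0, 0, 0, 64, 0, 0, 0, 0, 0, 32, 0, 0, 0, 32, 62,
  0, 0, 0, 0, 32, 0, 37, 0, 5, 0, 32, 0, 0, 0, 32, 0, 0, 0, 0, 0,
  32, 0, 32, 0, 0, 0, 64, 0, 0, 0, 0, 0, 0, 0, 0, 0, 64, 0, 64, 0,
  10, 0, 32, 0, 64, 0, 64, 0, 64, 0, 0, 0, 0, 0, 32, 0, 2, 0, 34, 0,
  64, 0, 64, 0, 32, 0, 64, 0, 32, 0, 0, 0, 64, 0, 0, 0, 0, 0, 64, 0,
  0, 33, 64, 0, 64, 0, 64, 0, 64, 0, 64, 0, 32, 0, 0, 0, 0, 64, 40, 0,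
  0, 64, 38, 0, 6, 0, 64, 0, 10, 0, 64, 0, 64, 0, 64, 0, 64, 0, 64, 0,
  64, 0, 64, 0, 0, 0, 64, 0, 64, 64, 64, 0, 60, 0, 64, 62, 37, 0, 32, 0,
  33, 0, 64, 0, 0, 0, 64, 0, 29, 22, 42, 0, 0, 0, 0, 22, 64, 64, 64, 64,
  64, 0, 51, 54, 64, 64, 32, 14, 15, 0, 47, 0, 64, 12, 64, 33, 64, 64, 64, 0,
  51, 64, 64, 64, 64, 64, 64, 64, 64, 1, 64, 0, 32, 0, 51, 64, 64, 0, 9, 44]

/-- The table of the values [0, 0, 62, 32], where it is needed. -/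
def uCentA : List ℕ := [
  0, 0, 0, 0, 0, 0, 0, 0, 0, 0, 0, 0, 0, 0, 0, 0, 0, 0, 64, 0,
  0, 0, 0, 0, 0, 0, 0, 0, 64, 0, 0, 0, 0, 0, 0, 0, 0, 0, 0, 62,
  0, 0, 0, 0, 0, 0, 5, 0, 5, 0, 0, 0, 0, 0, 0, 0, 0, 0, 0, 0,
  0, 0, 0, 0, 0, 0, 64, 0, 0, 0, 0, 0, 0, 0, 0, 0, 64, 0, 64, 0,
  10, 0, 0, 0, 64, 0, 64, 0, 64, 0, 0, 0, 0, 0, 0, 0, 34, 0, 34, 0,
  64, 0, 64, 0, 0, 0, 64, 0, 0, 0, 0, 0, 64, 0, 0, 0, 0, 0, 64, 0,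
  0, 33, 64, 0, 64, 0, 64, 0, 64, 0, 64, 0, 0, 0, 0, 0, 0, 64, 8, 0,
  0, 64, 6, 0, 6, 0, 64, 0, 42, 0, 64, 0, 64, 0, 64, 0, 64, 0, 64, 0,
  64, 0, 64, 0, 0, 0, 64, 0, 64, 64, 64, 0, 60, 0, 64, 62, 37, 0, 0, 0,
  33, 0, 64, 0, 0, 0, 64, 0, 29, 22, 42, 0, 0, 0, 0, 22, 64, 64, 64, 64,
  64, 0, 51, 54, 64, 64, 0, 14, 47, 0, 47, 0, 64, 44, 64, 33, 64, 64, 64, 0,
  51, 64, 64, 64, 64, 64, 64, 64, 64, 1, 64, 0, 0, 0, 19, 64, 64, 0, 9, 12]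

/-- The table of the values [32, 0, 62, 0], where it is needed. -/
def uCentB : List ℕ := [
  0, 0, 32, 0, 0, 0, 0, 0, 32, 0, 0, 0, 32, 0, 0, 0, 0, 0, 64, 0,
  0, 0, 0, 0, 32, 0, 0, 0, 64, 0, 0, 0, 0, 0, 32, 0, 0, 0, 32, 30,
  0, 0, 0, 0, 32, 0, 5, 0, 37, 0, 32, 0, 0, 0, 32, 0, 0, 0, 0, 0,
  32, 0, 32, 0, 0, 0, 64, 0, 0, 0, 0, 0, 0, 0, 0, 0, 64, 0, 64, 0,
  42, 0, 32, 0, 64, 0, 64, 0, 64, 0, 0, 0, 0, 0, 32, 0, 34, 0, 2, 0,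
  64, 0, 64, 0, 32, 0, 64, 0, 32, 0, 0, 0, 64, 0, 0, 0, 0, 0, 64, 0,
  0, 1, 64, 0, 64, 0, 64, 0, 64, 0, 64, 0, 32, 0, 0, 0, 0, 64, 40, 0,
  0, 64, 6, 0, 38, 0, 64, 0, 10, 0, 64, 0, 64, 0, 64, 0, 64, 0, 64, 0,
  64, 0, 64, 0, 0, 0, 64, 0, 64, 64, 64, 0, 28, 0, 64, 30, 37, 0, 32, 0,
  1, 0, 64, 0, 0, 0, 64, 0, 29, 22, 42, 0, 0, 0, 0, 22, 64, 64, 64, 64,
  64, 0, 19, 54, 64, 64, 32, 14, 47, 0, 15, 0, 64, 12, 64, 1, 64, 64, 64, 0,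
  19, 64, 64, 64, 64, 64, 64, 64, 64, 1, 64, 0, 32, 0, 51, 64, 64, 0, 41, 44]

/-- The table at the start. -/
def treeL : List ℕ := [
  0, 0, 64, 0, 0, 0, 0, 0, 64, 0, 0, 0, 64, 0, 0, 0, 0, 0, 64, 0,
  0, 0, 0, 0, 64, 0, 0, 0, 64, 0, 0, 0, 0, 0, 64, 0, 0, 64, 64, 64,
  0, 0, 0, 0, 64, 0, 64, 64, 64, 0, 64, 0, 0, 0, 64, 0, 0, 0, 0, 0,
  64, 0, 64, 0, 0, 0, 64, 0, 0, 0, 0, 0, 0, 0, 0, 0, 64, 0, 64, 64,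
  64, 0, 64, 0, 64, 0, 64, 0, 64, 0, 0, 0, 0, 0, 64, 0, 64, 64, 64, 0,
  64, 0, 64, 0, 64, 0, 64, 0, 64, 0, 0, 0, 64, 0, 0, 0, 0, 0, 64, 0,
  0, 64, 64, 64, 64, 0, 64, 0, 64, 0, 64, 0, 64, 0, 0, 0, 0, 64, 64, 0,
  0, 64, 64, 64, 64, 0, 64, 0, 64, 0, 64, 0, 64, 64, 64, 0, 64, 0, 64, 0,
  64, 0, 64, 0, 0, 0, 64, 0, 64, 64, 64, 64, 64, 0, 64, 64, 64, 0, 64, 0,
  64, 0, 64, 0, 0, 0, 64, 0, 64, 64, 64, 64, 0, 0, 0, 64, 64, 64, 64, 64,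
  64, 64, 64, 64, 64, 64, 64, 64, 64, 64, 64, 0, 64, 64, 64, 64, 64, 64, 64, 64,
  64, 64, 64, 64, 64, 64, 64, 64, 64, 64, 64, 0, 64, 0, 64, 64, 64, 64, 64, 64]

/-- The steps needed for the scan (2, 2). -/
def stepA : List (ℕ × ℕ × ℕ) := [
  (0, 0, 1), (1, 1, 4), (2, 1, 6)]

/-- The steps needed for the scan (3, 21). -/
def stepB : List (ℕ × ℕ × ℕ) := [
  (0, 0, 1), (0, 2, 1), (0, 3, 1), (0, 5, 1), (0, 8, 1), (0, 18, 1), (0, 20, 1),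
  (0, 21, 1), (0, 26, 1), (0, 34, 1), (1, 0, 4), (1, 1, 4), (1, 4, 4), (1, 6, 4),
  (1, 9, 4), (1, 12, 4), (1, 14, 4), (1, 31, 4), (1, 33, 4), (2, 0, 5), (2, 4, 6),
  (2, 6, 6), (2, 9, 6), (2, 14, 6), (2, 31, 6), (2, 33, 6), (3, 10, 5), (0, 39, 0),
  (0, 76, 0), (1, 43, 4), (3, 1, 9), (3, 2, 9), (0, 84, 0), (2, 38, 7), (3, 15, 5)]

/-- The steps needed for the counts and the witnesses. -/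
def stepW : List (ℕ × ℕ × ℕ) := [
  (0, 0, 1), (0, 2, 1), (0, 3, 1), (0, 7, 1), (0, 10, 1), (0, 11, 1), (0, 13, 1),
  (0, 15, 1), (0, 16, 1), (0, 18, 1), (0, 20, 1), (0, 28, 1), (0, 32, 1), (0, 35, 1),
  (0, 36, 1), (0, 46, 1), (0, 67, 1), (0, 82, 1), (0, 97, 1), (1, 0, 4), (1, 1, 4),
  (1, 4, 4), (1, 6, 4), (1, 9, 4), (1, 12, 4), (1, 14, 4), (1, 17, 4), (1, 22, 4),
  (1, 25, 4), (1, 27, 4), (1, 31, 4), (1, 54, 4), (2, 0, 5), (2, 1, 6), (2, 4, 6),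
  (2, 6, 6), (2, 12, 6), (2, 17, 6), (2, 25, 6), (2, 27, 6), (2, 31, 6), (2, 54, 6),
  (3, 8, 12), (3, 18, 5), (0, 23, 0), (0, 48, 0), (0, 71, 0), (0, 104, 0), (1, 19, 4),
  (1, 52, 4), (1, 64, 4), (2, 19, 6), (2, 22, 6), (3, 0, 9), (3, 5, 9), (0, 74, 1),
  (2, 47, 7), (2, 103, 7), (3, 20, 5), (3, 26, 7), (3, 54, 14), (3, 71, 5), (2, 89, 7)]

end CfsgLib.HSRec.Pin
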