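import Cfsg.Agent.Lib.HSRec.Lifted
import Cfsg.Agent.Lib.HSRec.CasesData

/-!
# The values of the four relations

The second generator may be changed to one of order five. The scans leave four values; two of them make the
centraliser of the elementary subgroup non-abelian, one forbids an element exchanging the two involutions.
-/

set_option autoImplicit false
set_option maxRecDepth 100000

namespace CfsgLib.HSRec.Pin

open Subgroup

/-- The codes that may be the value of a relation: fixed by it, and giving its conjugation. -/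
def candL (w : List ℕ) : List ℕ :=
  (List.range 64).filter fun r =>
    Nat.beq (actW w r) r && (List.range 64).all fun x => Nat.beq (hQ r x) (hQ (actW w x) r)

/-- The centre of the normal subgroup. -/
def zSet : List ℕ := [0, 16, 32, 48]

theorem cand_eq : candL (relW.getD 0 []) = zSet ∧ candL (relW.getD 1 []) = zSet ∧
    candL (relW.getD 2 []) = [14, 30, 46, 62] ∧ candL (relW.getD 3 []) = zSet := by decide +kernel

/-- The table after some steps. -/
def partT (v : List ℕ) (steps : List (ℕ × ℕ × ℕ)) : List ℕ :=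
  steps.foldl (fun U s => frL (dStep v U s) id) treeL

theorem tree_eq : tree = treeL := by decide +kernel

/-- A scan after some steps fails. -/
def scanB (v : List ℕ) (steps : List (ℕ × ℕ × ℕ)) (i k : ℕ) : Bool :=
  match walk (partT v steps) (relW.getD i []) 0 k with
  | some (y, k') => Nat.beq k' k && !Nat.beq y (act k (v.getD i 0))
  | none => false

/-- The scans at two classes fail. -/
def deadB (v : List ℕ) : Bool := scanB v stepA 2 2 || scanB v stepB 3 21

/-- The values of the model and those refuted otherwise. -/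
def leftV : List (List ℕ) := [vHS, [32, 0, 30, 0], [0, 0, 62, 32], [32, 0, 62, 0]]

theorem dead_ok : (zSet.all fun e1 => [14, 30, 46, 62].all fun e3 => zSet.all fun e4 =>
    !(Nat.beq (act 1 e1) e1) || leftV.contains [e1, 0, e3, e4] || deadB [e1, 0, e3, e4]) = true := by
  decide +kernel

theorem bad_eq : partT [32, 0, 30, 0] stepW = uRoots ∧ partT [0, 0, 62, 32] stepW = uCentA ∧
    partT [32, 0, 62, 0] stepW = uCentB := by decide +kernel

/-- The product of two codes by a table. -/
def gMul (U : List ℕ) (c d : ℕ) : ℕ :=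
  match walk U (repW.getD (d / 64) []) 0 (c / 64) with
  | some (u, k) => frN (hQ (hQ (c % 64) (act (c / 64) (d % 64))) u) fun x => x + 64 * k
  | none => 7680

/-- Two codes centralise the elementary subgroup and do not commute. -/
def witB (U : List ℕ) (c d : ℕ) : Bool :=
  (vSet.all fun x => Nat.blt (gMul U c x) 7680 && Nat.beq (gMul U c x) (gMul U x c) &&
      Nat.blt (gMul U d x) 7680 && Nat.beq (gMul U d x) (gMul U x d)) &&
    Nat.blt (gMul U c d) 7680 && !Nat.beq (gMul U c d) (gMul U d c) && Nat.blt (gMul U d c) 7680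

theorem wit_ok : witB uCentA 896 3840 = true ∧ witB uCentB 896 3840 = true := by decide +kernel

/-- The code commutes with the second involution. -/
def inS (c : ℕ) : Bool := Nat.beq (hQ (c % 64) (act (c / 64) sC)) (hQ sC (c % 64))

/-- The square roots in the centraliser of both involutions. -/
def rootL (x : ℕ) : List ℕ :=
  ((List.range 7680).filter inS).filter fun c => Nat.beq (gMul uRoots c c) x

theorem roots_ok : (rootL tC).length = 56 ∧ (rootL sC).length = 24 ∧
    (((List.range 7680).filter inS).all fun c => Nat.blt (gMul uRoots c c) 7680) = true := by decide +kernel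

theorem z_facts : ∀ z ∈ zSet, z < 64 ∧ act 1 z ∈ zSet ∧ act 2 z = z ∧
    (∀ y ∈ zSet, hQ z y ∈ zSet) ∧ (∀ x < 64, hQ z x = hQ x z) ∧
      hQ z (hQ (hQ (hQ (hQ ((64 - z) % 64) ((64 - z) % 64)) ((64 - z) % 64)) ((64 - z) % 64)) ((64 - z) % 64)) = 0 ∧
        (64 - z) % 64 ∈ zSet := by
  decide +kernel

variable {G : Type*} [Group G]

namespace Lifted

variable {t : G} {R V : Subgroup G} {q : ℕ → G} {a b : G} (L : Lifted t R V q a b)

include L

theorem exists_vals : ∃ v : List ℕ, v.length = 4 ∧ Gens q a b v := by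
  obtain ⟨r0, h0, e0⟩ := L.frame.surj _ (L.rel_mem 0 (by decide))
  obtain ⟨r1, h1, e1⟩ := L.frame.surj _ (L.rel_mem 1 (by decide))
  obtain ⟨r2, h2, e2⟩ := L.frame.surj _ (L.rel_mem 2 (by decide))
  obtain ⟨r3, h3, e3⟩ := L.frame.surj _ (L.rel_mem 3 (by decide))
  refine ⟨[r0, r1, r2, r3], rfl, L.frame.one, L.frame.mul, L.frame.inj, L.conj, fun i hi => ?_⟩
  interval_cases i
  exacts [⟨h0, e0.symm⟩, ⟨h1, e1.symm⟩, ⟨h2, e2.symm⟩, ⟨h3, e3.symm⟩]

theorem val_mem {v : List ℕ} (S : Gens q a b v) {i : ℕ} (hi : i < 4) :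
    v.getD i 0 ∈ candL (relW.getD i []) := by
  obtain ⟨hv, e⟩ := S.vals i hi
  simp only [candL, List.mem_filter, List.mem_range, Bool.and_eq_true, List.all_eq_true, Nat.beq_eq]
  refine ⟨hv, ?_, fun x hx => ?_⟩
  · obtain ⟨hlt, h⟩ := S.actW_spec (relW.getD i []) _ hv
    rw [e] at h
    exact S.inj _ _ hlt hv (mul_right_cancel h.symm)
  · obtain ⟨hlt, h⟩ := S.actW_spec (relW.getD i []) x hx
    rw [e, S.mul _ _ hv hx, S.mul _ _ hlt hv] at h
    exact S.inj _ _ (hQ_lt _ _) (hQ_lt _ _) h

theorem central {z : ℕ} (hz : z ∈ zSet) {x : ℕ} (hx : x < 64) : q z * q x = q x * q z := by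
  obtain ⟨h64, -, -, -, hc, -⟩ := z_facts z hz
  rw [L.frame.mul _ _ h64 hx, L.frame.mul _ _ hx h64, hc x hx]

theorem shift {z : ℕ} (hz : z ∈ zSet) (w : List ℕ) :
    ∃ u ∈ zSet, wEl a (b * q z) w = q u * wEl a b w := by
  induction w with
  | nil => exact ⟨0, by decide, by simp [wEl, L.frame.one]⟩
  | cons l w ih =>
    obtain ⟨u, hu, e⟩ := ih
    obtain ⟨h64, ha, hb, hm, -, -⟩ := z_facts u hu
    obtain ⟨z64, -, zb, -⟩ := z_facts z hz
    obtain ⟨ca, cb⟩ := L.conj u h64
    rw [wEl_cons, wEl_cons, e]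
    by_cases hl : l = 0
    · simp only [hl, if_true]
      exact ⟨_, ha, by rw [← mul_assoc, ca, mul_assoc]⟩
    · simp only [hl, if_false]
      refine ⟨hQ u z, hm z hz, ?_⟩
      rw [← L.frame.mul _ _ h64 z64, mul_assoc b (q z), ← mul_assoc (q z), L.central hz h64, ← mul_assoc b,
        ← mul_assoc b, cb, hb, mul_assoc (q u) b, (L.conj z z64).2, zb]
      simp only [mul_assoc]

/-- The second generator times a central element. -/
theorem mul_central {z : ℕ} (hz : z ∈ zSet) : Lifted t R V q a (b * q z) := by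
  obtain ⟨z64, -, -, -⟩ := z_facts z hz
  have hmul : ∀ {r u : ℕ}, r < 64 → u < 64 → ∀ g : G, q r * (q u * g) = q (hQ r u) * g := fun hr hu g => by
    rw [← mul_assoc, L.frame.mul _ _ hr hu]
  refine ⟨L.frame, L.RH, L.a_mem, mul_mem L.b_mem (L.RH (L.frame.mem _ z64)), fun r hr => ⟨(L.conj r hr).1, ?_⟩,
    fun i hi => ?_, fun r r' k k' hr hr' hk hk' e => ?_, fun g hg => ?_, L.V_eq, L.centV, L.swap⟩
  · rw [mul_assoc, L.central hz hr, ← mul_assoc, (L.conj r hr).2, mul_assoc]
  · obtain ⟨u, hu, e⟩ := L.shift hz (relW.getD i [])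
    rw [e]
    exact mul_mem (L.frame.mem _ (z_facts u hu).1) (L.rel_mem i hi)
  · obtain ⟨u, hu, e1⟩ := L.shift hz (repW.getD k [])
    obtain ⟨u', hu', e2⟩ := L.shift hz (repW.getD k' [])
    have h64 := (z_facts u hu).1
    have h64' := (z_facts u' hu').1
    simp only [rep] at e
    rw [e1, e2, hmul hr h64, hmul hr' h64'] at e
    obtain ⟨h, rfl⟩ := L.inj _ _ _ _ (hQ_lt _ _) (hQ_lt _ _) hk hk' e
    have : q u * wEl a b (repW.getD k []) = q u' * wEl a b (repW.getD k []) := e1.symm.trans e2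
    obtain rfl := L.frame.inj _ _ h64 h64' (mul_right_cancel this)
    have : q r * q u = q r' * q u := by rw [L.frame.mul _ _ hr h64, L.frame.mul _ _ hr' h64, h]
    exact ⟨L.frame.inj _ _ hr hr' (mul_right_cancel this), rfl⟩
  · obtain ⟨r, k, hr, hk, rfl⟩ := L.surj g hg
    obtain ⟨u, hu, e1⟩ := L.shift hz (repW.getD k [])
    obtain ⟨u', hu', e2⟩ := hQ_rinv r hr u (z_facts u hu).1
    refine ⟨u', k, hu', hk, ?_⟩
    simp only [rep]
    rw [e1, hmul hu' (z_facts u hu).1, e2]

theorem normalise : ∃ b' : G, Lifted t R V q a b' ∧ wEl a b' (relW.getD 1 []) = 1 := by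
  obtain ⟨v, -, S⟩ := L.exists_vals
  obtain ⟨hr, e⟩ := S.vals 1 (by decide)
  have hz : v.getD 1 0 ∈ zSet := cand_eq.2.1 ▸ L.val_mem S (by decide : (1 : ℕ) < 4)
  obtain ⟨-, -, -, -, -, h0, hw⟩ := z_facts _ hz
  generalize hzdef : (64 - v.getD 1 0) % 64 = z at h0 hw
  obtain ⟨z64, -, hzb, -⟩ := z_facts z hw
  refine ⟨b * q z, L.mul_central hw, ?_⟩
  have hcm : Commute b (q z) := by
    show b * q z = q z * b
    rw [(L.conj z z64).2, hzb]
  have h5 : ∀ g : G, wEl a g (relW.getD 1 []) = g ^ 5 := fun g => by simp [wEl, relW, pow_succ, mul_assoc]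
  have e5 : q z ^ 5 = q (hQ (hQ (hQ (hQ z z) z) z) z) := by
    rw [pow_succ, pow_succ, pow_succ, pow_two, L.frame.mul _ _ z64 z64, L.frame.mul _ _ (hQ_lt _ _) z64,
      L.frame.mul _ _ (hQ_lt _ _) z64, L.frame.mul _ _ (hQ_lt _ _) z64]
  rw [h5, hcm.mul_pow, ← h5 b, e, e5, L.frame.mul _ _ hr (hQ_lt _ _), h0, L.frame.one]

theorem genEl_small {x : ℕ} (hx : x < 64) : genEl q a b x = q x := by
  rw [genEl, Nat.mod_eq_of_lt hx, Nat.div_eq_of_lt hx]
  simp [rep, wEl, repW]

theorem genEl_inj {c d : ℕ} (hc : c < 7680) (hd : d < 7680) (e : genEl q a b c = genEl q a b d) : c = d := by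
  obtain ⟨h1, h2⟩ := L.inj _ _ _ _ (Nat.mod_lt c (by decide)) (Nat.mod_lt d (by decide))
    (by omega : c / 64 < 120) (by omega : d / 64 < 120) e
  omega

theorem genEl_mem {c : ℕ} : genEl q a b c ∈ centralizer ({t} : Set G) := by
  refine mul_mem (L.RH (L.frame.mem _ (Nat.mod_lt _ (by decide)))) ?_
  refine list_prod_mem fun x hx => ?_
  obtain ⟨l, -, rfl⟩ := List.mem_map.1 hx
  split
  exacts [L.a_mem, L.b_mem]

theorem genEl_surj {g : G} (hg : g ∈ centralizer ({t} : Set G)) : ∃ c, c < 7680 ∧ genEl q a b c = g := by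
  obtain ⟨r, k, hr, hk, rfl⟩ := L.surj g hg
  exact ⟨r + 64 * k, by omega, by rw [genEl, show (r + 64 * k) % 64 = r by omega, show (r + 64 * k) / 64 = k by omega]⟩

variable {v : List ℕ} (S : Gens q a b v)

include S

theorem part_right (steps : List (ℕ × ℕ × ℕ)) : Right q a b (partT v steps) := by
  have h : ∀ (l : List (ℕ × ℕ × ℕ)) (U : List ℕ), Right q a b U →
      Right q a b (l.foldl (fun U s => frL (dStep v U s) id) U) := by
    intro l
    induction l with
    | nil => intro U hU; exact hU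
    | cons s l ih => intro U hU; refine ih _ ?_; simp only [frL_eq, id]; exact S.step_right hU s
  exact h _ _ (tree_eq ▸ S.tree_right)

theorem el_gMul {U : List ℕ} (hU : partT v stepW = U) {c d : ℕ} (hc : c < 7680) (h : gMul U c d < 7680) :
    genEl q a b c * genEl q a b d = genEl q a b (gMul U c d) := by
  have hk : c / 64 < 120 := by omega
  have hr : c % 64 < 64 := Nat.mod_lt _ (by decide)
  have hr' : d % 64 < 64 := Nat.mod_lt _ (by decide)
  revert h
  unfold gMul
  cases hw : walk U (repW.getD (d / 64) []) 0 (c / 64) with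
  | none => simp
  | some p =>
    obtain ⟨u, k⟩ := p
    simp only [frN_eq]
    intro _
    obtain ⟨hu, -, h3⟩ := S.walk_spec (L.part_right S stepW) _ _ _ _ _ (by norm_num) hk (hU.symm ▸ hw)
    rw [S.one, one_mul] at h3
    have hy := hQ_lt (hQ (c % 64) (act (c / 64) (d % 64))) u
    rw [genEl, genEl, genEl, show (hQ (hQ (c % 64) (act (c / 64) (d % 64))) u + 64 * k) % 64 =
      hQ (hQ (c % 64) (act (c / 64) (d % 64))) u by omega, show (hQ (hQ (c % 64) (act (c / 64) (d % 64))) u + 64 * k) /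
      64 = k by omega, ← S.mul _ _ (hQ_lt _ _) hu, ← S.mul _ _ hr (act_lt _ _), mul_assoc,
      ← mul_assoc (rep a b (c / 64)), S.rep_conj hk hr', mul_assoc _ (rep a b (c / 64))]
    show q (c % 64) * (q (act (c / 64) (d % 64)) * (rep a b (c / 64) * wEl a b (repW.getD (d / 64) []))) = _
    rw [h3]
    simp only [mul_assoc]

theorem scan_false {steps : List (ℕ × ℕ × ℕ)} {i k : ℕ} (hi : i < 4) (hk : k < 120)
    (h : scanB v steps i k = true) : False := by
  have hR := L.part_right S steps
  unfold scanB at h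
  cases hw : walk (partT v steps) (relW.getD i []) 0 k with
  | none => rw [hw] at h; exact Bool.noConfusion h
  | some p =>
    obtain ⟨y, k'⟩ := p
    rw [hw] at h
    simp only [Bool.and_eq_true, Nat.beq_eq, Bool.not_eq_true'] at h
    obtain ⟨rfl, hne⟩ := h
    obtain ⟨hy, -, e⟩ := S.walk_spec hR _ _ _ _ _ (by norm_num) hk hw
    obtain ⟨hv, hrel⟩ := S.vals i hi
    rw [S.one, one_mul, hrel, S.rep_conj hk hv] at e
    have : Nat.beq y (act k' (v.getD i 0)) = true :=
      Nat.beq_eq ▸ (S.inj _ _ (act_lt _ _) hy (mul_right_cancel e)).symm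
    rw [this] at hne
    exact Bool.noConfusion hne

theorem not_cent {U : List ℕ} (hU : partT v stepW = U) (h : witB U 896 3840 = true) : False := by
  simp only [witB, Bool.and_eq_true, List.all_eq_true, Nat.blt_eq, Nat.beq_eq, Bool.not_eq_true'] at h
  obtain ⟨⟨⟨hV, l1⟩, hne⟩, l2⟩ := h
  have hc : ∀ c, (c = 896 ∨ c = 3840) → ∀ x ∈ vSet, Commute (genEl q a b c) (q x) := by
    intro c hc x hx
    have hx64 : x < 64 := by
      simp only [vSet, List.mem_cons, List.not_mem_nil, or_false] at hx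
      omega
    have hc' : c < 7680 := by omega
    obtain ⟨k1, k2⟩ : gMul U c x < 7680 ∧ gMul U c x = gMul U x c := by
      obtain ⟨⟨⟨a1, a2⟩, a3⟩, a4⟩ := hV x hx
      rcases hc with rfl | rfl
      exacts [⟨a1, a2⟩, ⟨a3, a4⟩]
    rw [← L.genEl_small hx64]
    show _ * _ = _ * _
    rw [L.el_gMul S hU hc' k1, L.el_gMul S hU (by omega : x < 7680) (k2 ▸ k1), k2]
  have e := L.centV _ _ (hc 896 (Or.inl rfl)) (hc 3840 (Or.inr rfl))
  have e' : genEl q a b 896 * genEl q a b 3840 = genEl q a b 3840 * genEl q a b 896 := e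
  rw [L.el_gMul S hU (by decide) l1, L.el_gMul S hU (by decide) l2] at e'
  have : Nat.beq (gMul U 896 3840) (gMul U 3840 896) = true := Nat.beq_eq ▸ L.genEl_inj l1 l2 e'
  rw [this] at hne
  exact Bool.noConfusion hne

theorem inS_iff {c : ℕ} (hc : c < 7680) :
    inS c = true ↔ genEl q a b c * q sC = q sC * genEl q a b c := by
  have hk : c / 64 < 120 := by omega
  have hr : c % 64 < 64 := Nat.mod_lt _ (by decide)
  have e1 : genEl q a b c * q sC = q (hQ (c % 64) (act (c / 64) sC)) * rep a b (c / 64) := by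
    rw [genEl, mul_assoc, S.rep_conj hk (by decide), ← mul_assoc, S.mul _ _ hr (act_lt _ _)]
  have e2 : q sC * genEl q a b c = q (hQ sC (c % 64)) * rep a b (c / 64) := by
    rw [genEl, ← mul_assoc, S.mul _ _ (by decide) hr]
  rw [e1, e2, inS, Nat.beq_eq]
  exact ⟨fun h => by rw [h], fun h => S.inj _ _ (hQ_lt _ _) (hQ_lt _ _) (mul_right_cancel h)⟩

theorem not_roots (hU : partT v stepW = uRoots) : False := by
  obtain ⟨n, n1, n2⟩ := L.swap
  obtain ⟨h56, h24, hlt⟩ := roots_ok
  simp only [List.all_eq_true, Nat.blt_eq] at hlt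
  have step : ∀ c ∈ rootL tC, ∃ d ∈ rootL sC, genEl q a b d = n * genEl q a b c * n⁻¹ := by
    intro c hc
    simp only [rootL, List.mem_filter, List.mem_range, Nat.beq_eq] at hc
    obtain ⟨⟨hc1, hc2⟩, hc3⟩ := hc
    have hs := (L.inS_iff S hc1).1 hc2
    have ht : genEl q a b c * t = t * genEl q a b c := mem_centralizer_singleton_iff.1 L.genEl_mem
    have hsq : genEl q a b c * genEl q a b c = t := by
      rw [L.el_gMul S hU hc1 (by rw [hc3]; decide), hc3, L.genEl_small (x := tC) (by decide), L.frame.t_eq]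
    obtain ⟨d, hd, ed⟩ := L.genEl_surj (g := n * genEl q a b c * n⁻¹) (mem_centralizer_singleton_iff.2 (by
      conv_lhs => arg 2; rw [← n1]
      conv_rhs => arg 1; rw [← n1]
      simp only [mul_assoc, inv_mul_cancel_left]
      rw [← mul_assoc (genEl q a b c) (q sC), hs, mul_assoc]))
    have hd2 : inS d = true := (L.inS_iff S hd).2 (by
      rw [ed, ← n2]
      simp only [mul_assoc, inv_mul_cancel_left]
      rw [← mul_assoc (genEl q a b c) t, ht, mul_assoc])
    refine ⟨d, ?_, ed⟩
    simp only [rootL, List.mem_filter, List.mem_range, Nat.beq_eq]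
    have hl := hlt d (List.mem_filter.2 ⟨List.mem_range.2 hd, hd2⟩)
    refine ⟨⟨hd, hd2⟩, L.genEl_inj hl (by decide) ?_⟩
    rw [← L.el_gMul S hU hd hl, ed, L.genEl_small (x := sC) (by decide)]
    simp only [mul_assoc, inv_mul_cancel_left]
    rw [← mul_assoc (genEl q a b c) (genEl q a b c), hsq, ← mul_assoc, n2]
  choose! f hf ef using step
  have hnd : ∀ x, (rootL x).Nodup := fun x => (List.nodup_range.filter _).filter _
  have hcard := Finset.card_le_card_of_injOn f (s := (rootL tC).toFinset) (t := (rootL sC).toFinset)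
    (fun c hc => List.mem_toFinset.2 (hf c (List.mem_toFinset.1 hc)))
    (fun c hc d hd e => L.genEl_inj
      (List.mem_range.1 (List.mem_filter.1 (List.mem_filter.1 (List.mem_toFinset.1 hc)).1).1)
      (List.mem_range.1 (List.mem_filter.1 (List.mem_filter.1 (List.mem_toFinset.1 hd)).1).1)
      (mul_left_cancel (mul_right_cancel (((ef c (List.mem_toFinset.1 hc)).symm.trans (congrArg (genEl q a b) e)).trans
        (ef d (List.mem_toFinset.1 hd))))))
  rw [List.toFinset_card_of_nodup (hnd _), List.toFinset_card_of_nodup (hnd _), h56, h24] at hcard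
  omega

end Lifted

variable {t : G} {R V : Subgroup G} {q : ℕ → G} {a b : G}

theorem Lifted.gens_hs (L : Lifted t R V q a b) :
    ∃ b' : G, Lifted t R V q a b' ∧ Gens q a b' vHS := by
  obtain ⟨b', L', h5⟩ := L.normalise
  obtain ⟨v, hlen, S⟩ := L'.exists_vals
  refine ⟨b', L', ?_⟩
  obtain ⟨c0, c1, c2, c3⟩ := cand_eq
  have m0 : v.getD 0 0 ∈ zSet := c0 ▸ L'.val_mem S (by decide : (0 : ℕ) < 4)
  have m2 : v.getD 2 0 ∈ [14, 30, 46, 62] := c2 ▸ L'.val_mem S (by decide : (2 : ℕ) < 4)
  have m3 : v.getD 3 0 ∈ zSet := c3 ▸ L'.val_mem S (by decide : (3 : ℕ) < 4)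
  have m1 : v.getD 1 0 = 0 := S.inj _ _ (S.vals 1 (by decide)).1 (by decide)
    (by rw [← (S.vals 1 (by decide)).2, h5, S.one])
  have f0 : act 1 (v.getD 0 0) = v.getD 0 0 := by
    obtain ⟨h, e⟩ := S.vals 0 (by decide)
    refine S.inj _ _ (act_lt _ _) h (mul_right_cancel (b := a) ?_)
    rw [← (S.conj _ h).1, ← e]
    simp [wEl, relW, mul_assoc]
  match v, hlen with
  | [e1, e2, e3, e4], _ =>
    simp only [List.getD_cons_zero, List.getD_cons_succ] at m0 m1 m2 m3 f0
    subst m1
    have hd := dead_ok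
    simp only [List.all_eq_true, Bool.or_eq_true, Bool.not_eq_true'] at hd
    rcases hd e1 m0 e3 m2 e4 m3 with (h | h) | h
    · have : Nat.beq (act 1 e1) e1 = true := Nat.beq_eq ▸ f0
      rw [this] at h
      exact Bool.noConfusion h
    · have h' := List.contains_iff_mem.1 h
      simp only [leftV, List.mem_cons, List.not_mem_nil, or_false] at h'
      obtain ⟨b1, b2, b3⟩ := bad_eq
      rcases h' with e | e | e | e <;> rw [e] at S
      · exact S
      · exact (L'.not_roots S b1).elim
      · exact (L'.not_cent S b2 wit_ok.1).elim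
      · exact (L'.not_cent S b3 wit_ok.2).elim
    · simp only [deadB, Bool.or_eq_true] at h
      rcases h with h | h
      · exact (L'.scan_false S (by decide) (by decide) h).elim
      · exact (L'.scan_false S (by decide) (by decide) h).elim

/-- The centraliser is coded by the table. -/
theorem exists_code (_ht : orderOf t = 2) (L : Lifted t R V q a b) :
    ∃ el : ℕ → G, Code t el ∧ (∀ g, g ∈ V ↔ ∃ x ∈ vSet, el x = g) := by
  obtain ⟨b', L', S⟩ := L.gens_hs
  have hsmall : ∀ x < 64, genEl q a b' x = q x := fun x hx => L'.genEl_small hx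
  refine ⟨genEl q a b', ⟨S.el_one, fun c d hc hd => S.el_mul hc hd, fun c _ => L'.genEl_mem,
    fun c d hc hd e => L'.genEl_inj hc hd e, fun g hg => L'.genEl_surj hg,
    (hsmall tC (by decide)).trans L'.frame.t_eq⟩, fun g => ?_⟩
  have h64 : ∀ x ∈ vSet, x < 64 := by decide
  rw [L'.V_eq g]
  exact exists_congr fun x => and_congr_right fun hx => by rw [hsmall x (h64 x hx)]

end CfsgLib.HSRec.Pin
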