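import Cfsg.Agent.Lib.HSRec.Basic

/-!
# A coded central product of a cyclic group of order four and two dihedral groups
-/

set_option autoImplicit false
set_option linter.unusedSectionVars false

namespace CfsgLib.HSRec.Pin

open Subgroup

variable {G : Type*} [Group G]

/-- Five elements satisfying the relations of the frame. -/
structure Five (t : G) (x y x' y' c : G) : Prop where
  cc : c * c = t
  tt : t * t = 1
  tne : t ≠ 1
  xx : x * x = 1
  yy : y * y = 1
  xx' : x' * x' = 1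
  yy' : y' * y' = 1
  xy : y * x = x * y * t
  xy' : y' * x' = x' * y' * t
  xa : Commute x x'
  xb : Commute x y'
  ya : Commute y x'
  yb : Commute y y'
  cx : Commute c x
  cy : Commute c y
  cx' : Commute c x'
  cy' : Commute c y'

/-- The element of a code. -/
def qEl (x y x' y' c : G) (r : ℕ) : G :=
  x ^ (r % 2) * y ^ (r / 2 % 2) * x' ^ (r / 4 % 2) * y' ^ (r / 8 % 2) * c ^ (r / 16)

/-- The coded normal subgroup. -/
structure Frame (t : G) (R : Subgroup G) (q : ℕ → G) : Prop where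
  one : q 0 = 1
  mul : ∀ r r', r < 64 → r' < 64 → q r * q r' = q (hQ r r')
  inj : ∀ r r', r < 64 → r' < 64 → q r = q r' → r = r'
  t_eq : q tC = t
  mem : ∀ r < 64, q r ∈ R
  surj : ∀ g ∈ R, ∃ r < 64, q r = g

theorem hQ_low : ∀ r < 64, ∀ r' < 64, hQ r r' % 2 = (r % 2 + r' % 2) % 2 ∧
    hQ r r' / 2 % 2 = (r / 2 % 2 + r' / 2 % 2) % 2 ∧ hQ r r' / 4 % 2 = (r / 4 % 2 + r' / 4 % 2) % 2 ∧
    hQ r r' / 8 % 2 = (r / 8 % 2 + r' / 8 % 2) % 2 ∧
    hQ r r' / 16 = (r / 16 + r' / 16 + 2 * (r / 2 % 2 * (r' % 2) + r / 8 % 2 * (r' / 4 % 2))) % 4 ∧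
    hQ r r' < 64 := by
  decide +kernel

theorem hQ_rinv : ∀ r < 64, ∀ r' < 64, ∃ u < 64, hQ u r' = r := by decide +kernel

variable {t x y x' y' c : G}

theorem pow_mod_two {u : G} (h : u * u = 1) (n : ℕ) : u ^ n = u ^ (n % 2) := by
  conv_lhs => rw [← Nat.div_add_mod n 2, pow_add, pow_mul, pow_two, h, one_pow, one_mul]

namespace Five

variable (F : Five t x y x' y' c)

include F

theorem c_four : c ^ 4 = 1 := by
  rw [show (4 : ℕ) = 2 + 2 from rfl, pow_add, pow_two, F.cc, F.tt]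

theorem c_mod (n : ℕ) : c ^ n = c ^ (n % 4) := by
  conv_lhs => rw [← Nat.div_add_mod n 4, pow_add, pow_mul, F.c_four, one_pow, one_mul]

theorem t_comm {u : G} (h : Commute c u) : Commute t u := F.cc ▸ h.mul_left h

/-- Moving a generator past another. -/
theorem swap {u v : G} (h : v * u = u * v * t) (hu : Commute c u) (hv : Commute c v) :
    ∀ b < 2, ∀ a < 2, v ^ b * u ^ a = u ^ a * v ^ b * c ^ (2 * (b * a)) := by
  intro b hb a ha
  interval_cases b <;> interval_cases a <;> simp [pow_two, F.cc, h]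

theorem q_mul {r r' : ℕ} (hr : r < 64) (hr' : r' < 64) :
    qEl x y x' y' c r * qEl x y x' y' c r' = qEl x y x' y' c (hQ r r') := by
  obtain ⟨h0, h1, h2, h3, h4, -⟩ := hQ_low r hr r' hr'
  simp only [qEl]
  rw [h0, h1, h2, h3, h4, ← F.c_mod]
  set a := r % 2; set b := r / 2 % 2; set d := r / 4 % 2; set e := r / 8 % 2; set i := r / 16
  set a' := r' % 2; set b' := r' / 2 % 2; set d' := r' / 4 % 2; set e' := r' / 8 % 2; set i' := r' / 16
  have hb : b < 2 := Nat.mod_lt _ (by norm_num)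
  have he : e < 2 := Nat.mod_lt _ (by norm_num)
  have ha' : a' < 2 := Nat.mod_lt _ (by norm_num)
  have hd' : d' < 2 := Nat.mod_lt _ (by norm_num)
  rw [← pow_mod_two F.xx (a + a'), ← pow_mod_two F.yy (b + b'), ← pow_mod_two F.xx' (d + d'), ← pow_mod_two F.yy' (e + e')]
  have k1 : ∀ (u : G) (n m : ℕ), Commute c u → Commute (c ^ n) (u ^ m) := fun u n m h => h.pow_pow n m
  have cm : ∀ (n m p o : ℕ), Commute (c ^ i) (x ^ n * y ^ m * x' ^ p * y' ^ o) := fun n m p o =>
    (((k1 x i n F.cx).mul_right (k1 y i m F.cy)).mul_right (k1 x' i p F.cx')).mul_right (k1 y' i o F.cy')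
  have hde : Commute (x' ^ d * y' ^ e) (x ^ a' * y ^ b') :=
    (((F.xa.symm.pow_pow d a').mul_left (F.xb.symm.pow_pow e a'))).mul_right
      ((F.ya.symm.pow_pow d b').mul_left (F.yb.symm.pow_pow e b'))
  have cp : ∀ (n m : ℕ) (u : G), Commute c u → c ^ n * (u ^ m) = u ^ m * c ^ n := fun n m u h => (k1 u n m h).eq
  calc x ^ a * y ^ b * x' ^ d * y' ^ e * c ^ i * (x ^ a' * y ^ b' * x' ^ d' * y' ^ e' * c ^ i')
      = x ^ a * y ^ b * (x' ^ d * y' ^ e) * (x ^ a' * y ^ b') * (x' ^ d' * y' ^ e') * (c ^ i * c ^ i') := by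
        rw [show x ^ a' * y ^ b' * x' ^ d' * y' ^ e' * c ^ i' = (x ^ a' * y ^ b' * x' ^ d' * y' ^ e') * c ^ i' from rfl,
          mul_assoc, ← mul_assoc (c ^ i), (cm a' b' d' e').eq]
        simp only [mul_assoc]
    _ = x ^ a * (y ^ b * x ^ a') * y ^ b' * (x' ^ d * (y' ^ e * x' ^ d') * y' ^ e') * (c ^ i * c ^ i') := by
        rw [mul_assoc (x ^ a * y ^ b), hde.eq]
        simp only [mul_assoc]
    _ = x ^ a * (x ^ a' * y ^ b * c ^ (2 * (b * a'))) * y ^ b' *
          (x' ^ d * (x' ^ d' * y' ^ e * c ^ (2 * (e * d'))) * y' ^ e') * (c ^ i * c ^ i') := by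
        rw [F.swap F.xy F.cx F.cy b hb a' ha', F.swap F.xy' F.cx' F.cy' e he d' hd']
    _ = x ^ (a + a') * y ^ (b + b') * x' ^ (d + d') * y' ^ (e + e') *
          c ^ (i + i' + 2 * (b * a' + e * d')) := by
        rw [pow_add, pow_add, pow_add, pow_add,
          show c ^ (i + i' + 2 * (b * a' + e * d')) = c ^ (2 * (b * a')) * (c ^ (2 * (e * d')) * (c ^ i * c ^ i')) by
            simp only [← pow_add]; congr 1; ring]
        have l1 : ∀ w, c ^ (2 * (b * a')) * (y ^ b' * w) = y ^ b' * (c ^ (2 * (b * a')) * w) := fun w => by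
          rw [← mul_assoc, cp _ _ y F.cy, mul_assoc]
        have l2 : ∀ (n m : ℕ) (w : G), c ^ n * (x' ^ m * w) = x' ^ m * (c ^ n * w) := fun n m w => by
          rw [← mul_assoc, cp _ _ x' F.cx', mul_assoc]
        have l3 : ∀ (n m : ℕ) (w : G), c ^ n * (y' ^ m * w) = y' ^ m * (c ^ n * w) := fun n m w => by
          rw [← mul_assoc, cp _ _ y' F.cy', mul_assoc]
        simp only [mul_assoc, l1, l2, l3]

theorem q_zero : qEl x y x' y' c 0 = 1 := by simp [qEl]

theorem q_small : qEl x y x' y' c 1 = x ∧ qEl x y x' y' c 2 = y ∧ qEl x y x' y' c 4 = x' ∧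
    qEl x y x' y' c 8 = y' ∧ qEl x y x' y' c 16 = c ∧ qEl x y x' y' c 32 = t := by
  simp [qEl, pow_two, F.cc]

theorem q_eq_one {r : ℕ} (hr : r < 64) (h : qEl x y x' y' c r = 1) : r = 0 := by
  have hc : ∀ u < 64, qEl x y x' y' c r * qEl x y x' y' c u = qEl x y x' y' c u * qEl x y x' y' c r :=
    fun u _ => by rw [h, one_mul, mul_one]
  have key : ∀ u < 64, qEl x y x' y' c (hQ r u) = qEl x y x' y' c (hQ u r) := fun u hu => by
    rw [← F.q_mul hr hu, ← F.q_mul hu hr, hc u hu]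
  have ht : ∀ s < 64, qEl x y x' y' c s ≠ qEl x y x' y' c (hQ s 32) := fun s hs e => by
    rw [← F.q_mul hs (by norm_num)] at e
    exact F.tne (F.q_small.2.2.2.2.2 ▸ (left_eq_mul.1 e))
  have dec : ∀ r < 64, r % 16 ≠ 0 → ∃ u ∈ [1, 2, 4, 8], hQ u r = hQ (hQ r u) 32 := by decide +kernel
  by_cases h16 : r % 16 = 0
  · have : c ^ (r / 16) = 1 := by
      have e : ∀ k, k ≤ 16 → r % 16 = 0 → r / k % 2 = 0 ∨ k ∉ [1, 2, 4, 8] := by
        intro k hk h0
        by_cases hk' : k ∈ [1, 2, 4, 8]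
        · simp at hk'
          rcases hk' with rfl | rfl | rfl | rfl <;> omega
        · exact Or.inr hk'
      simpa [qEl, show r % 2 = 0 by omega, show r / 2 % 2 = 0 by omega, show r / 4 % 2 = 0 by omega,
        show r / 8 % 2 = 0 by omega] using h
    have hc2 : c ≠ 1 := fun e => F.tne (by rw [← F.cc, e, one_mul])
    have hlt : r / 16 < 4 := by omega
    rcases Nat.lt_or_ge (r / 16) 1 with h0 | h1
    · omega
    interval_cases hh : r / 16
    · exact absurd (by simpa using this) hc2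
    · exact absurd (by rwa [pow_two, F.cc] at this) F.tne
    · refine absurd (?_ : c = 1) hc2
      have h4 := F.c_four
      rwa [pow_succ, this, one_mul] at h4
  · obtain ⟨u, hu, e⟩ := dec r hr h16
    have hu' : u < 64 := by simp at hu; omega
    have := key u hu'
    rw [e] at this
    exact absurd this (ht _ (hQ_low r hr u hu').2.2.2.2.2)

theorem q_inj {r r' : ℕ} (hr : r < 64) (hr' : r' < 64) (h : qEl x y x' y' c r = qEl x y x' y' c r') : r = r' := by
  obtain ⟨u, hu, e⟩ := hQ_rinv r hr r' hr'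
  have h0 : qEl x y x' y' c u = 1 := by
    have := F.q_mul hu hr'
    rw [e, h] at this
    exact mul_eq_right.1 this
  rw [F.q_eq_one hu h0] at e
  rw [← e]
  have : ∀ s < 64, hQ 0 s = s := by decide +kernel
  exact this r' hr'

/-- Five elements of a subgroup of order 64 satisfying the relations are a frame. -/
theorem frame {R : Subgroup G} [Finite R] (hR : Nat.card R = 64) (hx : x ∈ R) (hy : y ∈ R) (hx' : x' ∈ R)
    (hy' : y' ∈ R) (hc : c ∈ R) : Frame t R (qEl x y x' y' c) := by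
  have hmem : ∀ r, qEl x y x' y' c r ∈ R := fun r =>
    mul_mem (mul_mem (mul_mem (mul_mem (pow_mem hx _) (pow_mem hy _)) (pow_mem hx' _)) (pow_mem hy' _)) (pow_mem hc _)
  refine ⟨F.q_zero, fun r r' => F.q_mul, fun r r' => F.q_inj, F.q_small.2.2.2.2.2, fun r _ => hmem r, fun g hg => ?_⟩
  let f : Fin 64 → ↥R := fun r => ⟨qEl x y x' y' c r, hmem r⟩
  have hf : Function.Bijective f :=
    (Nat.bijective_iff_injective_and_card f).2
      ⟨fun r r' e => Fin.ext (F.q_inj r.2 r'.2 (congrArg Subtype.val e)), by simp [hR]⟩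
  obtain ⟨r, hr⟩ := hf.2 ⟨g, hg⟩
  exact ⟨r, r.2, congrArg Subtype.val hr⟩

end Five

end CfsgLib.HSRec.Pin
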