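import Cfsg.Agent.Lib.HSRec.Sigma
import Cfsg.Agent.Lib.HSRec.Frame

/-!
# Maps of the classes of the coded normal subgroup
-/

set_option autoImplicit false
set_option maxRecDepth 100000

namespace CfsgLib.HSRec.Pin

theorem xor_lt16 {a b : ℕ} (ha : a < 16) (hb : b < 16) : a ^^^ b < 16 := Nat.xor_lt_two_pow (n := 4) ha hb

theorem class_hQ : ∀ r < 64, ∀ r' < 64, hQ r r' % 16 = (r % 16) ^^^ (r' % 16) := by decide +kernel

theorem code_split : ∀ r < 64, hQ (hQ (hQ (hQ (r % 2) (r / 2 % 2 * 2)) (r / 4 % 2 * 4)) (r / 8 % 2 * 8)) (r / 16 * 16) = r := by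
  decide +kernel

/-- A homomorphism of the codes. -/
structure CodeHom (f : ℕ → ℕ) : Prop where
  lt : ∀ r < 64, f r < 64
  mul : ∀ r r', r < 64 → r' < 64 → f (hQ r r') = hQ (f r) (f r')

/-- The matrix of a map of codes. -/
def matOf (f : ℕ → ℕ) : List ℕ := idL.map fun u => f u % 16

theorem matOf_getD (f : ℕ → ℕ) : (matOf f).getD 0 0 = f 1 % 16 ∧ (matOf f).getD 1 0 = f 2 % 16 ∧
    (matOf f).getD 2 0 = f 4 % 16 ∧ (matOf f).getD 3 0 = f 8 % 16 := by simp [matOf, idL]

namespace CodeHom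

variable {f : ℕ → ℕ} (h : CodeHom f)

include h

theorem zero : f 0 = 0 := by
  have dec : ∀ a < 64, hQ a a = a → a = 0 := by decide +kernel
  refine dec _ (h.lt 0 (by norm_num)) ?_
  rw [← h.mul 0 0 (by norm_num) (by norm_num)]
  rfl

/-- On classes a homomorphism fixing the centre is linear. -/
theorem class_eq (h16 : f 16 % 16 = 0) : ∀ r < 64, f r % 16 = app (matOf f) (r % 16) := by
  have hl : ∀ a b, a < 64 → b < 64 → hQ a b < 64 := fun a b ha hb => (hQ_low a ha b hb).2.2.2.2.2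
  have hmul : ∀ a b, a < 64 → b < 64 → f (hQ a b) % 16 = (f a % 16) ^^^ (f b % 16) := fun a b ha hb => by
    rw [h.mul a b ha hb, class_hQ _ (h.lt a ha) _ (h.lt b hb)]
  have hz : ∀ e, e < 4 → f (e * 16) % 16 = 0 := by
    intro e he
    interval_cases e
    · rw [Nat.zero_mul, h.zero]
    · exact h16
    · rw [show 2 * 16 = hQ 16 16 from rfl, hmul 16 16 (by norm_num) (by norm_num), h16]; rfl
    · rw [show 3 * 16 = hQ (hQ 16 16) 16 from rfl, hmul _ 16 (hl 16 16 (by norm_num) (by norm_num)) (by norm_num),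
        hmul 16 16 (by norm_num) (by norm_num), h16]; rfl
  intro r hr
  have e := code_split r hr
  have b0 : r % 2 < 64 := by omega
  have b1 : r / 2 % 2 * 2 < 64 := by omega
  have b2 : r / 4 % 2 * 4 < 64 := by omega
  have b3 : r / 8 % 2 * 8 < 64 := by omega
  have b4 : r / 16 * 16 < 64 := by omega
  conv_lhs => rw [← e]
  rw [hmul _ _ (hl _ _ (hl _ _ (hl _ _ b0 b1) b2) b3) b4, hmul _ _ (hl _ _ (hl _ _ b0 b1) b2) b3,
    hmul _ _ (hl _ _ b0 b1) b2, hmul _ _ b0 b1, hz _ (by omega), Nat.xor_zero, app]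
  obtain ⟨m0, m1, m2, m3⟩ := matOf_getD f
  rw [m0, m1, m2, m3, show r % 16 % 2 = r % 2 by omega, show r % 16 / 2 % 2 = r / 2 % 2 by omega,
    show r % 16 / 4 % 2 = r / 4 % 2 by omega, show r % 16 / 8 % 2 = r / 8 % 2 by omega]
  have p : ∀ n u, n < 2 → f (n * u) % 16 = if n = 1 then f u % 16 else 0 := by
    intro n u hn
    interval_cases n <;> simp [h.zero]
  rw [p _ 2 (by omega), p _ 4 (by omega), p _ 8 (by omega)]
  have p1 := p (r % 2) 1 (by omega)
  rw [Nat.mul_one] at p1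
  rw [p1]

end CodeHom

theorem app_lt {P : List ℕ} (hP : ∀ x ∈ P, x < 16) (v : ℕ) : app P v < 16 := by
  have hg : ∀ i, P.getD i 0 < 16 := fun i => by
    rcases lt_or_ge i P.length with h | h
    · rw [List.getD_eq_getElem _ _ h]; exact hP _ (List.getElem_mem _)
    · rw [List.getD_eq_default _ _ h]; norm_num
  simp only [app]
  refine xor_lt16 (xor_lt16 (xor_lt16 ?_ ?_) ?_) ?_ <;> split_ifs <;> first | exact hg _ | norm_num

theorem bits_xor : ∀ x < 16, ∀ y < 16, (x ^^^ y) % 2 = (x % 2 + y % 2) % 2 ∧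
    (x ^^^ y) / 2 % 2 = (x / 2 % 2 + y / 2 % 2) % 2 ∧ (x ^^^ y) / 4 % 2 = (x / 4 % 2 + y / 4 % 2) % 2 ∧
    (x ^^^ y) / 8 % 2 = (x / 8 % 2 + y / 8 % 2) % 2 := by decide +kernel

theorem app_xor (P : List ℕ) {x y : ℕ} (hx : x < 16) (hy : y < 16) : app P (x ^^^ y) = app P x ^^^ app P y := by
  obtain ⟨h0, h1, h2, h3⟩ := bits_xor x hx y hy
  have key : ∀ (g a b : ℕ), a < 2 → b < 2 →
      (if (a + b) % 2 = 1 then g else 0) = (if a = 1 then g else 0) ^^^ (if b = 1 then g else 0) := by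
    intro g a b ha hb
    interval_cases a <;> interval_cases b <;> simp
  simp only [app]
  rw [h0, h1, h2, h3, key _ _ _ (by omega) (by omega), key _ _ _ (by omega) (by omega), key _ _ _ (by omega) (by omega),
    key _ _ _ (by omega) (by omega)]
  ac_rfl

theorem app_zero (P : List ℕ) : app P 0 = 0 := by simp [app]

theorem app_idL : ∀ v < 16, app idL v = v := by decide +kernel

theorem app_cmpL (P : List ℕ) {a b c d : ℕ} (ha : a < 16) (hb : b < 16) (hc : c < 16) (hd : d < 16) (v : ℕ) :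
    app (cmpL P [a, b, c, d]) v = app P (app [a, b, c, d] v) := by
  have hi : ∀ (p : Prop) [Decidable p] (u : ℕ), u < 16 → (if p then u else 0) < 16 := fun p _ u hu => by
    split_ifs <;> omega
  have four : ∀ a b c d : ℕ, app [a, b, c, d] v = (if v % 2 = 1 then a else 0) ^^^ (if v / 2 % 2 = 1 then b else 0) ^^^
      (if v / 4 % 2 = 1 then c else 0) ^^^ (if v / 8 % 2 = 1 then d else 0) := fun a b c d => rfl
  rw [show cmpL P [a, b, c, d] = [app P a, app P b, app P c, app P d] from rfl, four, four]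
  rw [app_xor P (xor_lt16 (xor_lt16 (hi _ _ ha) (hi _ _ hb)) (hi _ _ hc)) (hi _ _ hd),
    app_xor P (xor_lt16 (hi _ _ ha) (hi _ _ hb)) (hi _ _ hc), app_xor P (hi _ _ ha) (hi _ _ hb)]
  simp only [apply_ite (app P), app_zero]

theorem mem_spAll {a b c d : ℕ} (ha : a < 16) (hb : b < 16) (hc : c < 16) (hd : d < 16)
    (hg : presL [a, b, c, d] = true) : [a, b, c, d] ∈ spAll := by
  simp only [presL, List.all_eq_true, List.mem_range, Nat.beq_eq] at hg
  have g := fun i j hi hj => hg i hi j hj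
  have h01 : om a b = 1 := g 0 1 (by norm_num) (by norm_num)
  have h02 : om a c = 0 := g 0 2 (by norm_num) (by norm_num)
  have h03 : om a d = 0 := g 0 3 (by norm_num) (by norm_num)
  have h12 : om b c = 0 := g 1 2 (by norm_num) (by norm_num)
  have h13 : om b d = 0 := g 1 3 (by norm_num) (by norm_num)
  have h23 : om c d = 1 := g 2 3 (by norm_num) (by norm_num)
  have hz : ∀ w, om 0 w = 0 := fun w => by simp [om]
  have ha0 : a ≠ 0 := fun e => by rw [e, hz] at h01; omega
  have hc0 : c ≠ 0 := fun e => by rw [e, hz] at h23; omega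
  simp only [spAll, List.mem_flatMap, List.mem_filter, List.mem_range, List.mem_map, Bool.and_eq_true,
    Bool.not_eq_true', Nat.beq_eq]
  refine ⟨a, ⟨ha, ?_⟩, b, ⟨hb, h01⟩, c, ⟨hc, ⟨?_, h02⟩, h12⟩, d, ⟨hd, ⟨h03, h13⟩, h23⟩, rfl⟩
  · cases e : Nat.beq a 0
    · rfl
    · exact absurd (Nat.eq_of_beq_eq_true e) ha0
  · cases e : Nat.beq c 0
    · rfl
    · exact absurd (Nat.eq_of_beq_eq_true e) hc0

theorem spAll_ok : (spAll.all fun P => decide (P.length = 4) && (P.all fun x => Nat.blt x 16) &&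
    ((List.range 16).all fun v => Nat.beq v 0 || !Nat.beq (app P v) 0)) = true := by decide +kernel

theorem spAll_props {P : List ℕ} (hP : P ∈ spAll) : P.length = 4 ∧ (∀ x ∈ P, x < 16) ∧
    ∀ v < 16, ∀ w < 16, app P v = app P w → v = w := by
  have h := List.all_eq_true.1 spAll_ok P hP
  simp only [Bool.and_eq_true, List.all_eq_true, List.mem_range, decide_eq_true_eq, Nat.blt_eq, Bool.or_eq_true,
    Bool.not_eq_true', Nat.beq_eq] at h
  obtain ⟨⟨h1, h2⟩, h3⟩ := h
  refine ⟨h1, h2, fun v hv w hw e => ?_⟩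
  rcases h3 (v ^^^ w) (xor_lt16 hv hw) with h | h
  · exact Nat.eq_of_xor_eq_zero h
  · rw [app_xor P hv hw, e, Nat.xor_self] at h
    simp at h

/-- The lift of a class as an involution. -/
def lift2 (v : ℕ) : ℕ := if hQ v v = 0 then v else v + 16

theorem lift2_spec : ∀ v < 16, lift2 v < 64 ∧ lift2 v % 16 = v ∧ hQ (lift2 v) (lift2 v) = 0 ∧
    ∀ r < 64, r % 16 = v → hQ r r = 0 → r = lift2 v ∨ r = hQ (lift2 v) 32 := by decide +kernel

theorem lift_rels : (spAll.all fun g =>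
    (List.range 4).all fun i => (List.range 4).all fun j => Nat.ble j i ||
      (let x := lift2 (g.getD i 0); let y := lift2 (g.getD j 0)
       if (Nat.beq i 0 && Nat.beq j 1) || (Nat.beq i 2 && Nat.beq j 3) then Nat.beq (hQ y x) (hQ (hQ x y) 32)
       else Nat.beq (hQ x y) (hQ y x))) = true := by decide +kernel

end CfsgLib.HSRec.Pin
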