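import Mathlib.Data.Nat.Notation

/-!
Data for the derivation of the table of products of the centraliser of Higman–Sims type from four relations
(tools/hs/emit2.py).
-/

set_option autoImplicit false
set_option maxRecDepth 10000

namespace CfsgLib.HSRec.Pin

/-- The class of a representative times a generator, 7 bits at `2 k + l`. -/
def cayN : ℕ := 0x81d9b779dabbe1ed9ace0e5c10f14d715ed3fbaee3537ba75eba0de95f4b7f36990ce5a7b1954cfd39f22d2a86be31b86fdd136c9d90f5d72763555235ade2d2f3467cd072bac8ff1b9c53074dc2df05fbf6af471921c5db8ee5dbb566c2eaf46b2dab3ea3d12fa153a5168d09f3a6a5992e52492b24238eaa3228ac033188821c28301fb57c75eb37871da708a1d1a72e1bb66ad19b2625582f5c5169258ad52950413a64a3d217026118d448501f3c2c01e3a28e1b3464c082e58a87284c911201478e1a3058314244020e182840600101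

/-- The representatives as words in the two generators. -/
def repW : List (List ℕ) := [
  [],
  [0],
  [1],
  [0, 1],
  [1, 0],
  [1, 1],
  [0, 1, 0],
  [0, 1, 1],
  [1, 0, 1],
  [1, 1, 0],
  [1, 1, 1],
  [0, 1, 0, 1],
  [0, 1, 1, 0],
  [0, 1, 1, 1],
  [1, 0, 1, 0],
  [1, 0, 1, 1],
  [1, 1, 0, 1],
  [1, 1, 1, 0],
  [1, 1, 1, 1],
  [0, 1, 0, 1, 0],
  [0, 1, 0, 1, 1],
  [0, 1, 1, 0, 1],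
  [0, 1, 1, 1, 0],
  [0, 1, 1, 1, 1],
  [1, 0, 1, 0, 1],
  [1, 0, 1, 1, 0],
  [1, 0, 1, 1, 1],
  [1, 1, 0, 1, 0],
  [1, 1, 0, 1, 1],
  [1, 1, 1, 0, 1],
  [1, 1, 1, 1, 0],
  [0, 1, 0, 1, 1, 0],
  [0, 1, 0, 1, 1, 1],
  [0, 1, 1, 0, 1, 0],
  [0, 1, 1, 0, 1, 1],
  [0, 1, 1, 1, 0, 1],
  [1, 0, 1, 0, 1, 1],
  [1, 0, 1, 1, 0, 1],
  [1, 0, 1, 1, 1, 0],
  [1, 0, 1, 1, 1, 1],
  [1, 1, 0, 1, 0, 1],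
  [1, 1, 0, 1, 1, 0],
  [1, 1, 0, 1, 1, 1],
  [1, 1, 1, 0, 1, 0],
  [1, 1, 1, 0, 1, 1],
  [1, 1, 1, 1, 0, 1],
  [0, 1, 0, 1, 1, 0, 1],
  [0, 1, 0, 1, 1, 1, 0],
  [0, 1, 0, 1, 1, 1, 1],
  [0, 1, 1, 0, 1, 0, 1],
  [0, 1, 1, 0, 1, 1, 0],
  [0, 1, 1, 0, 1, 1, 1],
  [0, 1, 1, 1, 0, 1, 0],
  [0, 1, 1, 1, 0, 1, 1],
  [1, 0, 1, 0, 1, 1, 0],
  [1, 0, 1, 0, 1, 1, 1],
  [1, 0, 1, 1, 0, 1, 0],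
  [1, 0, 1, 1, 0, 1, 1],
  [1, 0, 1, 1, 1, 0, 1],
  [1, 1, 0, 1, 0, 1, 1],
  [1, 1, 0, 1, 1, 0, 1],
  [1, 1, 0, 1, 1, 1, 1],
  [1, 1, 1, 0, 1, 0, 1],
  [1, 1, 1, 0, 1, 1, 1],
  [1, 1, 1, 1, 0, 1, 0],
  [1, 1, 1, 1, 0, 1, 1],
  [0, 1, 0, 1, 1, 0, 1, 0],
  [0, 1, 0, 1, 1, 0, 1, 1],
  [0, 1, 0, 1, 1, 1, 0, 1],
  [0, 1, 1, 0, 1, 0, 1, 1],
  [0, 1, 1, 0, 1, 1, 0, 1],
  [0, 1, 1, 0, 1, 1, 1, 1],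
  [0, 1, 1, 1, 0, 1, 0, 1],
  [0, 1, 1, 1, 0, 1, 1, 1],
  [1, 0, 1, 0, 1, 1, 0, 1],
  [1, 0, 1, 0, 1, 1, 1, 0],
  [1, 0, 1, 0, 1, 1, 1, 1],
  [1, 0, 1, 1, 0, 1, 0, 1],
  [1, 0, 1, 1, 0, 1, 1, 0],
  [1, 0, 1, 1, 0, 1, 1, 1],
  [1, 0, 1, 1, 1, 0, 1, 0],
  [1, 0, 1, 1, 1, 0, 1, 1],
  [1, 1, 0, 1, 0, 1, 1, 1],
  [1, 1, 0, 1, 1, 0, 1, 0],
  [1, 1, 1, 0, 1, 0, 1, 1],
  [1, 1, 1, 0, 1, 1, 1, 1],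
  [1, 1, 1, 1, 0, 1, 0, 1],
  [1, 1, 1, 1, 0, 1, 1, 1],
  [0, 1, 0, 1, 1, 0, 1, 0, 1],
  [0, 1, 0, 1, 1, 0, 1, 1, 0],
  [0, 1, 0, 1, 1, 0, 1, 1, 1],
  [0, 1, 0, 1, 1, 1, 0, 1, 0],
  [0, 1, 1, 0, 1, 0, 1, 1, 1],
  [0, 1, 1, 0, 1, 1, 0, 1, 0],
  [0, 1, 1, 1, 0, 1, 0, 1, 1],
  [0, 1, 1, 1, 0, 1, 1, 1, 1],
  [1, 0, 1, 0, 1, 1, 0, 1, 1],
  [1, 0, 1, 0, 1, 1, 1, 0, 1],
  [1, 0, 1, 1, 0, 1, 0, 1, 1],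
  [1, 0, 1, 1, 0, 1, 1, 0, 1],
  [1, 0, 1, 1, 0, 1, 1, 1, 1],
  [1, 0, 1, 1, 1, 0, 1, 0, 1],
  [1, 0, 1, 1, 1, 0, 1, 1, 1],
  [1, 1, 0, 1, 0, 1, 1, 1, 0],
  [1, 1, 0, 1, 0, 1, 1, 1, 1],
  [1, 1, 0, 1, 1, 0, 1, 0, 1],
  [1, 1, 1, 1, 0, 1, 0, 1, 1],
  [0, 1, 0, 1, 1, 0, 1, 0, 1, 1],
  [0, 1, 0, 1, 1, 0, 1, 1, 0, 1],
  [0, 1, 0, 1, 1, 0, 1, 1, 1, 1],
  [0, 1, 0, 1, 1, 1, 0, 1, 0, 1],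
  [0, 1, 1, 0, 1, 0, 1, 1, 1, 0],
  [0, 1, 1, 0, 1, 0, 1, 1, 1, 1],
  [0, 1, 1, 0, 1, 1, 0, 1, 0, 1],
  [1, 0, 1, 0, 1, 1, 0, 1, 1, 0],
  [1, 0, 1, 0, 1, 1, 0, 1, 1, 1],
  [1, 0, 1, 0, 1, 1, 1, 0, 1, 0],
  [1, 1, 0, 1, 1, 0, 1, 0, 1, 1],
  [1, 0, 1, 0, 1, 1, 0, 1, 1, 1, 1],
  [1, 0, 1, 0, 1, 1, 1, 0, 1, 0, 1]]

/-- The relations of the symmetric group on five letters, in positive letters. -/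
def relW : List (List ℕ) := [[0, 0], [1, 1, 1, 1, 1], [0, 1, 0, 1, 0, 1, 0, 1], [0, 1, 0, 1, 1, 1, 1, 0, 1, 0, 1, 1, 1, 1, 0, 1, 0, 1, 1, 1, 1]]

/-- The steps: a relation, a class and the position of the unknown product. -/
def stepT : List (ℕ × ℕ × ℕ) := [
  (0, 0, 1),
  (0, 2, 1),
  (0, 3, 1),
  (0, 5, 1),
  (0, 7, 1),
  (0, 8, 1),
  (0, 10, 1),
  (0, 11, 1),
  (0, 13, 1),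
  (0, 15, 1),
  (0, 16, 1),
  (0, 18, 1),
  (0, 20, 1),
  (0, 21, 1),
  (0, 26, 1),
  (0, 28, 1),
  (0, 29, 1),
  (0, 32, 1),
  (0, 34, 1),
  (0, 35, 1),
  (0, 36, 1),
  (0, 37, 1),
  (0, 45, 1),
  (0, 46, 1),
  (0, 55, 1),
  (0, 57, 1),
  (0, 58, 1),
  (0, 60, 1),
  (0, 67, 1),
  (0, 68, 1),
  (0, 70, 1),
  (0, 82, 1),
  (0, 92, 1),
  (0, 96, 1),
  (0, 97, 1),
  (1, 0, 4),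
  (1, 1, 4),
  (1, 4, 4),
  (1, 6, 4),
  (1, 9, 4),
  (1, 12, 4),
  (1, 14, 4),
  (1, 17, 4),
  (1, 22, 4),
  (1, 25, 4),
  (1, 27, 4),
  (1, 31, 4),
  (1, 33, 4),
  (1, 54, 4),
  (2, 0, 5),
  (2, 1, 6),
  (2, 4, 6),
  (2, 6, 6),
  (2, 9, 6),
  (2, 12, 6),
  (2, 14, 6),
  (2, 17, 6),
  (2, 25, 6),
  (2, 27, 6),
  (2, 31, 6),
  (2, 33, 6),
  (2, 54, 6),
  (3, 8, 12),
  (3, 10, 5),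
  (3, 18, 5),
  (0, 23, 0),
  (0, 39, 0),
  (0, 48, 0),
  (0, 61, 0),
  (0, 71, 0),
  (0, 76, 0),
  (0, 85, 0),
  (0, 100, 0),
  (0, 104, 0),
  (0, 109, 0),
  (0, 112, 0),
  (0, 118, 0),
  (1, 19, 4),
  (1, 43, 4),
  (1, 52, 4),
  (1, 64, 4),
  (2, 19, 6),
  (2, 22, 6),
  (3, 0, 9),
  (3, 1, 9),
  (3, 2, 9),
  (3, 5, 9),
  (3, 7, 8),
  (0, 74, 1),
  (0, 84, 0),
  (0, 87, 0),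
  (0, 106, 0),
  (2, 38, 7),
  (2, 47, 7),
  (2, 75, 7),
  (2, 103, 7),
  (3, 3, 9),
  (3, 15, 5),
  (3, 20, 5),
  (3, 26, 7),
  (3, 33, 4),
  (3, 36, 7),
  (3, 37, 15),
  (3, 54, 14),
  (3, 56, 4),
  (3, 59, 7),
  (3, 71, 5),
  (3, 107, 5),
  (3, 115, 0),
  (2, 41, 2),
  (2, 43, 2),
  (2, 50, 2),
  (2, 64, 2),
  (2, 66, 4),
  (2, 78, 2),
  (2, 80, 2),
  (2, 89, 7),
  (3, 12, 12),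
  (3, 28, 7),
  (3, 29, 16),
  (3, 45, 7)]

end CfsgLib.HSRec.Pin
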