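import Cfsg.Agent.Lib.HSRec.Basic
import Cfsg.Agent.Lib.HSRec.PinData

/-!
# The table of products of representatives, derived from four relations

`a`, `b` act on the normal subgroup of order 64 as the rows 1, 2 of `actT` and satisfy the relations of the
symmetric group on five letters up to given elements of that subgroup. Scanning the relations determines
`rep k * g = q (U[2 k + g]) * rep l` for every representative and both generators.
-/

set_option autoImplicit false
set_option maxRecDepth 100000

namespace CfsgLib.HSRec.Pin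

/-- The class after a letter. -/
def cy (k l : ℕ) : ℕ := (cayN >>> (7 * (2 * k + l))) % 2 ^ 7

/-- The row of a class applied to a code. -/
def act (k r : ℕ) : ℕ := hGet actT 6 k r

/-- The table at the start: the edges of the tree of representatives, `64` elsewhere. -/
def tree : List ℕ :=
  (List.range 240).map fun i =>
    if repW.getD (cy (i / 2) (i % 2)) [] = repW.getD (i / 2) [] ++ [i % 2] then 0 else 64

/-- Evaluate a number first. -/
def frN {α : Type} (n : ℕ) (k : ℕ → α) : α :=
  match n with
  | 0 => k 0
  | m + 1 => k (m + 1)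

theorem frN_eq {α : Type} (n : ℕ) (k : ℕ → α) : frN n k = k n := by cases n <;> rfl

/-- Evaluate a list first. -/
def frL {α : Type} : List ℕ → (List ℕ → α) → α
  | [], k => k []
  | x :: xs, k => frN x fun y => frL xs fun ys => k (y :: ys)

theorem frL_eq {α : Type} : ∀ (L : List ℕ) (k : List ℕ → α), frL L k = k L
  | [], _ => rfl
  | x :: xs, k => by simp [frL, frN_eq, frL_eq xs]

/-- Follow a word from a class, with the product of the entries passed. -/
def walk (U : List ℕ) : List ℕ → ℕ → ℕ → Option (ℕ × ℕ)
  | [], a, k => some (a, k)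
  | l :: w, a, k =>
    let u := U.getD (2 * k + l) 64
    if Nat.blt u 64 && Nat.blt l 2 then frN (hQ a u) fun x => frN (cy k l) fun y => walk U w x y else none

/-- The inverse of a code of the normal subgroup. -/
def hQInv (r : ℕ) : ℕ := (r % 16) + 16 * ((8 - r / 16 - 2 * ((r / 2) % 2 * (r % 2) + (r / 8) % 2 * (r / 4 % 2))) % 4)

/-- One step of the derivation with the values `v`. -/
def dStep (v : List ℕ) (U : List ℕ) (s : ℕ × ℕ × ℕ) : List ℕ :=
  let r := relW.getD s.1 []
  match walk U (r.take s.2.2) 0 s.2.1 with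
  | some (pre, p) =>
    let l := r.getD s.2.2 2
    match walk U (r.drop (s.2.2 + 1)) 0 (cy p l) with
    | some (post, k') =>
      if Nat.beq (U.getD (2 * p + l) 0) 64 && Nat.beq k' s.2.1 && Nat.blt l 2 &&
          Nat.blt s.2.2 r.length && Nat.blt s.1 4 && Nat.blt s.2.1 120 then
        frN (hQ (hQ (hQInv pre) (act s.2.1 (v.getD s.1 0))) (hQInv post)) fun x => U.set (2 * p + l) x
      else U
    | none => U
  | none => U

/-- The derived table. -/
def derive (v : List ℕ) : List ℕ := stepT.foldl (fun U s => frL (dStep v U s) id) tree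

theorem hQ_lt (r r' : ℕ) : hQ r r' < 64 := by
  unfold hQ
  have h : (r % 16) ^^^ (r' % 16) < 2 ^ 4 := Nat.xor_lt_two_pow (Nat.mod_lt _ (by norm_num)) (Nat.mod_lt _ (by norm_num))
  omega

theorem inv_facts : ∀ r < 64, hQ (hQInv r) r = 0 ∧ hQ r (hQInv r) = 0 ∧ hQInv r < 64 ∧ hQ 0 r = r ∧ hQ r 0 = r := by
  decide +kernel

theorem act_lt (k r : ℕ) : act k r < 64 := Nat.mod_lt _ (by norm_num)

variable {G : Type*} [Group G]

/-- The element of a word. -/
def wEl (a b : G) (w : List ℕ) : G := (w.map fun l => if l = 0 then a else b).prod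

/-- The representative of a class. -/
def rep (a b : G) (k : ℕ) : G := wEl a b (repW.getD k [])

/-- Elements acting on a coded group of order 64 as the standard generators and satisfying the relations up to
the values `v`. -/
structure Gens (q : ℕ → G) (a b : G) (v : List ℕ) : Prop where
  one : q 0 = 1
  mul : ∀ r r', r < 64 → r' < 64 → q r * q r' = q (hQ r r')
  inj : ∀ r r', r < 64 → r' < 64 → q r = q r' → r = r'
  conj : ∀ r < 64, a * q r = q (act 1 r) * a ∧ b * q r = q (act 2 r) * b
  vals : ∀ i < 4, v.getD i 0 < 64 ∧ wEl a b (relW.getD i []) = q (v.getD i 0)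

theorem wEl_cons (a b : G) (l : ℕ) (w : List ℕ) : wEl a b (l :: w) = (if l = 0 then a else b) * wEl a b w := by
  simp [wEl]

theorem wEl_append (a b : G) (u w : List ℕ) : wEl a b (u ++ w) = wEl a b u * wEl a b w := by
  simp [wEl]

/-- The rows are the actions of the words. -/
def actW : List ℕ → ℕ → ℕ
  | [], r => r
  | l :: w, r => act (if l = 0 then 1 else 2) (actW w r)

theorem act_rep : ∀ k < 120, ∀ r < 64, actW (repW.getD k []) r = act k r := by decide +kernel

/-- A table is right at every entry filled in. -/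
def Right (q : ℕ → G) (a b : G) (U : List ℕ) : Prop :=
  ∀ k < 120, ∀ l < 2, U.getD (2 * k + l) 64 < 64 →
    rep a b k * (if l = 0 then a else b) = q (U.getD (2 * k + l) 64) * rep a b (cy k l)

theorem cy_lt : ∀ k < 120, ∀ l < 2, cy k l < 120 := by decide +kernel

variable {q : ℕ → G} {a b : G} {v : List ℕ}

namespace Gens

variable (S : Gens q a b v)

include S

theorem actW_spec : ∀ w : List ℕ, ∀ r < 64, actW w r < 64 ∧ wEl a b w * q r = q (actW w r) * wEl a b w
  | [], r, hr => by simp [actW, wEl, hr]
  | l :: w, r, hr => by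
    obtain ⟨h1, h2⟩ := actW_spec w r hr
    refine ⟨act_lt _ _, ?_⟩
    rw [wEl_cons, mul_assoc, h2, ← mul_assoc, actW]
    obtain ⟨ha, hb⟩ := S.conj _ h1
    by_cases hl : l = 0
    · simp only [hl, if_true]
      rw [ha, mul_assoc]
    · simp only [hl, if_false]
      rw [hb, mul_assoc]

theorem rep_conj {k r : ℕ} (hk : k < 120) (hr : r < 64) : rep a b k * q r = q (act k r) * rep a b k := by
  rw [← act_rep k hk r hr]
  exact (S.actW_spec _ r hr).2

theorem q_inv {r : ℕ} (hr : r < 64) : (q r)⁻¹ = q (hQInv r) := by
  obtain ⟨h1, h2, h3, -, -⟩ := inv_facts r hr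
  exact inv_eq_of_mul_eq_one_right (by rw [S.mul _ _ hr h3, h2, S.one])

theorem tree_right : Right q a b tree := by
  intro k hk l hl h
  have hi : 2 * k + l < 240 := by omega
  rw [tree, List.getD_eq_getElem _ _ (by simpa using hi), List.getElem_map, List.getElem_range] at h ⊢
  split_ifs at h with e
  · rw [if_pos e, S.one, one_mul]
    have e1 : (2 * k + l) / 2 = k := by omega
    have e2 : (2 * k + l) % 2 = l := by omega
    rw [e1, e2] at e
    show wEl a b (repW.getD k []) * _ = wEl a b (repW.getD (cy k l) [])
    rw [e, wEl_append]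
    simp [wEl]
  · omega

theorem walk_spec {U : List ℕ} (hU : Right q a b U) : ∀ (w : List ℕ) (x k y k' : ℕ), x < 64 → k < 120 →
    walk U w x k = some (y, k') → y < 64 ∧ k' < 120 ∧ q x * rep a b k * wEl a b w = q y * rep a b k'
  | [], x, k, y, k', hx, hk, h => by
    simp only [walk, Option.some.injEq, Prod.mk.injEq] at h
    obtain ⟨rfl, rfl⟩ := h
    exact ⟨hx, hk, by simp [wEl]⟩
  | l :: w, x, k, y, k', hx, hk, h => by
    simp only [walk, frN_eq] at h
    split_ifs at h with c
    simp only [Bool.and_eq_true, Nat.blt_eq] at c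
    obtain ⟨hu, hl⟩ := c
    obtain ⟨h1, h2, h3⟩ := walk_spec hU w _ _ y k' (hQ_lt _ _) (cy_lt k hk l hl) h
    refine ⟨h1, h2, ?_⟩
    rw [← h3, wEl_cons, ← S.mul _ _ hx hu, ← mul_assoc, mul_assoc (q x) (rep a b k), hU k hk l hl hu]
    simp only [mul_assoc]

theorem step_right {U : List ℕ} (hU : Right q a b U) (s : ℕ × ℕ × ℕ) : Right q a b (dStep v U s) := by
  obtain ⟨i, k, j⟩ := s
  simp only [dStep, frN_eq]
  set r := relW.getD i [] with hr
  cases e1 : walk U (r.take j) 0 k with
  | none => exact hU
  | some pp =>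
    obtain ⟨pre, p⟩ := pp
    simp only
    cases e2 : walk U (r.drop (j + 1)) 0 (cy p (r.getD j 2)) with
    | none => exact hU
    | some qq =>
      obtain ⟨post, k'⟩ := qq
      simp only
      split_ifs with c
      swap
      · exact hU
      simp only [Bool.and_eq_true, Nat.blt_eq, Nat.beq_eq] at c
      obtain ⟨⟨⟨⟨⟨-, rfl⟩, hl⟩, hj⟩, hi⟩, hk⟩ := c
      obtain ⟨hpre, hp, h1⟩ := S.walk_spec hU _ _ _ _ _ (by norm_num) hk e1
      obtain ⟨hpost, -, h2⟩ := S.walk_spec hU _ _ _ _ _ (by norm_num) (cy_lt p hp _ hl) e2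
      rw [S.one, one_mul] at h1 h2
      obtain ⟨hv, hrel⟩ := S.vals i hi
      set l := r.getD j 2 with hldef
      have hsplit : r = r.take j ++ l :: r.drop (j + 1) := by
        rw [hldef, List.getD_eq_getElem _ _ hj, List.cons_getElem_drop_succ, List.take_append_drop]
      rw [← hr, hsplit, wEl_append, wEl_cons] at hrel
      have key : q pre * (rep a b p * (if l = 0 then a else b) * (rep a b (cy p l))⁻¹) * q post =
          q (act k' (v.getD i 0)) := by
        have h := S.rep_conj hk hv
        rw [← hrel, ← mul_assoc, h1, mul_assoc] at h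
        have h2' : wEl a b (r.drop (j + 1)) = (rep a b (cy p l))⁻¹ * (q post * rep a b k') :=
          eq_inv_mul_of_mul_eq h2
        rw [h2'] at h
        have h' := congrArg (fun x => x * (rep a b k')⁻¹) h
        simp only [mul_assoc, mul_inv_cancel, mul_one] at h'
        simpa [mul_assoc] using h'
      intro k0 hk0 l0 hl0 hlt
      by_cases e : 2 * k0 + l0 = 2 * p + l
      · obtain ⟨rfl, rfl⟩ : k0 = p ∧ l0 = l := by omega
        by_cases hlen : 2 * k0 + l < U.length
        · rw [List.getD_eq_getElem _ _ (by simpa using hlen), List.getElem_set_self] at hlt ⊢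
          have hval : rep a b k0 * (if l = 0 then a else b) * (rep a b (cy k0 l))⁻¹ =
              q (hQ (hQ (hQInv pre) (act k' (v.getD i 0))) (hQInv post)) := by
            rw [← S.mul _ _ (hQ_lt _ _) (inv_facts _ hpost).2.2.1, ← S.mul _ _ (inv_facts _ hpre).2.2.1 (act_lt _ _),
              ← S.q_inv hpre, ← S.q_inv hpost, ← key]
            group
          rw [← hval]
          group
        · rw [List.getD_eq_default _ _ (by rw [List.length_set]; omega)] at hlt
          omega
      · have hg : (U.set (2 * p + l) (hQ (hQ (hQInv pre) (act k' (v.getD i 0))) (hQInv post))).getD (2 * k0 + l0) 64 =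
            U.getD (2 * k0 + l0) 64 := by
          simp [List.getD_eq_getElem?_getD, List.getElem?_set_ne (fun h => e h.symm)]
        rw [hg] at hlt ⊢
        exact hU k0 hk0 l0 hl0 hlt

theorem derive_right : Right q a b (derive v) := by
  have h : ∀ (L : List (ℕ × ℕ × ℕ)) (U : List ℕ), Right q a b U →
      Right q a b (L.foldl (fun U s => frL (dStep v U s) id) U) := by
    intro L
    induction L with
    | nil => intro U hU; exact hU
    | cons s L ih => intro U hU; refine ih _ ?_; simp only [frL_eq, id]; exact S.step_right hU s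
  exact h _ _ S.tree_right

theorem scan_eq {i k y : ℕ} (hi : i < 4) (hk : k < 120) (e : walk (derive v) (relW.getD i []) 0 k = some (y, k)) :
    y = act k (v.getD i 0) := by
  obtain ⟨hy, -, h⟩ := S.walk_spec S.derive_right _ _ _ _ _ (by norm_num) hk e
  obtain ⟨hv, hrel⟩ := S.vals i hi
  rw [S.one, one_mul, hrel, S.rep_conj hk hv] at h
  exact (S.inj _ _ (act_lt _ _) hy (mul_right_cancel h)).symm

end Gens

end CfsgLib.HSRec.Pin
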