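import Cfsg.Agent.Lib.HSRec.Derive

/-!
# The product rule of the codes from generators and relations

Elements `a`, `b` acting on a coded group of order 64 as the rows 1, 2 of `actT`, with `a² = 1`, `b⁵ = 1`,
`(a b)⁴ = q 30` and `(a b a b⁴)³ = q 32`, give `el c = q (c % 64) * rep (c / 64)` the product `hMul`.
-/

set_option autoImplicit false
set_option maxRecDepth 100000

namespace CfsgLib.HSRec.Pin

/-- The values of the four relations. -/
def vHS : List ℕ := [0, 0, 30, 32]

/-- The element of a code. -/
def genEl {G : Type*} [Group G] (q : ℕ → G) (a b : G) (c : ℕ) : G := q (c % 64) * rep a b (c / 64)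

theorem coc_walks : ((List.range 120).all fun k => (List.range 120).all fun l =>
    frN (hGet cocT 13 k l) fun u =>
      decide (walk (derive vHS) (repW.getD l []) 0 k = some (u % 64, u / 64)) && Nat.blt u 7680) = true := by
  decide +kernel

theorem hMul_parts (c d : ℕ) : hMul c d % 64 =
    hQ (hQ (c % 64) (act (c / 64) (d % 64))) (hGet cocT 13 (c / 64) (d / 64) % 64) ∧
    hMul c d / 64 = hGet cocT 13 (c / 64) (d / 64) / 64 := by
  have h := hQ_lt (hQ (c % 64) (hGet actT 6 (c / 64) (d % 64))) (hGet cocT 13 (c / 64) (d / 64) % 64)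
  simp only [hMul, act]
  omega

variable {G : Type*} [Group G] {q : ℕ → G} {a b : G}

namespace Gens

variable (S : Gens q a b vHS)

include S

theorem el_mul {c d : ℕ} (hc : c < 7680) (hd : d < 7680) :
    hMul c d < 7680 ∧ genEl q a b c * genEl q a b d = genEl q a b (hMul c d) := by
  have hk : c / 64 < 120 := by omega
  have hl : d / 64 < 120 := by omega
  have h := List.all_eq_true.1 (List.all_eq_true.1 coc_walks (c / 64) (List.mem_range.2 hk)) (d / 64) (List.mem_range.2 hl)
  rw [frN_eq, Bool.and_eq_true, Nat.blt_eq, decide_eq_true_eq] at h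
  obtain ⟨hw, hu⟩ := h
  obtain ⟨e1, e2⟩ := hMul_parts c d
  set u := hGet cocT 13 (c / 64) (d / 64) with hudef
  refine ⟨?_, ?_⟩
  · have := Nat.div_add_mod (hMul c d) 64
    have := Nat.mod_lt (hMul c d) (show 64 > 0 by norm_num)
    omega
  · obtain ⟨-, -, h3⟩ := S.walk_spec S.derive_right _ _ _ _ _ (by norm_num) hk hw
    rw [S.one, one_mul] at h3
    have hr : d % 64 < 64 := Nat.mod_lt _ (by norm_num)
    have hr' : c % 64 < 64 := Nat.mod_lt _ (by norm_num)
    simp only [genEl]
    rw [e1, e2, ← S.mul _ _ (hQ_lt _ _) (Nat.mod_lt _ (by norm_num)), ← S.mul _ _ hr' (act_lt _ _), mul_assoc,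
      ← mul_assoc (rep a b (c / 64)), S.rep_conj hk hr, mul_assoc _ (rep a b (c / 64))]
    show q (c % 64) * (q (act (c / 64) (d % 64)) * (rep a b (c / 64) * wEl a b (repW.getD (d / 64) []))) = _
    rw [h3]
    simp only [mul_assoc]

theorem el_one : genEl q a b 0 = 1 := by
  simp [genEl, rep, wEl, repW, S.one]

end Gens

end CfsgLib.HSRec.Pin
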