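import Cfsg.Agent.Lib.HSRec.Setting
import Cfsg.Agent.Lib.HSRec.OfGens

/-!
# Generators acting exactly as the standard ones
-/

set_option autoImplicit false

namespace CfsgLib.HSRec.Pin

open Subgroup

variable {G : Type*} [Group G]

/-- The frame is fixed, `a` and `b` act on it as the rows 1 and 2 of `actT`, the representatives are those of the
quotient, the relations hold modulo the normal subgroup, `V` is the standard elementary subgroup and some element
exchanges `q sC` and `t`. -/
structure Lifted (t : G) (R V : Subgroup G) (q : ℕ → G) (a b : G) : Prop where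
  frame : Frame t R q
  RH : R ≤ centralizer ({t} : Set G)
  a_mem : a ∈ centralizer ({t} : Set G)
  b_mem : b ∈ centralizer ({t} : Set G)
  conj : ∀ r < 64, a * q r = q (act 1 r) * a ∧ b * q r = q (act 2 r) * b
  rel_mem : ∀ i < 4, wEl a b (relW.getD i []) ∈ R
  inj : ∀ r r' k k', r < 64 → r' < 64 → k < 120 → k' < 120 → q r * rep a b k = q r' * rep a b k' → r = r' ∧ k = k'
  surj : ∀ g ∈ centralizer ({t} : Set G), ∃ r k, r < 64 ∧ k < 120 ∧ q r * rep a b k = g
  V_eq : ∀ g, g ∈ V ↔ ∃ x ∈ vSet, q x = g
  centV : ∀ g h : G, (∀ x ∈ vSet, Commute g (q x)) → (∀ x ∈ vSet, Commute h (q x)) → Commute g h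
  swap : ∃ n : G, n * q sC * n⁻¹ = t ∧ n * t * n⁻¹ = q sC

end CfsgLib.HSRec.Pin
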