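import Cfsg.Agent.Lib.HSRec.Normal
import Cfsg.Agent.Lib.HSRec.Lifted

/-!
# Generators acting exactly as the standard ones
-/

set_option autoImplicit false
set_option linter.unusedSectionVars false
set_option maxRecDepth 100000
set_option synthInstance.maxSize 2000

namespace CfsgLib.HSRec.Pin

open Subgroup

theorem perm_reps_nodup : ((List.range 120).map fun k => (List.finRange 5).map fun i =>
    rep (Equiv.swap (0 : Fin 5) 1) (finRotate 5) k i).Nodup := by decide +kernel

theorem perm_rels : ∀ i < 4, wEl (Equiv.swap (0 : Fin 5) 1) (finRotate 5) (relW.getD i []) = 1 := by decide +kernel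

theorem act_rows : ∀ r < 64, ∀ r' < 64, act 1 (hQ r r') = hQ (act 1 r) (act 1 r') ∧
    act 2 (hQ r r') = hQ (act 2 r) (act 2 r') := by decide +kernel

theorem sign_fix : ∀ e1 < 2, ∀ e2 < 2, ∀ e4 < 2, ∀ e8 < 2, ∃ w < 16,
    hQ w 1 = hQ (hQ 1 (32 * e1)) w ∧ hQ w 2 = hQ (hQ 2 (32 * e2)) w ∧
    hQ w 4 = hQ (hQ 4 (32 * e4)) w ∧ hQ w 8 = hQ (hQ 8 (32 * e8)) w ∧ hQ w 16 = hQ 16 w := by decide +kernel

theorem std_rows : (∀ u ∈ [1, 2, 4, 8], act 1 u % 16 = app P0 u ∧ hQ (act 1 u) (act 1 u) = 0 ∧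
    act 2 u % 16 = app Q0 u ∧ hQ (act 2 u) (act 2 u) = 0 ∧ hQ u u = 0) ∧ act 1 16 = 48 ∧ act 2 16 = 16 := by
  decide +kernel

theorem hom_ext {f g : ℕ → ℕ} (hf : CodeHom f) (hg : CodeHom g) (h : ∀ u ∈ [1, 2, 4, 8, 16], f u = g u) :
    ∀ r < 64, f r = g r := by
  have p : ∀ n u, n < 2 → u ∈ [1, 2, 4, 8] → f (n * u) = g (n * u) := by
    intro n u hn hu
    interval_cases n
    · rw [Nat.zero_mul, hf.zero, hg.zero]
    · rw [Nat.one_mul]
      exact h u (by simp at hu ⊢; omega)
  have s : ∀ a b, a < 64 → b < 64 → f a = g a → f b = g b → f (hQ a b) = g (hQ a b) := fun a b ha hb e1 e2 => by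
    rw [hf.mul a b ha hb, hg.mul a b ha hb, e1, e2]
  have z : ∀ e < 4, f (e * 16) = g (e * 16) := by
    have h16 : f 16 = g 16 := h 16 (by simp)
    intro e he
    interval_cases e
    · rw [Nat.zero_mul, hf.zero, hg.zero]
    · exact h16
    · exact s 16 16 (by norm_num) (by norm_num) h16 h16
    · exact s 32 16 (by norm_num) (by norm_num) (s 16 16 (by norm_num) (by norm_num) h16 h16) h16
  intro r hr
  have e := code_split r hr
  have b0 : r % 2 < 64 := by omega
  have b1 : r / 2 % 2 * 2 < 64 := by omega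
  have b2 : r / 4 % 2 * 4 < 64 := by omega
  have b3 : r / 8 % 2 * 8 < 64 := by omega
  have b4 : r / 16 * 16 < 64 := by omega
  rw [← e]
  have p1 := p (r % 2) 1 (by omega) (by simp)
  rw [Nat.mul_one] at p1
  exact s _ _ (hQ_lt _ _) b4 (s _ _ (hQ_lt _ _) b3 (s _ _ (hQ_lt _ _) b2 (s _ _ b0 b1 p1
    (p _ 2 (by omega) (by simp))) (p _ 4 (by omega) (by simp))) (p _ 8 (by omega) (by simp))) (z _ (by omega))

variable {G : Type*} [Group G]

theorem rep_mem {t a b : G} (ha : a ∈ centralizer ({t} : Set G)) (hb : b ∈ centralizer ({t} : Set G)) :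
    ∀ w : List ℕ, wEl a b w ∈ centralizer ({t} : Set G)
  | [] => by simp [wEl, one_mem]
  | l :: w => by
    rw [wEl_cons]
    exact mul_mem (by split_ifs; exacts [ha, hb]) (rep_mem ha hb w)

theorem map_wEl {M : Type*} [Group M] (f : G →* M) (a b : G) : ∀ w : List ℕ, f (wEl a b w) = wEl (f a) (f b) w
  | [] => by simp [wEl]
  | l :: w => by
    rw [wEl_cons, wEl_cons, map_mul, map_wEl f a b w, apply_ite f]

variable {t : G} {R V : Subgroup G} {π : ↥(centralizer ({t} : Set G)) →* Equiv.Perm (Fin 5)}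
variable (S : Setting t R V π)

include S

theorem word_class {q : ℕ → G} (F : Frame t R q) {a b : G} (ha : a ∈ centralizer ({t} : Set G))
    (hb : b ∈ centralizer ({t} : Set G)) (hma : mat q a = P0) (hmb : mat q b = Q0) :
    ∀ (w : List ℕ), ∀ r < 64, sig q (wEl a b w) r % 16 = actW w r % 16
  | [], r, hr => by
    rw [sig_eq S F (rep_mem ha hb []) hr hr (by simp [wEl])]
    rfl
  | l :: w, r, hr => by
    have hw := rep_mem ha hb w
    obtain ⟨h1, e1⟩ := sig_spec S F hw hr
    have hl : (if l = 0 then a else b) ∈ centralizer ({t} : Set G) := by split_ifs; exacts [ha, hb]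
    obtain ⟨h2, e2⟩ := sig_spec S F hl h1
    rw [sig_eq S F (rep_mem ha hb (l :: w)) hr h2 (by rw [wEl_cons, e2, e1]; group), mat_class S F hl h1,
      word_class F ha hb hma hmb w r hr, actW]
    have hlt : actW w r < 64 := by
      cases w with
      | nil => exact hr
      | cons => exact act_lt _ _
    by_cases h0 : l = 0
    · simp only [h0, if_true]
      rw [hma, rows_eq 1 (by norm_num) _ hlt]
      rfl
    · simp only [h0, if_false]
      rw [hmb, rows_eq 2 (by norm_num) _ hlt]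
      rfl

/-- Frame and generators acting exactly as the standard ones. -/
theorem exists_lifted [Finite G] {q₀ : ℕ → G} (F₀ : Frame t R q₀) :
    ∃ (q : ℕ → G) (a b : G), Lifted t R V q a b := by
  obtain ⟨q, ⟨a0, ha0⟩, ⟨b0, hb0⟩, F, pa, pb, hma, hmb⟩ := exists_normal S F₀
  -- representatives
  have hinj : ∀ k < 120, ∀ k' < 120, rep (Equiv.swap (0 : Fin 5) 1) (finRotate 5) k =
      rep (Equiv.swap (0 : Fin 5) 1) (finRotate 5) k' → k = k' := by
    intro k hk k' hk' e
    exact List.inj_on_of_nodup_map perm_reps_nodup (List.mem_range.2 hk) (List.mem_range.2 hk') (by simp only [e])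
  have decomp : ∀ (q : ℕ → G), Frame t R q → ∀ (a b : G) (ha : a ∈ centralizer ({t} : Set G))
      (hb : b ∈ centralizer ({t} : Set G)), π ⟨a, ha⟩ = Equiv.swap 0 1 → π ⟨b, hb⟩ = finRotate 5 →
      (∀ r r' k k', r < 64 → r' < 64 → k < 120 → k' < 120 → q r * rep a b k = q r' * rep a b k' → r = r' ∧ k = k') ∧
      (∀ g ∈ centralizer ({t} : Set G), ∃ r k, r < 64 ∧ k < 120 ∧ q r * rep a b k = g) ∧
      ∀ i < 4, wEl a b (relW.getD i []) ∈ R := by
    intro q F a b ha hb pa pb
    have hπ : ∀ w, π ⟨wEl a b w, rep_mem ha hb w⟩ = wEl (Equiv.swap (0 : Fin 5) 1) (finRotate 5) w := by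
      intro w
      rw [← pa, ← pb, ← map_wEl]
      congr 1
      exact Subtype.ext (map_wEl (centralizer ({t} : Set G)).subtype (⟨a, ha⟩ : ↥(centralizer ({t} : Set G))) ⟨b, hb⟩ w).symm
    refine ⟨fun r r' k k' hr hr' hk hk' e => ?_, fun g hg => ?_, fun i hi => (S.ker ⟨_, rep_mem ha hb _⟩).1 ?_⟩
    · have h1 : π (⟨q r, S.RH (F.mem r hr)⟩ * ⟨rep a b k, rep_mem ha hb _⟩) =
          π (⟨q r', S.RH (F.mem r' hr')⟩ * ⟨rep a b k', rep_mem ha hb _⟩) := congrArg π (Subtype.ext e)
      rw [map_mul, map_mul, (S.ker ⟨q r, _⟩).2 (F.mem r hr), (S.ker ⟨q r', _⟩).2 (F.mem r' hr'), one_mul, one_mul] at h1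
      have hk1 : k = k' := hinj k hk k' hk' ((hπ _).symm.trans (h1.trans (hπ _)))
      subst hk1
      exact ⟨F.inj r r' hr hr' (mul_right_cancel e), rfl⟩
    · let f : Fin 120 → Equiv.Perm (Fin 5) := fun k => rep (Equiv.swap (0 : Fin 5) 1) (finRotate 5) k
      have hf : Function.Bijective f := (Nat.bijective_iff_injective_and_card f).2
        ⟨fun k k' e => Fin.ext (hinj k k.2 k' k'.2 e), by
          simp [Nat.card_eq_fintype_card, Fintype.card_perm, Nat.factorial]⟩
      obtain ⟨k, hk⟩ := hf.2 (π ⟨g, hg⟩)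
      have hR : g * (rep a b k)⁻¹ ∈ R := (S.ker (⟨g, hg⟩ * (⟨rep a b k, rep_mem ha hb _⟩)⁻¹)).1 (by
        rw [map_mul, map_inv, ← hk, mul_inv_eq_one]
        exact (hπ _).symm)
      obtain ⟨r, hr, e⟩ := F.surj _ hR
      exact ⟨r, k, hr, k.2, by rw [e, inv_mul_cancel_right]⟩
    · rw [hπ, perm_rels i hi]
  obtain ⟨-, hdec, hrel⟩ := decomp q F a0 b0 ha0 hb0 pa pb
  obtain ⟨c1, c2, c3⟩ := std_rows
  have ht1 : t ≠ 1 := fun e => by have := S.ht; rw [e, orderOf_one] at this; omega
  have h16 : q 16 * q 16 = t := by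
    rw [F.mul 16 16 (by norm_num) (by norm_num), show hQ 16 16 = tC from rfl, F.t_eq]
  have hc4 : q 48 = (q 16)⁻¹ := eq_inv_of_mul_eq_one_left (by
    rw [F.mul 48 16 (by norm_num) (by norm_num), show hQ 48 16 = 0 from rfl, F.one])
  -- `b` centralises the central element of order four
  have hb16 : sig q b0 16 = 16 := by
    rcases sig_sixteen S F hb0 with e | e
    · exact e
    exfalso
    obtain ⟨-, e1⟩ := sig_spec S F hb0 (show (16 : ℕ) < 64 by norm_num)
    rw [e, hc4] at e1
    have hR5 : wEl a0 b0 (relW.getD 1 []) ∈ R := hrel 1 (by norm_num)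
    obtain ⟨r, hr, er⟩ := F.surj _ hR5
    have c16 : ∀ u < 64, hQ u 16 = hQ 16 u := by decide +kernel
    have hcomm : q r * q 16 * (q r)⁻¹ = q 16 := by
      rw [mul_inv_eq_iff_eq_mul, F.mul r 16 hr (by norm_num), F.mul 16 r (by norm_num) hr, c16 r hr]
    have hb5 : q r = b0 * (b0 * (b0 * (b0 * b0))) := by
      rw [er, show relW.getD 1 [] = [1, 1, 1, 1, 1] from rfl]
      simp [wEl]
    have k : ∀ x : G, b0 * x⁻¹ * b0⁻¹ = (b0 * x * b0⁻¹)⁻¹ := fun x => by group
    have hr5 : q r * q 16 * (q r)⁻¹ = b0 * (b0 * (b0 * (b0 * (b0 * q 16 * b0⁻¹) * b0⁻¹) * b0⁻¹) * b0⁻¹) * b0⁻¹ := by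
      rw [hb5]; group
    rw [← e1, k, ← e1, inv_inv, ← e1, k, ← e1, inv_inv, ← e1, hcomm] at hr5
    exact ht1 (by rw [← h16]; nth_rw 1 [hr5]; rw [inv_mul_cancel])
  -- `a` inverts it
  have ha16 : sig q a0 16 = 48 := by
    rcases sig_sixteen S F ha0 with e | e
    swap
    · exact e
    exfalso
    have fixc : ∀ h ∈ centralizer ({t} : Set G), h * q 16 * h⁻¹ = q 16 := by
      intro h hh
      obtain ⟨r, k, hr, hk, rfl⟩ := hdec h hh
      have fa : a0 * q 16 * a0⁻¹ = q 16 := ((congrArg q e).symm.trans (sig_spec S F ha0 (by norm_num)).2).symm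
      have fb : b0 * q 16 * b0⁻¹ = q 16 := ((congrArg q hb16).symm.trans (sig_spec S F hb0 (by norm_num)).2).symm
      have fw : ∀ w : List ℕ, wEl a0 b0 w * q 16 * (wEl a0 b0 w)⁻¹ = q 16 := by
        intro w
        induction w with
        | nil => simp [wEl]
        | cons l w ih =>
          have e : ∀ g : G, g * wEl a0 b0 w * q 16 * (g * wEl a0 b0 w)⁻¹ = g * (wEl a0 b0 w * q 16 * (wEl a0 b0 w)⁻¹) * g⁻¹ :=
            fun g => by group
          rw [wEl_cons, e, ih]
          split_ifs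
          exacts [fa, fb]
      have c16 : ∀ u < 64, hQ u 16 = hQ 16 u := by decide +kernel
      rw [show q r * rep a0 b0 k * q 16 * (q r * rep a0 b0 k)⁻¹ =
        q r * (rep a0 b0 k * q 16 * (rep a0 b0 k)⁻¹) * (q r)⁻¹ by group, rep, fw, mul_inv_eq_iff_eq_mul,
        F.mul r 16 hr (by norm_num), F.mul 16 r (by norm_num) hr, c16 r hr]
    have cc : ∀ h ∈ centralizer ({t} : Set G), Commute h (q 16) := fun h hh => mul_inv_eq_iff_eq_mul.1 (fixc h hh)
    obtain ⟨u, v, hu, hv, huV, hvV, hu0, hv0, huv, -, hnd⟩ := exists_pair S F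
    obtain ⟨n, -, e1, -, e3⟩ := S.move (q u) (q v) t t (q v) (q u) huV hvV S.t_mem S.t_mem hvV huV hnd (by
      have sw : q u * q v = q v * q u := S.Vcomm _ huV _ hvV
      have st : ∀ x ∈ V, t * x = x * t := fun x hx => S.Vcomm _ S.t_mem _ hx
      rw [st _ hvV, st _ huV, ← sw,
        show q v * t * q u = q u * q v * t by rw [mul_assoc, st _ huV, ← mul_assoc, ← sw]]
      refine (List.Perm.nodup_iff ?_).2 hnd
      generalize q u * q v * t = x7
      generalize q u * q v = x3
      generalize q u * t = x5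
      generalize q v * t = x6
      generalize q u = x1
      generalize q v = x2
      refine List.Perm.cons _ ?_
      classical
      refine List.perm_iff_count.2 fun z => ?_
      simp only [List.count_cons, List.count_nil]
      omega)
    set j := n * q 16 * n⁻¹ with hj
    have tu : Commute t (q u) := S.Vcomm _ S.t_mem _ huV
    have jt : j ∈ centralizer ({t} : Set G) := by
      refine Subgroup.mem_centralizer_singleton_iff.2 ?_
      have h := (cc (q u) (S.RH (F.mem u hu))).eq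
      rw [← e1, hj]
      calc n * q 16 * n⁻¹ * (n * q u * n⁻¹) = n * (q 16 * q u) * n⁻¹ := by group
        _ = n * (q u * q 16) * n⁻¹ := by rw [h]
        _ = _ := by group
    have j2 : j * j = q u := by
      rw [hj, show n * q 16 * n⁻¹ * (n * q 16 * n⁻¹) = n * (q 16 * q 16) * n⁻¹ by group, h16]
      exact e3
    have om1 : ∀ a < 64, ∀ b < 64, om (a % 16) (b % 16) ≠ 1 → hQ a b = hQ b a := by decide +kernel
    have jfix : ∀ r < 16, om (u % 16) r ≠ 1 → sig q j r = r := by
      intro r hr hom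
      have hr' : r < 64 := by omega
      refine sig_eq S F jt hr' hr' ?_
      have hc : Commute (q u) (q r) := by
        show q u * q r = q r * q u
        rw [F.mul u r hu hr', F.mul r u hr' hu, om1 u hu r hr' (by rwa [Nat.mod_eq_of_lt hr])]
      have hg : n⁻¹ * q r * n ∈ centralizer ({t} : Set G) := by
        refine Subgroup.mem_centralizer_singleton_iff.2 ?_
        have e3' : t = n⁻¹ * q u * n := by rw [← e3]; group
        rw [e3']
        calc n⁻¹ * q r * n * (n⁻¹ * q u * n) = n⁻¹ * (q r * q u) * n := by group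
          _ = n⁻¹ * (q u * q r) * n := by rw [hc.eq]
          _ = _ := by group
      have h := (cc _ hg).eq
      have h' : q r * j = j * q r := by
        rw [hj]
        calc q r * (n * q 16 * n⁻¹) = n * (n⁻¹ * q r * n * q 16) * n⁻¹ := by group
          _ = n * (q 16 * (n⁻¹ * q r * n)) * n⁻¹ := by rw [h]
          _ = _ := by group
      rw [← h', mul_inv_cancel_right]
    obtain ⟨r0, k, hr0, hk, ej⟩ := hdec j jt
    have hcls : ∀ v < 16, sig q j v % 16 = act k v % 16 := by
      intro v hv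
      have hv' : v < 64 := by omega
      have hm : rep a0 b0 k ∈ centralizer ({t} : Set G) := rep_mem ha0 hb0 _
      obtain ⟨s1, s2⟩ := sig_spec S F hm hv'
      obtain ⟨t1, t2⟩ := sig_spec S F (S.RH (F.mem r0 hr0)) s1
      rw [sig_eq S F jt hv' t1 (by rw [t2, s2, ← ej]; group), mat_class S F (S.RH (F.mem r0 hr0)) s1,
        mat_of_R S F (F.mem r0 hr0), app_idL _ (Nat.mod_lt _ (by norm_num))]
      rw [show rep a0 b0 k = wEl a0 b0 (repW.getD k []) from rfl, word_class S F ha0 hb0 hma hmb _ v hv',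
        act_rep k hk v hv']
    have h := List.all_eq_true.1 (List.all_eq_true.1 no_transvection k (List.mem_range.2 hk)) (u % 16)
      (List.mem_range.2 (Nat.mod_lt _ (by norm_num)))
    simp only [Bool.or_eq_true, Nat.beq_eq, Bool.not_eq_true', List.all_eq_false, List.mem_range] at h
    rcases h with (h | h) | h
    · exact hu0 h
    · subst h
      have hj0 : q r0 = j := by simpa [rep, wEl, repW] using ej
      have : q (hQ r0 r0) = q u := by rw [← F.mul r0 r0 hr0 hr0, hj0, j2]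
      have e0 := congrArg (fun x => x % 16) (F.inj _ _ (hQ_lt _ _) hu this)
      rw [class_hQ r0 hr0 r0 hr0, Nat.xor_self] at e0
      exact hu0 e0.symm
    · obtain ⟨v, hv, hv'⟩ := h
      by_cases hom : om (u % 16) v = 1
      · exact hv' (Or.inl hom)
      · exact hv' (Or.inr (by rw [← hcls v hv, jfix v hv hom, Nat.mod_eq_of_lt hv]))
  -- fixing the signs
  have hC : ∀ l ∈ [1, 2], CodeHom (act l) := by
    intro l hl
    refine ⟨fun r _ => act_lt l r, fun r r' hr hr' => ?_⟩
    simp only [List.mem_cons, List.not_mem_nil, or_false] at hl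
    rcases hl with rfl | rfl
    exacts [(act_rows r hr r' hr').1, (act_rows r hr r' hr').2]
  have fix : ∀ (h : G) (hh : h ∈ centralizer ({t} : Set G)) (l : ℕ) (P : List ℕ), l ∈ [1, 2] → mat q h = P →
      (∀ u ∈ [1, 2, 4, 8], act l u % 16 = app P u ∧ hQ (act l u) (act l u) = 0 ∧ hQ u u = 0) →
      sig q h 16 = act l 16 → ∃ g ∈ R, ∀ r < 64, h * g * q r = q (act l r) * (h * g) := by
    intro h hh l P hl hm hstd h16'
    have H := sig_hom S F hh
    have two : ∀ u ∈ [1, 2, 4, 8], ∃ e < 2, sig q h u = hQ (act l u) (32 * e) := by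
      intro u hu
      obtain ⟨k1, k2, k3⟩ := hstd u hu
      have hu' : u < 16 := by simp at hu; omega
      have hsq : hQ (sig q h u) (sig q h u) = 0 := by
        rw [← H.mul u u (by omega) (by omega), k3, H.zero]
      have hcl : sig q h u % 16 = act l u % 16 := by
        rw [mat_class S F hh (show u < 64 by omega), hm, Nat.mod_eq_of_lt hu', k1]
      obtain ⟨l1, l2, l3, l4⟩ := lift2_spec (act l u % 16) (Nat.mod_lt _ (by norm_num))
      have c32 : ∀ r < 64, hQ r 0 = r ∧ hQ (hQ r 32) 32 = r := by decide +kernel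
      rcases l4 _ (act_lt l u) rfl k2 with e1 | e1 <;> rcases l4 _ (H.lt u (by omega)) hcl hsq with e2 | e2
      · exact ⟨0, by norm_num, by rw [e2, ← e1, Nat.mul_zero, (c32 _ (act_lt _ _)).1]⟩
      · exact ⟨1, by norm_num, by rw [e2, ← e1, Nat.mul_one]⟩
      · exact ⟨1, by norm_num, by rw [e2]; conv_rhs => rw [e1]
                                  rw [Nat.mul_one, (c32 _ l1).2]⟩
      · exact ⟨0, by norm_num, by rw [e2, ← e1, Nat.mul_zero, (c32 _ (act_lt _ _)).1]⟩
    obtain ⟨e1, he1, s1⟩ := two 1 (by simp)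
    obtain ⟨e2, he2, s2⟩ := two 2 (by simp)
    obtain ⟨e4, he4, s4⟩ := two 4 (by simp)
    obtain ⟨e8, he8, s8⟩ := two 8 (by simp)
    obtain ⟨w, hw, w1, w2, w4, w8, w16⟩ := sign_fix e1 he1 e2 he2 e4 he4 e8 he8
    have hw' : w < 64 := by omega
    refine ⟨q w, F.mem w hw', ?_⟩
    have hg : h * q w ∈ centralizer ({t} : Set G) := mul_mem hh (S.RH (F.mem w hw'))
    have hcent : ∀ e < 2, sig q h (32 * e) = 32 * e := by
      intro e he
      interval_cases e
      · exact H.zero
      · refine sig_eq S F hh (by norm_num) (by norm_num) ?_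
        rw [show q (32 * 1) = t from F.t_eq, mul_inv_eq_iff_eq_mul]
        exact Subgroup.mem_centralizer_singleton_iff.1 hh
    have c32 : ∀ r < 64, ∀ e < 2, hQ (hQ r (32 * e)) (32 * e) = r := by decide +kernel
    have gen : ∀ u e, u < 64 → e < 2 → hQ w u = hQ (hQ u (32 * e)) w → sig q h u = hQ (act l u) (32 * e) →
        sig q (h * q w) u = act l u := by
      intro u e hu he hwu hs
      have he' : 32 * e < 64 := by omega
      refine sig_eq S F hg hu (act_lt _ _) ?_
      have e' : q w * q u * (q w)⁻¹ = q (hQ u (32 * e)) := by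
        rw [mul_inv_eq_iff_eq_mul, F.mul w u hw' hu, hwu, F.mul _ w (hQ_lt _ _) hw']
      rw [show h * q w * q u * (h * q w)⁻¹ = h * (q w * q u * (q w)⁻¹) * h⁻¹ by group, e',
        ← (sig_spec S F hh (hQ_lt u (32 * e))).2, H.mul u _ hu he', hs, hcent e he, c32 _ (act_lt _ _) e he]
    have hall := hom_ext (sig_hom S F hg) (hC l hl) (by
      intro u hu
      simp only [List.mem_cons, List.not_mem_nil, or_false] at hu
      rcases hu with rfl | rfl | rfl | rfl | rfl
      · exact gen 1 e1 (by norm_num) he1 w1 s1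
      · exact gen 2 e2 (by norm_num) he2 w2 s2
      · exact gen 4 e4 (by norm_num) he4 w4 s4
      · exact gen 8 e8 (by norm_num) he8 w8 s8
      · refine gen 16 0 (by norm_num) (by norm_num) (by rw [w16]; rfl) ?_
        rw [h16', show 32 * 0 = 0 from rfl]
        have c0 : ∀ r < 64, hQ r 0 = r := by decide +kernel
        rw [c0 _ (act_lt _ _)])
    intro r hr
    have := (sig_spec S F hg hr).2
    rw [hall r hr] at this
    rw [this, inv_mul_cancel_right]
  obtain ⟨ga, hga, hca⟩ := fix a0 ha0 1 P0 (by simp) hma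
    (fun u hu => ⟨(c1 u hu).1, (c1 u hu).2.1, (c1 u hu).2.2.2.2⟩) (by rw [ha16, c2])
  obtain ⟨gb, hgb, hcb⟩ := fix b0 hb0 2 Q0 (by simp) hmb
    (fun u hu => ⟨(c1 u hu).2.2.1, (c1 u hu).2.2.2.1, (c1 u hu).2.2.2.2⟩) (by rw [hb16, c3])
  set a := a0 * ga with haDef
  set b := b0 * gb with hbDef
  have haH : a ∈ centralizer ({t} : Set G) := mul_mem ha0 (S.RH hga)
  have hbH : b ∈ centralizer ({t} : Set G) := mul_mem hb0 (S.RH hgb)
  have pa' : π ⟨a, haH⟩ = Equiv.swap 0 1 := by
    rw [show (⟨a, haH⟩ : ↥(centralizer ({t} : Set G))) = ⟨a0, ha0⟩ * ⟨ga, S.RH hga⟩ from rfl, map_mul,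
      (S.ker ⟨ga, _⟩).2 hga, mul_one, pa]
  have pb' : π ⟨b, hbH⟩ = finRotate 5 := by
    rw [show (⟨b, hbH⟩ : ↥(centralizer ({t} : Set G))) = ⟨b0, hb0⟩ * ⟨gb, S.RH hgb⟩ from rfl, map_mul,
      (S.ker ⟨gb, _⟩).2 hgb, mul_one, pb]
  obtain ⟨inj, surj, relR⟩ := decomp q F a b haH hbH pa' pb'
  have hmaA : mat q a = P0 := by
    rw [haDef, mat_mul S F ha0 (S.RH hga), mat_of_R S F hga, hma]; decide +kernel
  have hmbB : mat q b = Q0 := by
    rw [hbDef, mat_mul S F hb0 (S.RH hgb), mat_of_R S F hgb, hmb]; decide +kernel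
  -- the line of `V`
  obtain ⟨u, v, hu, hv, huV, hvV, hu0, hv0, huv, hom, hnd⟩ := exists_pair S F
  have hPi : P0 ∈ invs := by decide +kernel
  have horb := orbit_le_five S F ⟨a, haH⟩ ⟨b, hbH⟩ (hmaA ▸ hPi) hmbB hu hv huV hvV hu0 hv0 huv hnd
  simp only [hmaA] at horb
  have hiso := (mask_small _ (Nat.mod_lt u (by norm_num)) _ (Nat.mod_lt v (by norm_num)) hu0 hv0 huv).2.2.2.2.2 hom
  have h5 := List.all_eq_true.1 five_lines _ hiso
  rw [Bool.or_eq_true, Bool.not_eq_true', List.contains_iff_mem] at h5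
  replace h5 := h5.resolve_left (by rw [Nat.ble_eq_true_of_le horb]; simp)
  obtain ⟨m, hm, hmW⟩ : ∃ m < 5, wMask (u % 16) (v % 16) = appW (powL Q0 m) W0 := by
    have p0 : appW (powL Q0 0) W0 = W0 := by decide +kernel
    have p1 : powL Q0 1 = Q0 := by decide +kernel
    simp only [List.mem_cons, List.not_mem_nil, or_false] at h5
    rcases h5 with e | e | e | e | e
    exacts [⟨0, by norm_num, by rw [e, p0]⟩, ⟨1, by norm_num, by rw [e, p1]⟩, ⟨2, by norm_num, e⟩,
      ⟨3, by norm_num, e⟩, ⟨4, by norm_num, e⟩]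
  have hpm : ∀ n, mat q (b ^ n) = powL Q0 n := by
    intro n
    induction n with
    | zero => rw [pow_zero]; exact mat_one S F
    | succ n ih => rw [pow_succ', mat_mul S F hbH (pow_mem hbH n), ih, hmbB]; rfl
  set g := b ^ m with hgDef
  have hgH : g ∈ centralizer ({t} : Set G) := pow_mem hbH m
  have hgt : g * t * g⁻¹ = t := mul_inv_eq_iff_eq_mul.2 (Subgroup.mem_centralizer_singleton_iff.1 hgH)
  let q' : ℕ → G := fun r => g * q r * g⁻¹
  have hcj : ∀ x y : G, g * (x * y) * g⁻¹ = g * x * g⁻¹ * (g * y * g⁻¹) := fun x y => by group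
  have F' : Frame t R q' :=
    { one := by simp [q', F.one]
      mul := fun r r' hr hr' => by simp only [q']; rw [← hcj, F.mul r r' hr hr']
      inj := fun r r' hr hr' e => F.inj r r' hr hr' (mul_left_cancel (mul_right_cancel e))
      t_eq := by simp only [q', F.t_eq]; exact hgt
      mem := fun r hr => S.conj_R hgH (F.mem r hr)
      surj := fun x hx => by
        obtain ⟨r, hr, e⟩ := F.surj (g⁻¹ * x * g) (by
          have := S.conj_R (inv_mem hgH) hx
          rwa [inv_inv] at this)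
        exact ⟨r, hr, by simp only [q']; rw [e]; group⟩ }
  set a' := g * a * g⁻¹ with ha'
  set b' := g * b * g⁻¹ with hb'
  have ha'H : a' ∈ centralizer ({t} : Set G) := mul_mem (mul_mem hgH haH) (inv_mem hgH)
  have hb'H : b' ∈ centralizer ({t} : Set G) := mul_mem (mul_mem hgH hbH) (inv_mem hgH)
  have hwc : ∀ w : List ℕ, wEl a' b' w = g * wEl a b w * g⁻¹ := by
    intro w
    induction w with
    | nil => simp [wEl]
    | cons l w ih => rw [wEl_cons, wEl_cons, ih]; split_ifs <;> simp [ha', hb', mul_assoc]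
  -- `V` is the standard subgroup
  have vfacts : (∀ x ∈ vSet, x < 64 ∧ hQ x x = 0 ∧ (x % 16 = 0 ∨ W0.testBit (x % 16))) ∧ vSet.Nodup ∧
      vSet.length = 8 ∧ ∀ m < 5, ∀ c < 16, W0.testBit c → (appW (powL Q0 m) W0).testBit (app (powL Q0 m) c) := by
    decide +kernel
  obtain ⟨vf, vnd, vlen, vimg⟩ := vfacts
  have inV : ∀ s < 64, hQ s s = 0 → (s % 16 = 0 ∨ (wMask (u % 16) (v % 16)).testBit (s % 16)) → q s ∈ V := by
    intro s hs hss hcl
    have tV : q 32 ∈ V := by rw [show q 32 = t from F.t_eq]; exact S.t_mem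
    have d0 : ∀ s < 64, s % 16 = 0 → hQ s s = 0 → s = 0 ∨ s = 32 := by decide +kernel
    have bits : ∀ a < 16, ∀ b < 16, ∀ c < 16, a ≠ 0 → b ≠ 0 → a ≠ b → (wMask a b).testBit c →
        c = a ∨ c = b ∨ c = a ^^^ b := by decide +kernel
    have lifts : ∀ r < 64, ∀ s < 64, hQ r r = 0 → hQ s s = 0 → s % 16 = r % 16 → s = r ∨ s = hQ r 32 := by decide +kernel
    have via : ∀ r < 64, q r ∈ V → hQ r r = 0 → s % 16 = r % 16 → q s ∈ V := by
      intro r hr hrV hrr e
      rcases lifts r hr s hs hrr hss e with rfl | rfl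
      · exact hrV
      · rw [← F.mul r 32 hr (by norm_num)]; exact mul_mem hrV tV
    have sqz : ∀ r < 64, q r ∈ V → hQ r r = 0 := fun r hr h => by
      refine F.inj _ _ (hQ_lt _ _) (by norm_num) ?_
      rw [← F.mul r r hr hr, S.Vsq _ h, F.one]
    rcases hcl with h0 | hb'
    · rcases d0 s hs h0 hss with rfl | rfl
      · rw [F.one]; exact one_mem V
      · exact tV
    · have huvV : q (hQ u v) ∈ V := by rw [← F.mul u v hu hv]; exact mul_mem huV hvV
      rcases bits _ (Nat.mod_lt u (by norm_num)) _ (Nat.mod_lt v (by norm_num)) _ (Nat.mod_lt s (by norm_num)) hu0 hv0 huv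
          hb' with e | e | e
      · exact via u hu huV (sqz u hu huV) e
      · exact via v hv hvV (sqz v hv hvV) e
      · exact via _ (hQ_lt u v) huvV (sqz _ (hQ_lt u v) huvV) (by rw [e, class_hQ u hu v hv])
  have hsub : ∀ x ∈ vSet, q' x ∈ V := by
    intro x hx
    obtain ⟨h1, h2, h3⟩ := vf x hx
    obtain ⟨s1, s2⟩ := sig_spec S F hgH h1
    simp only [q']
    rw [← s2]
    refine inV _ s1 ?_ ?_
    · rw [← (sig_hom S F hgH).mul x x h1 h1, h2, (sig_hom S F hgH).zero]
    · rw [mat_class S F hgH h1, hgDef, hpm m]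
      rcases h3 with h3 | h3
      · exact Or.inl (by rw [h3, app_zero])
      · exact Or.inr (hmW ▸ vimg m hm _ (Nat.mod_lt _ (by norm_num)) h3)
  have hV : ∀ y, y ∈ V ↔ ∃ x ∈ vSet, q' x = y := by
    intro y
    refine ⟨fun hy => ?_, fun ⟨x, hx, e⟩ => e ▸ hsub x hx⟩
    by_contra hcon
    push Not at hcon
    classical
    have nd : (y :: vSet.map q').Nodup := by
      refine List.nodup_cons.2 ⟨fun h => ?_, List.Nodup.map_on (fun x hx z hz e => F'.inj x z (vf x hx).1 (vf z hz).1 e) vnd⟩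
      obtain ⟨x, hx, e⟩ := List.mem_map.1 h
      exact hcon x hx e
    have := Finset.card_le_card (s := (y :: vSet.map q').toFinset) (t := (Set.toFinite (V : Set G)).toFinset)
      (fun x hx => (Set.Finite.mem_toFinset _).2 (by
        rcases List.mem_cons.1 (List.mem_toFinset.1 hx) with rfl | h
        · exact hy
        · obtain ⟨z, hz, rfl⟩ := List.mem_map.1 h
          exact hsub z hz))
    rw [List.toFinset_card_of_nodup nd, ← Set.ncard_eq_toFinset_card _ (Set.toFinite _), ← Nat.card_coe_set_eq,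
      SetLike.coe_sort_coe, S.Vcard, List.length_cons, List.length_map, vlen] at this
    omega
  refine ⟨q', a', b', ⟨F', S.RH, ha'H, hb'H, fun r hr => ?_, fun i hi => ?_, ?_, ?_, hV,
    fun x y hx hy => S.centV x y (fun v hv => ?_) (fun v hv => ?_), ?_⟩⟩
  · constructor
    · simp only [q', ha']; rw [← hcj, hca r hr, hcj]
    · simp only [q', hb']; rw [← hcj, hcb r hr, hcj]
  · rw [hwc]; exact S.conj_R hgH (relR i hi)
  · intro r r' k k' hr hr' hk hk' e
    simp only [rep, hwc, q'] at e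
    rw [← hcj, ← hcj] at e
    exact inj r r' k k' hr hr' hk hk' (mul_left_cancel (mul_right_cancel e))
  · intro y hy
    obtain ⟨r, k, hr, hk, e⟩ := surj (g⁻¹ * y * g) (mul_mem (mul_mem (inv_mem hgH) hy) hgH)
    refine ⟨r, k, hr, hk, ?_⟩
    simp only [rep, hwc, q']
    rw [← hcj, show q r * wEl a b (repW.getD k []) = g⁻¹ * y * g from e]
    group
  · obtain ⟨z, hz, rfl⟩ := (hV v).1 hv; exact hx z hz
  · obtain ⟨z, hz, rfl⟩ := (hV v).1 hv; exact hy z hz
  · have hs : q' sC ∈ V := hsub _ (by decide)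
    have h4 : q' vC ∈ V := hsub _ (by decide)
    have e32 : q' 32 = t := F'.t_eq
    have nd8 : ∀ l : List ℕ, (∀ x ∈ l, x < 64) → l.Nodup → (l.map q').Nodup := fun l hl h =>
      List.Nodup.map_on (fun x hx y hy e => F'.inj x y (hl x hx) (hl y hy) e) h
    have l1 : [1, q' sC, q' vC, q' sC * q' vC, t, q' sC * t, q' vC * t, q' sC * q' vC * t] =
        [0, 1, 4, 5, 32, 33, 36, 37].map q' := by
      simp only [List.map_cons, List.map_nil, F'.one, ← e32, F'.mul sC vC (by decide) (by decide),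
        F'.mul sC 32 (by decide) (by norm_num), F'.mul vC 32 (by decide) (by norm_num),
        F'.mul _ 32 (hQ_lt sC vC) (by norm_num)]
      rfl
    have l2 : [1, t, q' vC, t * q' vC, q' sC, t * q' sC, q' vC * q' sC, t * q' vC * q' sC] =
        [0, 32, 4, 36, 1, 33, 5, 37].map q' := by
      simp only [List.map_cons, List.map_nil, F'.one, ← e32, F'.mul 32 vC (by norm_num) (by decide),
        F'.mul 32 sC (by norm_num) (by decide), F'.mul vC sC (by decide) (by decide),
        F'.mul _ sC (hQ_lt 32 vC) (by decide)]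
      rfl
    obtain ⟨n, -, e1, -, e3⟩ := S.move (q' sC) (q' vC) t t (q' vC) (q' sC) hs h4 S.t_mem S.t_mem h4 hs
      (l1 ▸ nd8 _ (by decide) (by decide)) (l2 ▸ nd8 _ (by decide) (by decide))
    exact ⟨n, e1, e3⟩

end CfsgLib.HSRec.Pin
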