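import Cfsg.Agent.Lib.HSRec.Basic
import Cfsg.Agent.Lib.Cores.Basic
import Cfsg.Agent.Lib.InvolChar.SubgroupsA8

/-!
# The normaliser of the elementary subgroup of order eight
-/

set_option autoImplicit false
set_option linter.unusedSectionVars false
set_option maxRecDepth 100000
set_option synthInstance.maxSize 2000
set_option linter.style.haveILetI false

namespace CfsgLib.HSRec.MFacts

open Subgroup

variable {G : Type*} [Group G]

/-- The facts about `M` used by the pinning. -/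
structure Facts (V M : Subgroup G) (t : G) : Prop where
  cent : ∀ g : G, (∀ a ∈ V, Commute g a) → g ∈ M
  comm : ∀ g h : G, (∀ a ∈ V, Commute g a) → (∀ a ∈ V, Commute h a) → Commute g h
  four : ∀ g : G, (∀ a ∈ V, Commute g a) → g ^ 4 = 1
  invol : ∀ g : G, (∀ a ∈ V, Commute g a) → g * g = 1 → g ∈ V
  move : ∀ a b d a' b' d' : G, a ∈ V → b ∈ V → d ∈ V → a' ∈ V → b' ∈ V → d' ∈ V →
    [1, a, b, a * b, d, a * d, b * d, a * b * d].Nodup → [1, a', b', a' * b', d', a' * d', b' * d', a' * b' * d'].Nodup →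
    ∃ g ∈ M, g * a * g⁻¹ = a' ∧ g * b * g⁻¹ = b' ∧ g * d * g⁻¹ = d'
  cardNV : Nat.card ↥(normalizer (V : Set G) ⊓ centralizer ({t} : Set G) : Subgroup G) = 1536

/-- Independence of three indices below eight. -/
def indN (i j k : ℕ) : Bool :=
  !Nat.beq i 0 && !Nat.beq j 0 && !Nat.beq k 0 && !Nat.beq i j && !Nat.beq k i && !Nat.beq k j &&
    !Nat.beq k (i ^^^ j)

theorem indN_count : (Finset.univ.filter fun p : Fin 8 × Fin 8 × Fin 8 => indN p.1 p.2.1 p.2.2).card = 168 := by
  decide +kernel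

theorem indN_facts : (∀ i < 8, ∀ j < 8, ∀ k < 8, indN i j k = true ↔
      [0, i, j, i ^^^ j, k, i ^^^ k, j ^^^ k, i ^^^ j ^^^ k].Nodup) ∧
    (∀ k < 8, k ≠ 0 → ∃ i < 8, ∃ j < 8, indN i j k = true) ∧
    (∀ i < 8, ∀ j < 8, i ≠ 0 → j ≠ 0 → i ≠ j → ∃ k < 8, indN i j k = true ∧ indN j i k = true) := by
  decide +kernel

theorem xor_bits : ∀ n < 8, ∀ m < 8, (n ^^^ m) % 2 = (n % 2 + m % 2) % 2 ∧
    (n ^^^ m) / 2 % 2 = (n / 2 % 2 + m / 2 % 2) % 2 ∧ (n ^^^ m) / 4 = (n / 4 + m / 4) % 2 ∧ n ^^^ m < 8 := by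
  decide +kernel

theorem card_four : (Finset.univ.filter fun v : ZMod 4 × ZMod 4 × ZMod 4 => v + v = 0).card = 8 := by decide +kernel

theorem four_pow : ∀ v : Multiplicative (ZMod 4 × ZMod 4 × ZMod 4), v ^ 4 = 1 := by decide +kernel

/-- The indexed elements of an elementary group of order eight. -/
def vEl (a b d : G) (n : ℕ) : G := a ^ (n % 2) * b ^ (n / 2 % 2) * d ^ (n / 4)

theorem vEl_facts {V : Subgroup G} (hc : ∀ a ∈ V, ∀ b ∈ V, a * b = b * a) (hs : ∀ a ∈ V, a * a = 1) {a b d : G}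
    (ha : a ∈ V) (hb : b ∈ V) (hd : d ∈ V) :
    (∀ n, vEl a b d n ∈ V) ∧ (∀ n < 8, ∀ m < 8, vEl a b d n * vEl a b d m = vEl a b d (n ^^^ m)) ∧
      [0, 1, 2, 3, 4, 5, 6, 7].map (vEl a b d) = [1, a, b, a * b, d, a * d, b * d, a * b * d] := by
  refine ⟨fun n => mul_mem (mul_mem (pow_mem ha _) (pow_mem hb _)) (pow_mem hd _), fun n hn m hm => ?_, by simp [vEl]⟩
  have p2 : ∀ u ∈ V, ∀ k : ℕ, u ^ k = u ^ (k % 2) := fun u hu k => by
    conv_lhs => rw [← Nat.div_add_mod k 2, pow_add, pow_mul, pow_two, hs u hu, one_pow, one_mul]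
  obtain ⟨h1, h2, h3, -⟩ := xor_bits n hn m hm
  simp only [vEl]
  rw [h1, h2, h3, ← p2 a ha (n % 2 + m % 2), ← p2 b hb (n / 2 % 2 + m / 2 % 2), ← p2 d hd (n / 4 + m / 4), pow_add, pow_add, pow_add]
  have c1 : ∀ x ∈ V, ∀ y ∈ V, ∀ z : G, x * (y * z) = y * (x * z) := fun x hx y hy z => by
    rw [← mul_assoc, hc x hx y hy, mul_assoc]
  simp only [mul_assoc]
  rw [c1 _ (pow_mem hd _) _ (pow_mem ha _), c1 _ (pow_mem hb (n / 2 % 2)) _ (pow_mem ha _),
    c1 _ (pow_mem hd _) _ (pow_mem hb _)]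

theorem facts_of [Finite G] (t : G) (ht : orderOf t = 2) (V M : Subgroup G) (hc : ∀ a ∈ V, ∀ b ∈ V, a * b = b * a)
    (hs : ∀ a ∈ V, a * a = 1) (hVcard : Nat.card V = 8) (hM : M = normalizer (V : Set G))
    (eOM : Cfsg.pCore 2 M ≃* Multiplicative (ZMod 4 × ZMod 4 × ZMod 4))
    [(Cfsg.pCore 2 ↥M).Normal]
    (eM : M ⧸ Cfsg.pCore 2 M ≃* GL (Fin 3) (ZMod 2)) (htV : t ∈ V)
    (hH : Nat.card ↥(centralizer ({t} : Set G)) = 7680) : Facts V M t := by
  classical
  haveI : Fact (Nat.Prime 2) := ⟨Nat.prime_two⟩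
  have hVM : V ≤ M := by
    intro v hv
    rw [hM, mem_normalizer_iff]
    intro x
    have key : ∀ y ∈ V, v * y * v⁻¹ = y := fun y hy => by rw [hc v hv y hy, mul_inv_cancel_right]
    constructor
    · intro hx
      rw [key x hx]
      exact hx
    · intro hx
      have := mul_mem (mul_mem (inv_mem hv) hx) hv
      rwa [show v⁻¹ * (v * x * v⁻¹) * v = x by group] at this
  set A : Subgroup ↥M := Cfsg.pCore 2 ↥M with hA
  haveI hVn : (V.subgroupOf M).Normal := ⟨fun x hx g => by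
    have hg : (g : G) ∈ normalizer (V : Set G) := hM ▸ g.2
    exact (mem_normalizer_iff.1 hg _).1 hx⟩
  have hVA : V.subgroupOf M ≤ A := by
    refine CfsgLib.Cores.le_pCore (IsPGroup.of_card (n := 3) ?_)
    rw [Nat.card_congr (Subgroup.subgroupOfEquivOfLe hVM).toEquiv, hVcard]
    rfl
  have acomm : ∀ x ∈ A, ∀ y ∈ A, x * y = y * x := fun x hx y hy => by
    have e : (⟨x, hx⟩ : ↥A) * ⟨y, hy⟩ = ⟨y, hy⟩ * ⟨x, hx⟩ := eOM.injective (by rw [map_mul, map_mul, mul_comm])
    exact congrArg Subtype.val e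
  have afour : ∀ x ∈ A, x ^ 4 = 1 := fun x hx => by
    have e : (⟨x, hx⟩ : ↥A) ^ 4 = 1 := eOM.injective (by
      rw [map_pow, map_one]; exact four_pow _)
    exact congrArg Subtype.val e
  have ainv : ∀ x ∈ A, x * x = 1 → (x : G) ∈ V := by
    intro x hx hxx
    by_contra hxV
    let f : ↥A → ZMod 4 × ZMod 4 × ZMod 4 := fun y => Multiplicative.toAdd (eOM y)
    haveI : Fintype ↥A := Fintype.ofFinite _
    have hS : (Finset.univ.filter fun y : ↥A => y * y = 1).card ≤ 8 := by
      rw [← card_four]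
      refine Finset.card_le_card_of_injOn f (fun y hy => ?_) (fun y _ z _ e => eOM.injective (Multiplicative.toAdd.injective e))
      simp only [Finset.coe_filter, Finset.mem_univ, true_and, Set.mem_setOf_eq] at hy
      simp only [Finset.coe_filter, Finset.mem_univ, true_and, Set.mem_setOf_eq]
      have := congrArg (fun w => Multiplicative.toAdd (eOM w)) hy
      simpa [f, map_mul] using this
    let g : Option ↥V → ↥A := fun o => o.elim ⟨x, hx⟩ fun v => ⟨⟨v, hVM v.2⟩, hVA (show (v : G) ∈ V from v.2)⟩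
    have hg : Function.Injective g := by
      rintro (_ | u) (_ | v) e
      · rfl
      · exact absurd ((congrArg (fun w : ↥A => ((w : ↥M) : G)) e : (x : G) = v) ▸ v.2) hxV
      · exact absurd ((congrArg (fun w : ↥A => ((w : ↥M) : G)) e : (u : G) = x) ▸ u.2) hxV
      · exact congrArg some (Subtype.ext (congrArg (fun w : ↥A => ((w : ↥M) : G)) e))
    haveI : Fintype ↥V := Fintype.ofFinite _
    have h9 : (Finset.univ.image g).card = 9 := by
      rw [Finset.card_image_of_injective _ hg, Finset.card_univ, Fintype.card_option, ← Nat.card_eq_fintype_card, hVcard]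
    have hsub : Finset.univ.image g ⊆ Finset.univ.filter fun y : ↥A => y * y = 1 := by
      intro y hy
      obtain ⟨o, -, rfl⟩ := Finset.mem_image.1 hy
      refine Finset.mem_filter.2 ⟨Finset.mem_univ _, Subtype.ext (Subtype.ext ?_)⟩
      cases o with
      | none => exact congrArg Subtype.val hxx
      | some v => exact hs v v.2
    have := (Finset.card_le_card hsub).trans hS
    omega
  -- the kernel of the action
  set K : Subgroup ↥M := (centralizer (V : Set G)).subgroupOf M with hK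
  haveI hKn : K.Normal := ⟨fun x hx g => by
    refine mem_centralizer_iff.2 fun v hv => ?_
    have hg : (g : G)⁻¹ ∈ normalizer (V : Set G) := inv_mem (hM ▸ g.2)
    have hv' : (g : G)⁻¹ * v * (g : G) ∈ V := by
      simpa using (mem_normalizer_iff.1 hg v).1 hv
    simp only [Subgroup.coe_subtype, Subgroup.coe_mul, Subgroup.coe_inv]
    have := mem_centralizer_iff.1 hx _ hv'
    simp only [Subgroup.coe_subtype] at this
    calc v * ((g : G) * (x : G) * (g : G)⁻¹) = (g : G) * ((g : G)⁻¹ * v * (g : G) * (x : G)) * (g : G)⁻¹ := by group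
      _ = (g : G) * ((x : G) * ((g : G)⁻¹ * v * (g : G))) * (g : G)⁻¹ := by rw [this]
      _ = _ := by group⟩
  have hAK : A ≤ K := fun x hx => mem_centralizer_iff.2 fun v hv =>
    congrArg Subtype.val (acomm ⟨v, hVM hv⟩ (hVA hv) x hx)
  have hMcard : Nat.card ↥M = 10752 := by
    have h1 := Subgroup.card_mul_index A
    rw [Subgroup.index, Nat.card_congr eM.toEquiv, CfsgLib.InvolChar.SubgroupsA8.gl3_card,
      Nat.card_congr eOM.toEquiv] at h1
    simpa using h1.symm
  let π : ↥M →* GL (Fin 3) (ZMod 2) := eM.toMonoidHom.comp (QuotientGroup.mk' A)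
  have hπs : Function.Surjective π := eM.surjective.comp (QuotientGroup.mk'_surjective _)
  have hπk : ∀ x, π x = 1 ↔ x ∈ A := fun x => by
    show eM (QuotientGroup.mk' A x) = 1 ↔ _
    rw [map_eq_one_iff eM eM.injective, QuotientGroup.mk'_apply, QuotientGroup.eq_one_iff]
  have hKA : K ≤ A := by
    haveI := CfsgLib.InvolChar.SubgroupsA8.gl3_simple
    rcases IsSimpleGroup.eq_bot_or_eq_top_of_normal (K.map π) (hKn.map π hπs) with h | h
    · intro x hx
      exact (hπk x).1 (by have : π x ∈ K.map π := ⟨x, hx, rfl⟩; rwa [h, Subgroup.mem_bot] at this)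
    · exfalso
      have hle : M ≤ centralizer ({t} : Set G) := by
        intro g hg
        obtain ⟨k, hk, e⟩ := (h ▸ Subgroup.mem_top _ : π ⟨g, hg⟩ ∈ K.map π)
        have hmem : (⟨g, hg⟩ : ↥M) ∈ K := by
          have := mul_mem hk (hAK ((hπk (k⁻¹ * ⟨g, hg⟩)).1 (by rw [map_mul, map_inv, e, inv_mul_cancel])))
          rwa [mul_inv_cancel_left] at this
        exact Subgroup.mem_centralizer_singleton_iff.2 (mem_centralizer_iff.1 hmem t htV).symm
      have := Subgroup.card_dvd_of_le hle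
      rw [hMcard, hH] at this
      norm_num at this
  have hcent : ∀ g : G, (∀ a ∈ V, Commute g a) → g ∈ M := by
    intro g hg
    rw [hM, mem_normalizer_iff]
    intro x
    constructor
    · intro hx
      rw [(hg x hx).eq, mul_inv_cancel_right]
      exact hx
    · intro hx
      have e := hg _ hx
      have : g * x * g⁻¹ = x := by
        have h' := e.eq
        calc g * x * g⁻¹ = g⁻¹ * (g * (g * x * g⁻¹)) := by group
          _ = g⁻¹ * (g * x * g⁻¹ * g) := by rw [h']
          _ = x := by group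
      rwa [this] at hx
  have inA : ∀ g : G, ∀ hg : (∀ a ∈ V, Commute g a), (⟨g, hcent g hg⟩ : ↥M) ∈ A := fun g hg =>
    hKA (mem_centralizer_iff.2 fun v hv => ((hg v hv).eq).symm)
  -- triples
  have base : ∀ a b d : G, a ∈ V → b ∈ V → d ∈ V → [1, a, b, a * b, d, a * d, b * d, a * b * d].Nodup →
      (∀ v ∈ V, ∃ n < 8, vEl a b d n = v) ∧
      (∀ n < 8, ∀ m < 8, vEl a b d n = vEl a b d m → n = m) ∧
      ∀ i < 8, ∀ j < 8, ∀ k < 8, indN i j k = true → ∃ g ∈ M,
        g * a * g⁻¹ = vEl a b d i ∧ g * b * g⁻¹ = vEl a b d j ∧ g * d * g⁻¹ = vEl a b d k := by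
    intro a b d ha hb hd hnd
    obtain ⟨e1, e2, e3⟩ := vEl_facts hc hs ha hb hd
    rw [← e3] at hnd
    have hinj : ∀ n < 8, ∀ m < 8, vEl a b d n = vEl a b d m → n = m := fun n hn m hm e =>
      List.inj_on_of_nodup_map hnd (by simp; omega) (by simp; omega) e
    have hall : ∀ v ∈ V, ∃ n < 8, vEl a b d n = v := by
      intro v hv
      let f : Fin 8 → ↥V := fun n => ⟨vEl a b d n, e1 n⟩
      have hf : Function.Bijective f := (Nat.bijective_iff_injective_and_card f).2
        ⟨fun n m e => Fin.ext (hinj n n.2 m m.2 (congrArg Subtype.val e)), by simp [hVcard]⟩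
      obtain ⟨n, hn⟩ := hf.2 ⟨v, hv⟩
      exact ⟨n, n.2, congrArg Subtype.val hn⟩
    refine ⟨hall, hinj, ?_⟩
    have conjV : ∀ g : ↥M, ∀ v ∈ V, (g : G) * v * (g : G)⁻¹ ∈ V := fun g v hv =>
      (mem_normalizer_iff.1 (hM ▸ g.2) v).1 hv
    let idx : ↥M → G → Fin 8 := fun g v =>
      if h : v ∈ V then ⟨Classical.choose (hall _ (conjV g v h)), (Classical.choose_spec (hall _ (conjV g v h))).1⟩
      else 0
    have hidx : ∀ (g : ↥M) (v : G), v ∈ V → vEl a b d (idx g v) = (g : G) * v * (g : G)⁻¹ := fun g v hv => by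
      simp only [idx, dif_pos hv]
      exact (Classical.choose_spec (hall _ (conjV g v hv))).2
    let F : ↥M → Fin 8 × Fin 8 × Fin 8 := fun g => (idx g a, idx g b, idx g d)
    have hF : ∀ g, indN (F g).1 (F g).2.1 (F g).2.2 = true := by
      intro g
      refine (indN_facts.1 _ (F g).1.2 _ (F g).2.1.2 _ (F g).2.2.2).2 ?_
      have m8 : ∀ n < 8, ∀ m < 8, n ^^^ m < 8 := fun n hn m hm => (xor_bits n hn m hm).2.2.2
      refine List.Nodup.of_map (vEl a b d) ?_
      have i1 := (F g).1.2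
      have i2 := (F g).2.1.2
      have i3 := (F g).2.2.2
      simp only [List.map_cons, List.map_nil, ← e2 _ (m8 _ i1 _ i2) _ i3, ← e2 _ i1 _ i2, ← e2 _ i1 _ i3, ← e2 _ i2 _ i3]
      simp only [F, hidx g a ha, hidx g b hb, hidx g d hd]
      have hmap := List.Nodup.map (MulAut.conj (g : G)).injective (e3 ▸ hnd :
        [1, a, b, a * b, d, a * d, b * d, a * b * d].Nodup)
      have h0 : vEl a b d 0 = 1 := by simp [vEl]
      simpa [h0, mul_assoc] using hmap
    have hFeq : ∀ g h : ↥M, F g = F h ↔ g⁻¹ * h ∈ K := by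
      intro g h
      simp only [F, Prod.mk.injEq]
      constructor
      · rintro ⟨u1, u2, u3⟩
        have fx : ∀ v ∈ V, idx g v = idx h v → ((g⁻¹ * h : ↥M) : G) * v = v * ((g⁻¹ * h : ↥M) : G) := by
          intro v hv e
          have e' := congrArg (fun n : Fin 8 => vEl a b d n) e
          simp only [hidx g v hv, hidx h v hv] at e'
          rw [Subgroup.coe_mul, Subgroup.coe_inv]
          calc (g : G)⁻¹ * (h : G) * v = (g : G)⁻¹ * ((h : G) * v * (h : G)⁻¹) * (h : G) := by group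
            _ = (g : G)⁻¹ * ((g : G) * v * (g : G)⁻¹) * (h : G) := by rw [e']
            _ = _ := by group
        refine mem_centralizer_iff.2 fun v hv => ?_
        obtain ⟨n, -, rfl⟩ := hall v hv
        have fa : Commute ((g⁻¹ * h : ↥M) : G) a := fx a ha u1
        have fb : Commute ((g⁻¹ * h : ↥M) : G) b := fx b hb u2
        have fd : Commute ((g⁻¹ * h : ↥M) : G) d := fx d hd u3
        have cc : Commute ((g⁻¹ * h : ↥M) : G) (vEl a b d n) :=
          ((fa.pow_right _).mul_right (fb.pow_right _)).mul_right (fd.pow_right _)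
        exact cc.eq.symm
      · intro hgh
        have fx : ∀ v ∈ V, idx g v = idx h v := by
          intro v hv
          have hcm := mem_centralizer_iff.1 hgh v hv
          simp only [Subgroup.coe_subtype, Subgroup.coe_mul, Subgroup.coe_inv] at hcm
          refine Fin.ext (hinj _ (idx g v).2 _ (idx h v).2 ?_)
          rw [hidx g v hv, hidx h v hv]
          calc (g : G) * v * (g : G)⁻¹ = (g : G) * (v * ((g : G)⁻¹ * (h : G))) * (h : G)⁻¹ := by group
            _ = (g : G) * ((g : G)⁻¹ * (h : G) * v) * (h : G)⁻¹ := by rw [hcm]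
            _ = _ := by group
        exact ⟨fx a ha, fx b hb, fx d hd⟩
    -- all independent triples occur
    have hidxK : K.index = 168 := by
      rw [le_antisymm hKA hAK, Subgroup.index, Nat.card_congr eM.toEquiv, CfsgLib.InvolChar.SubgroupsA8.gl3_card]
    let T : Finset (Fin 8 × Fin 8 × Fin 8) := Finset.univ.filter fun p => indN p.1 p.2.1 p.2.2
    let Φ : ↥M ⧸ K → ↥T := fun c => ⟨F c.out, Finset.mem_filter.2 ⟨Finset.mem_univ _, hF _⟩⟩
    have hΦ : Function.Bijective Φ := by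
      refine (Nat.bijective_iff_injective_and_card Φ).2 ⟨fun c c' e => ?_, ?_⟩
      · have := (hFeq _ _).1 (congrArg Subtype.val e)
        rw [← QuotientGroup.out_eq' c, ← QuotientGroup.out_eq' c']
        exact QuotientGroup.eq.2 this
      · rw [← Subgroup.index, hidxK, Nat.card_eq_fintype_card, Fintype.card_coe]
        exact indN_count.symm
    intro i hi j hj k hk hind
    obtain ⟨c, hc'⟩ := hΦ.2 ⟨(⟨i, hi⟩, ⟨j, hj⟩, ⟨k, hk⟩), Finset.mem_filter.2 ⟨Finset.mem_univ _, hind⟩⟩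
    have e' : F c.out = (⟨i, hi⟩, ⟨j, hj⟩, ⟨k, hk⟩) := congrArg Subtype.val hc'
    simp only [F, Prod.mk.injEq] at e'
    obtain ⟨u1, u2, u3⟩ := e'
    exact ⟨c.out, c.out.2, by rw [← hidx _ a ha, u1], by rw [← hidx _ b hb, u2], by rw [← hidx _ d hd, u3]⟩
  refine ⟨hcent, fun g h hg hh => congrArg Subtype.val (acomm _ (inA g hg) _ (inA h hh)),
    fun g hg => congrArg Subtype.val (afour _ (inA g hg)),
    fun g hg hgg => ainv ⟨g, hcent g hg⟩ (inA g hg) (Subtype.ext hgg), ?_, ?_⟩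
  · intro a b d a' b' d' ha hb hd ha' hb' hd' hnd hnd'
    obtain ⟨hall, hinj, hmv⟩ := base a b d ha hb hd hnd
    obtain ⟨e1, e2, e3⟩ := vEl_facts hc hs ha hb hd
    obtain ⟨i, hi, rfl⟩ := hall a' ha'
    obtain ⟨j, hj, rfl⟩ := hall b' hb'
    obtain ⟨k, hk, rfl⟩ := hall d' hd'
    refine hmv i hi j hj k hk ((indN_facts.1 i hi j hj k hk).2 (List.Nodup.of_map (vEl a b d) ?_))
    have m8 : ∀ n < 8, ∀ m < 8, n ^^^ m < 8 := fun n hn m hm => (xor_bits n hn m hm).2.2.2
    have h0 : vEl a b d 0 = 1 := by simp [vEl]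
    simpa only [List.map_cons, List.map_nil, h0, ← e2 _ (m8 _ hi _ hj) _ hk, ← e2 _ hi _ hj, ← e2 _ hi _ hk,
      ← e2 _ hj _ hk] using hnd'
  · -- `t` has seven conjugates
    have many : ∀ S : Finset G, S.card < 8 → ∃ x ∈ V, x ∉ S := by
      intro S hS
      by_contra hcon
      push Not at hcon
      have := Finset.card_le_card (s := (Set.toFinite (V : Set G)).toFinset) (t := S)
        (fun x hx => hcon x ((Set.Finite.mem_toFinset _).1 hx))
      rw [← Set.ncard_eq_toFinset_card _ (Set.toFinite _), ← Nat.card_coe_set_eq, SetLike.coe_sort_coe, hVcard] at this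
      omega
    obtain ⟨a, ha, hane⟩ := many {1, t} (Finset.card_le_two.trans_lt (by norm_num))
    obtain ⟨b, hb, hbne⟩ := many {1, t, a, a * t} (Finset.card_le_four.trans_lt (by norm_num))
    simp only [Finset.mem_insert, Finset.mem_singleton, not_or] at hane hbne
    have ht1 : t ≠ 1 := fun e => by rw [e, orderOf_one] at ht; omega
    have hnd : [1, a, b, a * b, t, a * t, b * t, a * b * t].Nodup := by
      obtain ⟨a1, a2⟩ := hane
      obtain ⟨b1, b2, b3, b4⟩ := hbne
      have sa := hs a ha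
      have sb := hs b hb
      have st := hs t htV
      have ab := hc a ha b hb
      have am : a⁻¹ = a := inv_eq_of_mul_eq_one_right sa
      have bm : b⁻¹ = b := inv_eq_of_mul_eq_one_right sb
      have at' := hc a ha t htV
      have bt' := hc b hb t htV
      have x1 : a * b ≠ 1 := fun e => b3 (by rw [← am]; exact (inv_eq_of_mul_eq_one_right e).symm)
      have x2 : a * b ≠ t := fun e => b4 (by rw [← e, ← mul_assoc, sa, one_mul])
      have x3 : a * t ≠ 1 := fun e => a2 (by rw [← am]; exact inv_eq_of_mul_eq_one_right e)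
      have x4 : b * t ≠ 1 := fun e => b2 (by rw [← bm]; exact inv_eq_of_mul_eq_one_right e)
      have x5 : a * b * t ≠ 1 := fun e => x2 (by
        calc a * b = a * b * (t * t) := by rw [st, mul_one]
          _ = a * b * t * t := by group
          _ = t := by rw [e, one_mul])
      have cl : ∀ x y z : G, x * y = x * z → y = z := fun x y z => mul_left_cancel
      simp only [List.nodup_cons, List.mem_cons, List.not_mem_nil, or_false, not_or, List.nodup_nil, not_false_eq_true,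
        and_true]
      refine ⟨⟨Ne.symm a1, Ne.symm b1, Ne.symm x1, Ne.symm ht1, Ne.symm x3, Ne.symm x4, Ne.symm x5⟩,
        ⟨Ne.symm b3, fun e => b1 (left_eq_mul.1 e), a2, fun e => ht1 (left_eq_mul.1 e), fun e => ?_, fun e => ?_⟩,
        ⟨fun e => a1 (right_eq_mul.1 e), b2, fun e => b4 e, fun e => ht1 (left_eq_mul.1 e), fun e => ?_⟩,
        ⟨x2, fun e => b2 (cl a b t e), fun e => a2 (mul_right_cancel (e.trans (by rw [bt']))), fun e => ht1 (left_eq_mul.1 e)⟩,
        ⟨fun e => a1 (right_eq_mul.1 e), fun e => b1 (right_eq_mul.1 e), fun e => x1 (right_eq_mul.1 e)⟩,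
        ⟨fun e => b3 (mul_right_cancel e).symm, fun e => b1 (left_eq_mul.1 (mul_right_cancel e))⟩,
        fun e => a1 (right_eq_mul.1 (mul_right_cancel e))⟩
      · exact b4 (by rw [e, mul_assoc, st, mul_one])
      · rw [mul_assoc] at e
        exact x4 (left_eq_mul.1 e)
      · rw [ab, mul_assoc] at e
        exact x3 (left_eq_mul.1 e)
    obtain ⟨hall, hinj, hmv⟩ := base a b t ha hb htV hnd
    set C : Subgroup ↥M := (centralizer ({t} : Set G)).subgroupOf M with hC
    have hfix : ∀ g h : ↥M, (g : G) * t * (g : G)⁻¹ = (h : G) * t * (h : G)⁻¹ ↔ g⁻¹ * h ∈ C := by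
      intro g h
      rw [hC, Subgroup.mem_subgroupOf, Subgroup.mem_centralizer_singleton_iff, Subgroup.coe_mul, Subgroup.coe_inv]
      constructor
      · intro e
        calc (g : G)⁻¹ * (h : G) * t = (g : G)⁻¹ * ((h : G) * t * (h : G)⁻¹) * (h : G) := by group
          _ = (g : G)⁻¹ * ((g : G) * t * (g : G)⁻¹) * (h : G) := by rw [e]
          _ = _ := by group
      · intro e
        calc (g : G) * t * (g : G)⁻¹ = (g : G) * (t * ((g : G)⁻¹ * (h : G))) * (h : G)⁻¹ := by group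
          _ = (g : G) * ((g : G)⁻¹ * (h : G) * t) * (h : G)⁻¹ := by rw [e]
          _ = _ := by group
    let Φ : ↥M ⧸ C → {v : ↥V // v ≠ 1} := fun c =>
      ⟨⟨(c.out : G) * t * (c.out : G)⁻¹, (mem_normalizer_iff.1 (hM ▸ c.out.2) t).1 htV⟩, fun e => by
        have := congrArg Subtype.val e
        exact ht1 (by simpa using this)⟩
    have hΦ : Function.Bijective Φ := by
      refine ⟨fun c c' e => ?_, fun v => ?_⟩
      · have h1 : (c.out : G) * t * (c.out : G)⁻¹ = (c'.out : G) * t * (c'.out : G)⁻¹ :=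
          congrArg (fun w : {v : ↥V // v ≠ 1} => ((w.1 : ↥V) : G)) e
        rw [← QuotientGroup.out_eq' c, ← QuotientGroup.out_eq' c']
        exact QuotientGroup.eq.2 ((hfix _ _).1 h1)
      · obtain ⟨k, hk, ek⟩ := hall v.1 v.1.2
        have hk0 : k ≠ 0 := fun e => v.2 (Subtype.ext (by rw [← ek, e]; simp [vEl]))
        obtain ⟨i, hi, j, hj, hij⟩ := indN_facts.2.1 k hk hk0
        obtain ⟨g, hg, -, -, e⟩ := hmv i hi j hj k hk hij
        refine ⟨QuotientGroup.mk ⟨g, hg⟩, Subtype.ext (Subtype.ext ?_)⟩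
        show ((QuotientGroup.mk ⟨g, hg⟩ : ↥M ⧸ C).out : G) * t * ((QuotientGroup.mk ⟨g, hg⟩ : ↥M ⧸ C).out : G)⁻¹ = _
        rw [← ek, ← e]
        exact (hfix _ ⟨g, hg⟩).2 (QuotientGroup.eq.1 (QuotientGroup.out_eq' _))
    have h7 : Nat.card {v : ↥V // v ≠ 1} = 7 := by
      haveI : Fintype ↥V := Fintype.ofFinite _
      rw [Nat.card_eq_fintype_card, Fintype.card_subtype_compl, Fintype.card_subtype_eq, ← Nat.card_eq_fintype_card, hVcard]
    have hidx : C.index = 7 := by rw [Subgroup.index, Nat.card_eq_of_bijective Φ hΦ, h7]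
    have hcard := Subgroup.card_mul_index C
    rw [hidx, hMcard] at hcard
    have hC' : Nat.card C = 1536 := by omega
    rw [← hC', ← hM]
    exact Nat.card_congr
      { toFun := fun x => ⟨⟨x, x.2.1⟩, x.2.2⟩
        invFun := fun x => ⟨(x : ↥M), (x : ↥M).2, x.2⟩
        left_inv := fun x => rfl
        right_inv := fun x => rfl }

theorem vSet_facts : vSet = [0, 1, 4, 5, 32, 33, 36, 37] ∧
    (∀ a ∈ vSet, ∀ b ∈ vSet, hMul a b ∈ vSet ∧ hMul a b = (if a = 0 then b else hMul a b)) ∧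
    (∀ a ∈ vSet, ∀ b ∈ vSet, a ≠ 0 → b ≠ 0 → ∃ i ∈ vSet, ∃ j ∈ vSet, ∃ k ∈ vSet, ∃ l ∈ vSet,
      [0, a, i, hMul a i, j, hMul a j, hMul i j, hMul (hMul a i) j].Nodup ∧
        [0, b, k, hMul b k, l, hMul b l, hMul k l, hMul (hMul b k) l].Nodup) ∧
    (∀ a ∈ vSet, ∀ b ∈ vSet, a ≠ 0 → b ≠ 0 → a ≠ b → ∃ k ∈ vSet,
      [0, a, b, hMul a b, k, hMul a k, hMul b k, hMul (hMul a b) k].Nodup ∧
        [0, b, a, hMul b a, k, hMul b k, hMul a k, hMul (hMul b a) k].Nodup) ∧
    ∀ a ∈ vSet, a < 7680 := by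
  decide +kernel

/-- The local facts in coordinates. -/
theorem local_of [Finite G] {t : G} {V M : Subgroup G} (hM : M = normalizer (V : Set G)) (hMc : Nat.card M = 10752)
    (F : Facts V M t) {el : ℕ → G} (C : Code t el) (hV : ∀ g, g ∈ V ↔ ∃ x ∈ vSet, el x = g) : Local el M := by
  obtain ⟨-, v2, v3, v4, v5⟩ := vSet_facts
  have hset : el '' {c | c ∈ vSet} = (V : Set G) := by
    ext g
    exact (hV g).symm
  have mem : ∀ a ∈ vSet, el a ∈ V := fun a ha => (hV _).2 ⟨a, ha, rfl⟩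
  have mul : ∀ a ∈ vSet, ∀ b ∈ vSet, el a * el b = el (hMul a b) := fun a ha b hb => (C.mul a b (v5 a ha) (v5 b hb)).2
  have nd : ∀ a ∈ vSet, ∀ b ∈ vSet, ∀ d ∈ vSet,
      [0, a, b, hMul a b, d, hMul a d, hMul b d, hMul (hMul a b) d].Nodup →
      [1, el a, el b, el a * el b, el d, el a * el d, el b * el d, el a * el b * el d].Nodup := by
    intro a ha b hb d hd h
    have e : [1, el a, el b, el a * el b, el d, el a * el d, el b * el d, el a * el b * el d] =
        [0, a, b, hMul a b, d, hMul a d, hMul b d, hMul (hMul a b) d].map el := by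
      simp only [List.map_cons, List.map_nil, C.one, ← mul a ha b hb, ← mul a ha d hd, ← mul b hb d hd,
        ← mul _ (v2 a ha b hb).1 d hd]
    rw [e]
    refine List.Nodup.map_on (fun x hx y hy e => C.inj x y ?_ ?_ e) h
    · simp only [List.mem_cons, List.not_mem_nil, or_false] at hx
      rcases hx with rfl | rfl | rfl | rfl | rfl | rfl | rfl | rfl
      exacts [by norm_num, v5 _ ha, v5 _ hb, v5 _ (v2 _ ha _ hb).1, v5 _ hd, v5 _ (v2 _ ha _ hd).1, v5 _ (v2 _ hb _ hd).1,
        v5 _ (v2 _ (v2 _ ha _ hb).1 _ hd).1]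
    · simp only [List.mem_cons, List.not_mem_nil, or_false] at hy
      rcases hy with rfl | rfl | rfl | rfl | rfl | rfl | rfl | rfl
      exacts [by norm_num, v5 _ ha, v5 _ hb, v5 _ (v2 _ ha _ hb).1, v5 _ hd, v5 _ (v2 _ ha _ hd).1, v5 _ (v2 _ hb _ hd).1,
        v5 _ (v2 _ (v2 _ ha _ hb).1 _ hd).1]
  have cen : ∀ g : G, (∀ a ∈ vSet, Commute g (el a)) → ∀ a ∈ V, Commute g a := fun g hg a ha => by
    obtain ⟨x, hx, rfl⟩ := (hV a).1 ha
    exact hg x hx
  refine ⟨by rw [hset]; exact hM, hMc, fun a b ha hb ha0 hb0 => ?_, fun a b ha hb ha0 hb0 hab => ?_,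
    fun g h hg hh => F.comm g h (cen g hg) (cen h hh), fun g hg => F.four g (cen g hg), fun g hg hgg => ?_⟩
  · obtain ⟨i, hi, j, hj, k, hk, l, hl, n1, n2⟩ := v3 a ha b hb ha0 hb0
    obtain ⟨g, hg, e, -, -⟩ := F.move _ _ _ _ _ _ (mem a ha) (mem i hi) (mem j hj) (mem b hb) (mem k hk) (mem l hl)
      (nd a ha i hi j hj n1) (nd b hb k hk l hl n2)
    exact ⟨g, hg, e⟩
  · obtain ⟨k, hk, n1, n2⟩ := v4 a ha b hb ha0 hb0 hab
    obtain ⟨g, hg, e1, e2, -⟩ := F.move _ _ _ _ _ _ (mem a ha) (mem b hb) (mem k hk) (mem b hb) (mem a ha) (mem k hk)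
      (nd a ha b hb k hk n1) (nd b hb a ha k hk n2)
    exact ⟨g, hg, e1, e2⟩
  · obtain ⟨x, hx, e⟩ := (hV g).1 (F.invol g (cen g hg) hgg)
    exact ⟨x, hx, e⟩

end CfsgLib.HSRec.MFacts
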