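import Cfsg.Agent.Lib.HSRec.Setting

/-!
# Choosing the frame so that two chosen elements act as the standard maps
-/

set_option autoImplicit false
set_option linter.unusedSectionVars false
set_option maxRecDepth 100000

namespace CfsgLib.HSRec.Pin

open Subgroup

variable {G : Type*} [Group G]

theorem lift_rel_all : ∀ g ∈ spAll,
    hQ (lift2 (g.getD 1 0)) (lift2 (g.getD 0 0)) = hQ (hQ (lift2 (g.getD 0 0)) (lift2 (g.getD 1 0))) 32 ∧
    hQ (lift2 (g.getD 3 0)) (lift2 (g.getD 2 0)) = hQ (hQ (lift2 (g.getD 2 0)) (lift2 (g.getD 3 0))) 32 ∧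
    hQ (lift2 (g.getD 0 0)) (lift2 (g.getD 2 0)) = hQ (lift2 (g.getD 2 0)) (lift2 (g.getD 0 0)) ∧
    hQ (lift2 (g.getD 0 0)) (lift2 (g.getD 3 0)) = hQ (lift2 (g.getD 3 0)) (lift2 (g.getD 0 0)) ∧
    hQ (lift2 (g.getD 1 0)) (lift2 (g.getD 2 0)) = hQ (lift2 (g.getD 2 0)) (lift2 (g.getD 1 0)) ∧
    hQ (lift2 (g.getD 1 0)) (lift2 (g.getD 3 0)) = hQ (lift2 (g.getD 3 0)) (lift2 (g.getD 1 0)) := by
  intro g hg
  have h := List.all_eq_true.1 lift_rels g hg
  have rel : ∀ i < 4, ∀ j < 4, i < j →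
      (if (Nat.beq i 0 && Nat.beq j 1) || (Nat.beq i 2 && Nat.beq j 3) then
        Nat.beq (hQ (lift2 (g.getD j 0)) (lift2 (g.getD i 0))) (hQ (hQ (lift2 (g.getD i 0)) (lift2 (g.getD j 0))) 32)
      else Nat.beq (hQ (lift2 (g.getD i 0)) (lift2 (g.getD j 0))) (hQ (lift2 (g.getD j 0)) (lift2 (g.getD i 0)))) =
        true := by
    intro i hi j hj hij
    have h1 := List.all_eq_true.1 (List.all_eq_true.1 h i (List.mem_range.2 hi)) j (List.mem_range.2 hj)
    rw [Bool.or_eq_true] at h1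
    rcases h1 with h1 | h1
    · rw [Nat.ble_eq] at h1; omega
    · exact h1
  exact ⟨Nat.eq_of_beq_eq_true (rel 0 (by norm_num) 1 (by norm_num) (by norm_num)),
    Nat.eq_of_beq_eq_true (rel 2 (by norm_num) 3 (by norm_num) (by norm_num)),
    Nat.eq_of_beq_eq_true (rel 0 (by norm_num) 2 (by norm_num) (by norm_num)),
    Nat.eq_of_beq_eq_true (rel 0 (by norm_num) 3 (by norm_num) (by norm_num)),
    Nat.eq_of_beq_eq_true (rel 1 (by norm_num) 2 (by norm_num) (by norm_num)),
    Nat.eq_of_beq_eq_true (rel 1 (by norm_num) 3 (by norm_num) (by norm_num))⟩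

theorem appW_mask : ((invs ++ [Q0]).all fun P => (List.range 16).all fun x => (List.range 16).all fun y =>
    Nat.beq x 0 || Nat.beq y 0 || Nat.beq x y || Nat.beq (appW P (wMask x y)) (wMask (app P x) (app P y))) = true := by
  decide +kernel

theorem mask_small_ok : ((List.range 16).all fun x => (List.range 16).all fun y =>
    Nat.beq x 0 || Nat.beq y 0 || Nat.beq x y ||
      (Nat.beq (wMask y x) (wMask x y) && Nat.beq (wMask x (x ^^^ y)) (wMask x y) &&
        Nat.beq (wMask (x ^^^ y) x) (wMask x y) && Nat.beq (wMask y (x ^^^ y)) (wMask x y) &&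
        Nat.beq (wMask (x ^^^ y) y) (wMask x y) && (!Nat.beq (om x y) 0 || isoW.contains (wMask x y)))) = true := by
  decide +kernel

theorem mask_small (x : ℕ) (hx : x < 16) (y : ℕ) (hy : y < 16) (x0 : x ≠ 0) (y0 : y ≠ 0) (xy : x ≠ y) :
    wMask y x = wMask x y ∧ wMask x (x ^^^ y) = wMask x y ∧
      wMask (x ^^^ y) x = wMask x y ∧ wMask y (x ^^^ y) = wMask x y ∧ wMask (x ^^^ y) y = wMask x y ∧
      (om x y = 0 → wMask x y ∈ isoW) := by
  have h := List.all_eq_true.1 (List.all_eq_true.1 mask_small_ok x (List.mem_range.2 hx)) y (List.mem_range.2 hy)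
  simp only [Bool.or_eq_true, Bool.and_eq_true, Nat.beq_eq, List.contains_iff_mem] at h
  rcases h with ((h | h) | h) | h
  · exact absurd h x0
  · exact absurd h y0
  · exact absurd h xy
  · obtain ⟨⟨⟨⟨⟨h1, h2⟩, h3⟩, h4⟩, h5⟩, h6⟩ := h
    refine ⟨h1, h2, h3, h4, h5, fun ho => ?_⟩
    rcases h6 with h6 | h6
    · simp [ho] at h6
    · exact h6

theorem addNew_nodup {L : List ℕ} (h : L.Nodup) (x : ℕ) : (addNew L x).Nodup := by
  unfold addNew
  split_ifs with hc
  · exact h
  · rw [List.nodup_append]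
    refine ⟨h, List.nodup_singleton x, fun a ha b hb => ?_⟩
    rw [List.mem_singleton] at hb
    rintro rfl
    subst hb
    simp [List.contains_iff_mem] at hc
    exact hc ha

theorem addNew_sub {L : List ℕ} {T : Set ℕ} (h : ∀ a ∈ L, a ∈ T) {x : ℕ} (hx : x ∈ T) : ∀ a ∈ addNew L x, a ∈ T := by
  intro a ha
  unfold addNew at ha
  split_ifs at ha
  · exact h a ha
  · rcases List.mem_append.1 ha with ha | ha
    · exact h a ha
    · exact List.mem_singleton.1 ha ▸ hx

theorem grow_ok {P Q : List ℕ} {T : Set ℕ} (hP : ∀ w ∈ T, appW P w ∈ T) (hQ' : ∀ w ∈ T, appW Q w ∈ T) :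
    ∀ L : List ℕ, L.Nodup → (∀ a ∈ L, a ∈ T) → (grow P Q L).Nodup ∧ ∀ a ∈ grow P Q L, a ∈ T := by
  intro L hL hT
  have key : ∀ (M acc : List ℕ), (∀ a ∈ M, a ∈ T) → acc.Nodup → (∀ a ∈ acc, a ∈ T) →
      (M.foldl (fun acc w => addNew (addNew acc (appW P w)) (appW Q w)) acc).Nodup ∧
        ∀ a ∈ M.foldl (fun acc w => addNew (addNew acc (appW P w)) (appW Q w)) acc, a ∈ T := by
    intro M
    induction M with
    | nil => intro acc _ h1 h2; exact ⟨h1, h2⟩
    | cons w M ih =>
      intro acc hM h1 h2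
      have hw := hM w (List.mem_cons_self ..)
      exact ih _ (fun a ha => hM a (List.mem_cons_of_mem _ ha)) (addNew_nodup (addNew_nodup h1 _) _)
        (addNew_sub (addNew_sub h2 (hP w hw)) (hQ' w hw))
  exact key L L hT hL hT

variable {t : G} {R V : Subgroup G} {π : ↥(centralizer ({t} : Set G)) →* Equiv.Perm (Fin 5)}
variable (S : Setting t R V π) {q : ℕ → G} (F : Frame t R q)

include S F

/-- A new frame whose classes are the old ones seen through `g`. -/
theorem exists_change [Finite G] {g : List ℕ} (hg : g ∈ spAll) : ∃ q' : ℕ → G, Frame t R q' ∧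
    ∀ h ∈ centralizer ({t} : Set G), ∀ v < 16, app g (app (mat q' h) v) = app (mat q h) (app g v) := by
  obtain ⟨hlen, hlt, -⟩ := spAll_props hg
  obtain ⟨g0, g1, g2, g3, rfl⟩ : ∃ g0 g1 g2 g3, g = [g0, g1, g2, g3] := by
    match g, hlen with
    | [a, b, c, d], _ => exact ⟨a, b, c, d, rfl⟩
  obtain ⟨r01, r23, r02, r03, r12, r13⟩ := lift_rel_all _ hg
  simp only [List.getD_cons_zero, List.getD_cons_succ] at r01 r23 r02 r03 r12 r13
  obtain ⟨l0, m0, s0, -⟩ := lift2_spec g0 (hlt _ (by simp))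
  obtain ⟨l1, m1, s1, -⟩ := lift2_spec g1 (hlt _ (by simp))
  obtain ⟨l2, m2, s2, -⟩ := lift2_spec g2 (hlt _ (by simp))
  obtain ⟨l3, m3, s3, -⟩ := lift2_spec g3 (hlt _ (by simp))
  set x := q (lift2 g0) with hx
  set y := q (lift2 g1) with hy
  set x' := q (lift2 g2) with hx'
  set y' := q (lift2 g3) with hy'
  set c := q 16 with hc
  have sq : ∀ r < 64, hQ r r = 0 → q r * q r = 1 := fun r hr e => by rw [F.mul r r hr hr, e, F.one]
  have cm : ∀ r < 64, ∀ s < 64, hQ r s = hQ s r → Commute (q r) (q s) := fun r hr s hs e => by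
    show q r * q s = q s * q r
    rw [F.mul r s hr hs, F.mul s r hs hr, e]
  have zm : ∀ r < 64, ∀ s < 64, hQ s r = hQ (hQ r s) 32 → q s * q r = q r * q s * t := fun r hr s hs e => by
    rw [F.mul s r hs hr, e, F.mul r s hr hs, ← F.mul _ 32 (hQ_lt _ _) (by norm_num), show q 32 = t from F.t_eq]
  have c16 : ∀ u < 64, hQ 16 u = hQ u 16 := by decide +kernel
  have hcc : c * c = t := by
    rw [hc, F.mul 16 16 (by norm_num) (by norm_num), show hQ 16 16 = tC from rfl, F.t_eq]
  have htt : t * t = 1 := by rw [← pow_two, ← S.ht, pow_orderOf_eq_one]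
  have htn : t ≠ 1 := fun e => by have := S.ht; rw [e, orderOf_one] at this; omega
  have h5 : Five t x y x' y' c :=
    ⟨hcc, htt, htn, sq _ l0 s0, sq _ l1 s1, sq _ l2 s2, sq _ l3 s3, zm _ l0 _ l1 r01, zm _ l2 _ l3 r23,
      cm _ l0 _ l2 r02, cm _ l0 _ l3 r03, cm _ l1 _ l2 r12, cm _ l1 _ l3 r13,
      cm _ (by norm_num) _ l0 (c16 _ l0), cm _ (by norm_num) _ l1 (c16 _ l1), cm _ (by norm_num) _ l2 (c16 _ l2),
      cm _ (by norm_num) _ l3 (c16 _ l3)⟩
  have hR : Nat.card R = 64 := by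
    let f : Fin 64 → ↥R := fun r => ⟨q r, F.mem r r.2⟩
    have hf : Function.Bijective f := ⟨fun r r' e => Fin.ext (F.inj r r' r.2 r'.2 (congrArg Subtype.val e)),
      fun ⟨g, hg⟩ => by obtain ⟨r, hr, e⟩ := F.surj g hg; exact ⟨⟨r, hr⟩, Subtype.ext e⟩⟩
    rw [← Nat.card_eq_of_bijective f hf, Nat.card_fin]
  have F' := h5.frame hR (F.mem _ l0) (F.mem _ l1) (F.mem _ l2) (F.mem _ l3) (F.mem _ (by norm_num))
  refine ⟨_, F', fun h hh v hv => ?_⟩
  -- the old code of a new one
  let rho : ℕ → ℕ := fun r => Classical.epsilon fun s => s < 64 ∧ q s = qEl x y x' y' c r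
  have hrho : ∀ r < 64, rho r < 64 ∧ q (rho r) = qEl x y x' y' c r := fun r hr =>
    Classical.epsilon_spec (F.surj _ (F'.mem r hr))
  have heq : ∀ r < 64, ∀ s < 64, qEl x y x' y' c r = q s → rho r = s := fun r hr s hs e =>
    F.inj _ _ (hrho r hr).1 hs ((hrho r hr).2.trans e)
  have H : CodeHom rho := ⟨fun r hr => (hrho r hr).1, fun r r' hr hr' => heq _ (hQ_lt _ _) _ (hQ_lt _ _) (by
    rw [← F'.mul r r' hr hr', ← F.mul _ _ (hrho r hr).1 (hrho r' hr').1, (hrho r hr).2, (hrho r' hr').2])⟩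
  obtain ⟨q1, q2, q3, q4, q5, -⟩ := h5.q_small
  have hmat : matOf rho = [g0, g1, g2, g3] := by
    simp only [matOf, idL, List.map_cons, List.map_nil]
    rw [heq 1 (by norm_num) _ l0 q1, heq 2 (by norm_num) _ l1 q2, heq 4 (by norm_num) _ l2 q3,
      heq 8 (by norm_num) _ l3 q4, m0, m1, m2, m3]
  have h16 : rho 16 % 16 = 0 := by rw [heq 16 (by norm_num) 16 (by norm_num) q5]
  have hv' : v < 64 := by omega
  obtain ⟨u1, e1⟩ := sig_spec S F' hh hv'
  have key : rho (sig (qEl x y x' y' c) h v) = sig q h (rho v) := by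
    obtain ⟨u2, e2⟩ := sig_spec S F hh (hrho v hv').1
    refine heq _ u1 _ u2 ?_
    rw [e1, e2, (hrho v hv').2]
  have := congrArg (fun r => r % 16) key
  rw [H.class_eq h16 _ u1, mat_class S F' hh hv', mat_class S F hh (hrho v hv').1, H.class_eq h16 _ hv', hmat,
    Nat.mod_eq_of_lt hv] at this
  exact this

omit F

/-- The orbit of the line of `V` has at most five members. -/
theorem orbit_le_five [Finite G] (F1 : Frame t R q) (a b : ↥(centralizer ({t} : Set G)))
    (hPi : mat q (a : G) ∈ invs) (hb1 : mat q (b : G) = Q0) {u w : ℕ} (hu : u < 64) (hw : w < 64) (huV : q u ∈ V)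
    (hwV : q w ∈ V) (hu0 : u % 16 ≠ 0) (hw0 : w % 16 ≠ 0) (huw : u % 16 ≠ w % 16)
    (hnd : [1, q u, q w, q u * q w, t, q u * t, q w * t, q u * q w * t].Nodup) :
    (orbW (mat q (a : G)) Q0 (wMask (u % 16) (w % 16))).length ≤ 5 := by
  let T : Set ℕ := Set.range fun h : ↥(centralizer ({t} : Set G)) => lineOf q (u % 16) (w % 16) (h : G)
  have hT : ∀ P ∈ invs ++ [Q0], ∀ g : ↥(centralizer ({t} : Set G)), mat q (g : G) = P → ∀ m ∈ T, appW P m ∈ T := by
    rintro P hP g hgP _ ⟨h, rfl⟩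
    refine ⟨g * h, ?_⟩
    obtain ⟨hlh, hlth, hinj⟩ := spAll_props (mat_spAll S F1 h.2)
    have hx : app (mat q (h : G)) (u % 16) < 16 := app_lt hlth _
    have hy : app (mat q (h : G)) (w % 16) < 16 := app_lt hlth _
    have h0 : ∀ k < 16, k ≠ 0 → app (mat q (h : G)) k ≠ 0 := fun k hk hk0 e =>
      hk0 (hinj k hk 0 (by norm_num) (by rw [e, app_zero]))
    have hm := List.all_eq_true.1 (List.all_eq_true.1 (List.all_eq_true.1 appW_mask P hP) _ (List.mem_range.2 hx)) _
      (List.mem_range.2 hy)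
    simp only [Bool.or_eq_true, Nat.beq_eq] at hm
    rcases hm with ((hm | hm) | hm) | hm
    · exact absurd hm (h0 _ (Nat.mod_lt _ (by norm_num)) hu0)
    · exact absurd hm (h0 _ (Nat.mod_lt _ (by norm_num)) hw0)
    · exact absurd (hinj _ (Nat.mod_lt _ (by norm_num)) _ (Nat.mod_lt _ (by norm_num)) hm) huw
    · show lineOf q (u % 16) (w % 16) ((g * h : ↥(centralizer ({t} : Set G))) : G) = appW P _
      simp only [lineOf] at hm ⊢
      rw [hm, Subgroup.coe_mul, mat_mul S F1 g.2 h.2, hgP]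
      obtain ⟨c0, c1, c2, c3, e'⟩ : ∃ a b c d : ℕ, mat q (h : G) = [a, b, c, d] := ⟨_, _, _, _, rfl⟩
      rw [e'] at hlth ⊢
      simp only [app_cmpL P (hlth c0 (by simp)) (hlth c1 (by simp)) (hlth c2 (by simp)) (hlth c3 (by simp))]
  have hTcard : T.ncard ≤ 5 := by
    set B : Subgroup ↥(centralizer ({t} : Set G)) :=
      (normalizer (V : Set G)).subgroupOf (centralizer ({t} : Set G)) with hB
    have hBc : Nat.card B = 1536 := by
      rw [← S.cardNV]
      exact Nat.card_congr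
        { toFun := fun x => ⟨(x : ↥(centralizer ({t} : Set G))), x.2, (x : ↥(centralizer ({t} : Set G))).2⟩
          invFun := fun x => ⟨⟨x, x.2.2⟩, x.2.1⟩
          left_inv := fun x => rfl
          right_inv := fun x => rfl }
    have hidx : B.index = 5 := by
      have h1 := Subgroup.card_mul_index B
      have hR : Nat.card R = 64 := by
        let f : Fin 64 → ↥R := fun r => ⟨q r, F1.mem r r.2⟩
        have hf : Function.Bijective f := ⟨fun r r' e => Fin.ext (F1.inj r r' r.2 r'.2 (congrArg Subtype.val e)),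
          fun ⟨g, hg⟩ => by obtain ⟨r, hr, e⟩ := F1.surj g hg; exact ⟨⟨r, hr⟩, Subtype.ext e⟩⟩
        rw [← Nat.card_eq_of_bijective f hf, Nat.card_fin]
      rw [hBc, S.card_H hR] at h1
      omega
    -- the classes of `V`
    have hVcl : ∀ r < 64, q r ∈ V → r % 16 ∈ [0, u % 16, w % 16, (u % 16) ^^^ (w % 16)] := by
      intro r hr hrV
      have hlist : ∀ g ∈ V, g ∈ [1, q u, q w, q u * q w, t, q u * t, q w * t, q u * q w * t] := by
        intro g hg
        by_contra hcon
        have h9 : (g :: [1, q u, q w, q u * q w, t, q u * t, q w * t, q u * q w * t]).Nodup :=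
          List.nodup_cons.2 ⟨hcon, hnd⟩
        have hmem : ∀ x ∈ g :: [1, q u, q w, q u * q w, t, q u * t, q w * t, q u * q w * t], x ∈ V := by
          intro x hx
          simp only [List.mem_cons, List.not_mem_nil, or_false] at hx
          have ht' := S.t_mem
          rcases hx with rfl | rfl | rfl | rfl | rfl | rfl | rfl | rfl | rfl
          exacts [hg, one_mem _, huV, hwV, mul_mem huV hwV, ht', mul_mem huV ht', mul_mem hwV ht',
            mul_mem (mul_mem huV hwV) ht']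
        classical
        have := Finset.card_le_card (s := (g :: [1, q u, q w, q u * q w, t, q u * t, q w * t,
          q u * q w * t]).toFinset) (t := (Set.toFinite (V : Set G)).toFinset)
          (fun x hx => (Set.Finite.mem_toFinset _).2 (hmem x (List.mem_toFinset.1 hx)))
        rw [List.toFinset_card_of_nodup h9, ← Set.ncard_eq_toFinset_card _ (Set.toFinite _), ← Nat.card_coe_set_eq,
          SetLike.coe_sort_coe, S.Vcard] at this
        simp at this
      have h := hlist _ hrV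
      rw [show [1, q u, q w, q u * q w, t, q u * t, q w * t, q u * q w * t] =
        [0, u, w, hQ u w, 32, hQ u 32, hQ w 32, hQ (hQ u w) 32].map q by
          simp only [List.map_cons, List.map_nil, F1.one, ← F1.mul _ _ hu hw, ← F1.mul _ _ hu (show 32 < 64 by norm_num),
            ← F1.mul _ _ hw (show 32 < 64 by norm_num), ← F1.mul _ _ (hQ_lt u w) (show 32 < 64 by norm_num),
            show q 32 = t from F1.t_eq]] at h
      obtain ⟨s, hs, e⟩ := List.mem_map.1 h
      have hs' : s < 64 := by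
        simp only [List.mem_cons, List.not_mem_nil, or_false] at hs
        rcases hs with rfl | rfl | rfl | rfl | rfl | rfl | rfl | rfl <;> first | exact hQ_lt _ _ | assumption | norm_num
      rw [← F1.inj s r hs' hr e]
      have c32 : ∀ r < 64, hQ r 32 % 16 = r % 16 := by decide +kernel
      simp only [List.mem_cons, List.not_mem_nil, or_false] at hs ⊢
      rcases hs with rfl | rfl | rfl | rfl | rfl | rfl | rfl | rfl
      · simp
      · simp
      · simp
      · rw [class_hQ u hu w hw]; simp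
      · simp
      · rw [c32 u hu]; simp
      · rw [c32 w hw]; simp
      · rw [c32 _ (hQ_lt u w), class_hQ u hu w hw]; simp
    -- constant on the cosets of `B`
    have hconst : ∀ h k : ↥(centralizer ({t} : Set G)), k⁻¹ * h ∈ B →
        lineOf q (u % 16) (w % 16) (h : G) = lineOf q (u % 16) (w % 16) (k : G) := by
      intro h k hk
      set e := k⁻¹ * h with he
      have hnorm : (e : G) ∈ normalizer (V : Set G) := hk
      have img : ∀ r < 64, q r ∈ V → app (mat q (e : G)) (r % 16) ∈ [0, u % 16, w % 16, (u % 16) ^^^ (w % 16)] := by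
        intro r hr hrV
        obtain ⟨s1, s2⟩ := sig_spec S F1 e.2 hr
        rw [← mat_class S F1 e.2 hr]
        refine hVcl _ s1 ?_
        rw [s2]
        exact (Subgroup.mem_normalizer_iff.1 hnorm _).1 hrV
      obtain ⟨-, hlte, hinj⟩ := spAll_props (mat_spAll S F1 e.2)
      have i1 := img u hu huV
      have i2 := img w hw hwV
      have n1 : app (mat q (e : G)) (u % 16) ≠ 0 := fun h0 =>
        hu0 (hinj _ (Nat.mod_lt _ (by norm_num)) 0 (by norm_num) (by rw [h0, app_zero]))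
      have n2 : app (mat q (e : G)) (w % 16) ≠ 0 := fun h0 =>
        hw0 (hinj _ (Nat.mod_lt _ (by norm_num)) 0 (by norm_num) (by rw [h0, app_zero]))
      have n3 : app (mat q (e : G)) (u % 16) ≠ app (mat q (e : G)) (w % 16) := fun h0 =>
        huw (hinj _ (Nat.mod_lt _ (by norm_num)) _ (Nat.mod_lt _ (by norm_num)) h0)
      have hkh : (h : G) = (k : G) * (e : G) := by rw [← Subgroup.coe_mul, he, mul_inv_cancel_left]
      simp only [lineOf]
      rw [hkh, mat_mul S F1 k.2 e.2]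
      obtain ⟨c0, c1, c2, c3, e'⟩ : ∃ a b c d : ℕ, mat q (e : G) = [a, b, c, d] := ⟨_, _, _, _, rfl⟩
      rw [e'] at hlte i1 i2 n1 n2 n3 ⊢
      rw [app_cmpL _ (hlte c0 (by simp)) (hlte c1 (by simp)) (hlte c2 (by simp)) (hlte c3 (by simp)),
        app_cmpL _ (hlte c0 (by simp)) (hlte c1 (by simp)) (hlte c2 (by simp)) (hlte c3 (by simp))]
      obtain ⟨-, hltk, hinjk⟩ := spAll_props (mat_spAll S F1 k.2)
      have hU : u % 16 < 16 := Nat.mod_lt _ (by norm_num)
      have hW : w % 16 < 16 := Nat.mod_lt _ (by norm_num)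
      obtain ⟨m1, m2, m3, m4, m5, -⟩ := mask_small (app (mat q (k : G)) (u % 16)) (app_lt hltk _)
        (app (mat q (k : G)) (w % 16)) (app_lt hltk _)
        (fun h0 => hu0 (hinjk _ hU 0 (by norm_num) (by rw [h0, app_zero])))
        (fun h0 => hw0 (hinjk _ hW 0 (by norm_num) (by rw [h0, app_zero])))
        (fun h0 => huw (hinjk _ hU _ hW h0))
      simp only [List.mem_cons, List.not_mem_nil, or_false] at i1 i2
      rcases i1 with i1 | i1 | i1 | i1 <;> rcases i2 with i2 | i2 | i2 | i2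
      all_goals first
        | exact absurd i1 n1
        | exact absurd i2 n2
        | exact absurd (i1.trans i2.symm) n3
        | (simp only [i1, i2, app_xor _ hU hW, m1, m2, m3, m4, m5])
    have hsub : T ⊆ Set.range fun c : ↥(centralizer ({t} : Set G)) ⧸ B =>
        lineOf q (u % 16) (w % 16) (c.out : G) := by
      rintro _ ⟨h, rfl⟩
      refine ⟨QuotientGroup.mk h, (hconst h _ ?_).symm⟩
      exact QuotientGroup.eq.1 (QuotientGroup.out_eq' (QuotientGroup.mk h : ↥(centralizer ({t} : Set G)) ⧸ B))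
    have h1 := Set.ncard_le_ncard hsub (Set.finite_range _)
    exact h1.trans (by rw [← Nat.card_coe_set_eq]; exact (Finite.card_range_le _).trans (le_of_eq hidx))
  have hP' := hT _ (List.mem_append_left _ hPi) a rfl
  have hQ' := hT Q0 (List.mem_append_right _ (List.mem_singleton_self _)) b hb1
  have g1 := grow_ok hP' hQ' [wMask (u % 16) (w % 16)] (List.nodup_singleton _) (by
    intro x hx
    rw [List.mem_singleton] at hx
    subst hx
    refine ⟨1, ?_⟩
    simp only [lineOf, Subgroup.coe_one, mat_one S F1]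
    rw [app_idL _ (Nat.mod_lt _ (by norm_num)), app_idL _ (Nat.mod_lt _ (by norm_num))])
  have g2 := grow_ok hP' hQ' _ g1.1 g1.2
  have g3 := grow_ok hP' hQ' _ g2.1 g2.2
  have g4 := grow_ok hP' hQ' _ g3.1 g3.2
  classical
  refine le_trans ?_ hTcard
  rw [← List.toFinset_card_of_nodup (l := orbW _ _ _) g4.1, ← Set.ncard_coe_finset]
  exact Set.ncard_le_ncard (fun x hx => g4.2 x (List.mem_toFinset.1 hx)) (Set.toFinite _)

/-- A frame in which two preimages of the standard generators act as the standard maps. -/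
theorem exists_normal [Finite G] (F : Frame t R q) : ∃ (q' : ℕ → G) (a b : ↥(centralizer ({t} : Set G))),
    Frame t R q' ∧ π a = Equiv.swap 0 1 ∧ π b = finRotate 5 ∧ mat q' (a : G) = P0 ∧ mat q' (b : G) = Q0 := by
  obtain ⟨a, ha⟩ := S.surj (Equiv.swap 0 1)
  obtain ⟨b, hb⟩ := S.surj (finRotate 5)
  have hRk : ∀ {q : ℕ → G}, Frame t R q → ∀ w : ↥(centralizer ({t} : Set G)), (mat q (w : G) = idL ↔ π w = 1) :=
    fun Fq w => by rw [mat_eq_one_iff S Fq w.2, S.ker]
  have hpow : ∀ {q : ℕ → G}, Frame t R q → ∀ (w : ↥(centralizer ({t} : Set G))) (n : ℕ),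
      mat q ((w ^ n : ↥(centralizer ({t} : Set G))) : G) = powL (mat q (w : G)) n := by
    intro q Fq w n
    induction n with
    | zero => rw [pow_zero]; exact mat_one S Fq
    | succ n ih => rw [pow_succ', Subgroup.coe_mul, mat_mul S Fq w.2 (w ^ n).2, ih]; rfl
  have inter : ∀ {q q' : ℕ → G}, Frame t R q → Frame t R q' → ∀ {g : List ℕ}, g ∈ spAll →
      (∀ h ∈ centralizer ({t} : Set G), ∀ v < 16, app g (app (mat q' h) v) = app (mat q h) (app g v)) →
      ∀ (w : ↥(centralizer ({t} : Set G))) (P : List ℕ), P ∈ spAll → cmpL g P = cmpL (mat q (w : G)) g →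
        mat q' (w : G) = P := by
    intro q q' Fq Fq' g hg hch w P hP e
    obtain ⟨hl, hlt, hinj⟩ := spAll_props hg
    obtain ⟨hl', hlt', -⟩ := spAll_props hP
    obtain ⟨g0, g1, g2, g3, rfl⟩ : ∃ g0 g1 g2 g3, g = [g0, g1, g2, g3] := by
      match g, hl with
      | [a, b, c, d], _ => exact ⟨a, b, c, d, rfl⟩
    obtain ⟨p0, p1, p2, p3, rfl⟩ : ∃ p0 p1 p2 p3, P = [p0, p1, p2, p3] := by
      match P, hl' with
      | [a, b, c, d], _ => exact ⟨a, b, c, d, rfl⟩
    have k : ∀ v < 16, app (mat q' (w : G)) v = app [p0, p1, p2, p3] v := by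
      intro v hv
      refine hinj _ (app_lt (mat_lt S Fq') v) _ (app_lt hlt' v) ?_
      have k1 := app_cmpL [g0, g1, g2, g3] (hlt' p0 (by simp)) (hlt' p1 (by simp)) (hlt' p2 (by simp)) (hlt' p3 (by simp)) v
      have k2 := app_cmpL (mat q (w : G)) (hlt g0 (by simp)) (hlt g1 (by simp)) (hlt g2 (by simp)) (hlt g3 (by simp)) v
      rw [hch _ w.2 v hv, ← k1, e, k2]
    obtain ⟨a', b', c', d', e'⟩ : ∃ a b c d : ℕ, mat q' (w : G) = [a, b, c, d] := ⟨_, _, _, _, rfl⟩
    rw [e'] at k ⊢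
    have k0 := k 1 (by norm_num); have k1 := k 2 (by norm_num); have k2 := k 4 (by norm_num); have k3 := k 8 (by norm_num)
    simp [app] at k0 k1 k2 k3
    rw [k0, k1, k2, k3]
  have perms : Equiv.swap (0 : Fin 5) 1 * Equiv.swap 0 1 = 1 ∧ Equiv.swap (0 : Fin 5) 1 ≠ 1 ∧
      finRotate 5 ^ 5 = 1 ∧ finRotate 5 ≠ 1 ∧ (Equiv.swap 0 1 * finRotate 5) ^ 4 = 1 ∧
      (Equiv.swap 0 1 * finRotate 5) ^ 2 ≠ 1 ∧
      (Equiv.swap 0 1 * finRotate 5 * Equiv.swap 0 1 * finRotate 5 ^ 4) ^ 3 = 1 := by decide +kernel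
  obtain ⟨pa, pa', pb, pb', pab, pab', pc⟩ := perms
  have rels : ∀ {q : ℕ → G}, Frame t R q → relsL (mat q (a : G)) (mat q (b : G)) = true := by
    intro q Fq
    have eab : cmpL (mat q (a : G)) (mat q (b : G)) = mat q ((a * b : ↥(centralizer ({t} : Set G))) : G) := by
      rw [Subgroup.coe_mul, mat_mul S Fq a.2 b.2]
    simp only [relsL, Bool.and_eq_true, Bool.not_eq_true', decide_eq_false_iff_not, decide_eq_true_eq]
    rw [eab, ← mat_mul S Fq (a * b).2 a.2, ← Subgroup.coe_mul, ← hpow Fq b 4, ← mat_mul S Fq (a * b * a).2 (b ^ 4).2,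
      ← Subgroup.coe_mul, ← hpow Fq (a * b * a * b ^ 4) 3, ← hpow Fq b 5, ← hpow Fq (a * b) 4, ← hpow Fq (a * b) 2,
      ← mat_mul S Fq a.2 a.2, ← Subgroup.coe_mul, hRk Fq, hRk Fq, hRk Fq, hRk Fq, hRk Fq, hRk Fq, hRk Fq]
    simp only [map_mul, map_pow, ha, hb]
    exact ⟨⟨⟨⟨⟨⟨pa, pa'⟩, pb⟩, pb'⟩, pab⟩, pab'⟩, pc⟩
  -- the element of order five
  have hQf : mat q (b : G) ∈ fives := by
    have h := rels F
    simp only [relsL, Bool.and_eq_true] at h
    simp only [fives, List.mem_filter, Bool.and_eq_true]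
    exact ⟨mat_spAll S F b.2, h.1.1.1.1.2, h.1.1.1.2⟩
  obtain ⟨v, hvm, hv⟩ := List.any_eq_true.1 (List.all_eq_true.1 five_conj _ hQf)
  simp only [Bool.and_eq_true, decide_eq_true_eq] at hv
  have hg1 : cycMap (mat q (b : G)) v ∈ spAll := by
    have hb' : ∀ w, app (mat q (b : G)) w < 16 := app_lt (mat_lt S F)
    have h4 : ∀ (l : List ℕ) (k : ℕ), (∀ x ∈ l, x < 16) → app l k < 16 := fun l k h => app_lt h k
    have hv16 : v < 16 → ∀ x ∈ [v, app (mat q (b : G)) v, app (mat q (b : G)) (app (mat q (b : G)) v),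
        app (mat q (b : G)) (app (mat q (b : G)) (app (mat q (b : G)) v))], x < 16 := by
      intro h x hx
      simp only [List.mem_cons, List.not_mem_nil, or_false] at hx
      rcases hx with rfl | rfl | rfl | rfl <;> first | exact h | exact hb' _
    have hv'' : v < 16 := List.mem_range.1 hvm
    exact mem_spAll (h4 _ _ (hv16 hv'')) (h4 _ _ (hv16 hv'')) (h4 _ _ (hv16 hv'')) (h4 _ _ (hv16 hv'')) hv.1
  obtain ⟨q1, F1, hch1⟩ := exists_change S F hg1
  have hQ0 : Q0 ∈ spAll := by decide +kernel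
  have hP0 : P0 ∈ spAll := by decide +kernel
  have hb1 : mat q1 (b : G) = Q0 := inter F F1 hg1 hch1 b Q0 hQ0 hv.2
  -- the orbit of the line of `V`
  obtain ⟨u, w, hu, hw, huV, hwV, hu0, hw0, huw, hom, hnd⟩ := exists_pair S F1
  have hrel := rels F1
  rw [hb1] at hrel
  have hPi : mat q1 (a : G) ∈ invs := by
    have h := hrel
    simp only [relsL, Bool.and_eq_true] at h
    simp only [invs, List.mem_filter, Bool.and_eq_true]
    exact ⟨mat_spAll S F1 a.2, h.1.1.1.1.1.1, h.1.1.1.1.1.2⟩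
  have horb := orbit_le_five S F1 a b hPi hb1 hu hw huV hwV hu0 hw0 huw hnd
  have hcls := List.all_eq_true.1 classify _ hPi
  simp only [Bool.or_eq_true, Bool.not_eq_true'] at hcls
  rcases hcls with (hcls | hcls) | hcls
  · rw [hrel] at hcls; simp at hcls
  · exfalso
    have hiso := (mask_small _ (Nat.mod_lt u (by norm_num)) _ (Nat.mod_lt w (by norm_num)) hu0 hw0 huw).2.2.2.2.2 hom
    rw [List.any_eq_false] at hcls
    exact hcls _ hiso (Nat.ble_eq_true_of_le horb)
  · obtain ⟨v2, hv2m, hv2⟩ := List.any_eq_true.1 hcls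
    simp only [Bool.and_eq_true, decide_eq_true_eq] at hv2
    have hv2' : v2 < 16 := List.mem_range.1 hv2m
    have hg2 : cycMap Q0 v2 ∈ spAll := by
      have hb' : ∀ w, app Q0 w < 16 := app_lt (spAll_props hQ0).2.1
      have hx' : ∀ x ∈ [v2, app Q0 v2, app Q0 (app Q0 v2), app Q0 (app Q0 (app Q0 v2))], x < 16 := by
        intro x hx
        simp only [List.mem_cons, List.not_mem_nil, or_false] at hx
        rcases hx with rfl | rfl | rfl | rfl <;> first | exact hv2' | exact hb' _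
      exact mem_spAll (app_lt hx' _) (app_lt hx' _) (app_lt hx' _) (app_lt hx' _) hv2.1.1
    obtain ⟨q2, F2, hch2⟩ := exists_change S F1 hg2
    exact ⟨q2, a, b, F2, ha, hb, inter F1 F2 hg2 hch2 a P0 hP0 hv2.1.2,
      inter F1 F2 hg2 hch2 b Q0 hQ0 (by rw [hb1]; exact hv2.2)⟩

end CfsgLib.HSRec.Pin
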