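import Cfsg.Agent.Lib.HSRec.Classes

/-!
# The action of the centraliser on the classes of the frame
-/

set_option autoImplicit false
set_option linter.unusedSectionVars false
set_option maxRecDepth 100000

namespace CfsgLib.HSRec.Pin

open Subgroup

variable {G : Type*} [Group G]

/-- What the pinning uses. -/
structure Setting (t : G) (R V : Subgroup G) (π : ↥(centralizer ({t} : Set G)) →* Equiv.Perm (Fin 5)) : Prop where
  ht : orderOf t = 2
  surj : Function.Surjective π
  ker : ∀ h, π h = 1 ↔ (h : G) ∈ R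
  RH : R ≤ centralizer ({t} : Set G)
  t_mem : t ∈ V
  VR : V ≤ R
  Vcard : Nat.card V = 8
  Vcomm : ∀ a ∈ V, ∀ b ∈ V, a * b = b * a
  Vsq : ∀ a ∈ V, a * a = 1
  centV : ∀ g h : G, (∀ a ∈ V, Commute g a) → (∀ a ∈ V, Commute h a) → Commute g h
  move : ∀ a b d a' b' d' : G, a ∈ V → b ∈ V → d ∈ V → a' ∈ V → b' ∈ V → d' ∈ V →
    [1, a, b, a * b, d, a * d, b * d, a * b * d].Nodup → [1, a', b', a' * b', d', a' * d', b' * d', a' * b' * d'].Nodup →
    ∃ g : G, (∀ v ∈ V, g * v * g⁻¹ ∈ V) ∧ g * a * g⁻¹ = a' ∧ g * b * g⁻¹ = b' ∧ g * d * g⁻¹ = d'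
  cardNV : Nat.card ↥(normalizer (V : Set G) ⊓ centralizer ({t} : Set G) : Subgroup G) = 1536

variable {t : G} {R V : Subgroup G} {π : ↥(centralizer ({t} : Set G)) →* Equiv.Perm (Fin 5)}

namespace Setting

variable (S : Setting t R V π)

include S

theorem conj_R {h g : G} (hh : h ∈ centralizer ({t} : Set G)) (hg : g ∈ R) : h * g * h⁻¹ ∈ R := by
  have := (S.ker (⟨h, hh⟩ * ⟨g, S.RH hg⟩ * ⟨h, hh⟩⁻¹)).1 (by
    rw [map_mul, map_mul, (S.ker ⟨g, S.RH hg⟩).2 hg, mul_one, map_inv, mul_inv_cancel])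
  exact this

theorem card_H [Finite G] (hR : Nat.card R = 64) : Nat.card ↥(centralizer ({t} : Set G)) = 7680 := by
  have h1 : Nat.card π.ker = 64 := by
    rw [← hR]
    exact Nat.card_congr
      { toFun := fun x => ⟨((x : ↥(centralizer ({t} : Set G))) : G), (S.ker _).1 x.2⟩
        invFun := fun g => ⟨⟨g, S.RH g.2⟩, (S.ker _).2 g.2⟩
        left_inv := fun x => rfl
        right_inv := fun x => rfl }
  have h2 : π.ker.index = 120 := by
    rw [Subgroup.index_ker, MonoidHom.range_eq_top.2 S.surj]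
    simp [Nat.card_eq_fintype_card, Fintype.card_perm, Nat.factorial]
  rw [← Subgroup.card_mul_index π.ker, h1, h2]

end Setting

/-- The code of a conjugate. -/
noncomputable def sig (q : ℕ → G) (h : G) (r : ℕ) : ℕ := by
  classical exact if e : ∃ s, s < 64 ∧ q s = h * q r * h⁻¹ then Classical.choose e else 0

/-- The matrix of an element on classes. -/
noncomputable def mat (q : ℕ → G) (h : G) : List ℕ := matOf (sig q h)

/-- The line of classes of a pair moved by an element. -/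
noncomputable def lineOf (q : ℕ → G) (u v : ℕ) (h : G) : ℕ := wMask (app (mat q h) u) (app (mat q h) v)

section

variable (S : Setting t R V π) {q : ℕ → G} (F : Frame t R q)

include S F

theorem sig_spec {h : G} (hh : h ∈ centralizer ({t} : Set G)) {r : ℕ} (hr : r < 64) :
    sig q h r < 64 ∧ q (sig q h r) = h * q r * h⁻¹ := by
  have e : ∃ s, s < 64 ∧ q s = h * q r * h⁻¹ := by
    obtain ⟨s, hs, e⟩ := F.surj _ (S.conj_R hh (F.mem r hr))
    exact ⟨s, hs, e⟩
  unfold sig
  rw [dif_pos e]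
  exact Classical.choose_spec e

theorem sig_eq {h : G} (hh : h ∈ centralizer ({t} : Set G)) {r s : ℕ} (hr : r < 64) (hs : s < 64)
    (e : h * q r * h⁻¹ = q s) : sig q h r = s :=
  F.inj _ _ (sig_spec S F hh hr).1 hs ((sig_spec S F hh hr).2.trans e)

theorem sig_hom {h : G} (hh : h ∈ centralizer ({t} : Set G)) : CodeHom (sig q h) := by
  refine ⟨fun r hr => (sig_spec S F hh hr).1, fun r r' hr hr' => ?_⟩
  obtain ⟨h1, e1⟩ := sig_spec S F hh hr
  obtain ⟨h2, e2⟩ := sig_spec S F hh hr'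
  refine sig_eq S F hh (hQ_lt _ _) (hQ_lt _ _) ?_
  rw [← F.mul _ _ hr hr', ← F.mul _ _ h1 h2, e1, e2]
  group

theorem sig_sixteen {h : G} (hh : h ∈ centralizer ({t} : Set G)) : sig q h 16 = 16 ∨ sig q h 16 = 48 := by
  have H := sig_hom S F hh
  obtain ⟨h1, e1⟩ := sig_spec S F hh (show 16 < 64 by norm_num)
  have dec : ∀ s < 64, (∀ u ∈ [1, 2, 4, 8], hQ s u = hQ u s) → hQ s s ≠ 0 → s = 16 ∨ s = 48 := by decide +kernel
  have c16 : ∀ u < 64, hQ 16 u = hQ u 16 := by decide +kernel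
  refine dec _ h1 (fun u hu => ?_) (fun e => ?_)
  · have hu' : u < 64 := by simp at hu; omega
    obtain ⟨r, hr, er⟩ := F.surj (h⁻¹ * q u * h) (by
      have := S.conj_R (inv_mem hh) (F.mem u hu')
      rwa [inv_inv] at this)
    have hu'' : sig q h r = u := sig_eq S F hh hr hu' (by rw [er]; group)
    rw [← hu'', ← H.mul _ _ (by norm_num) hr, ← H.mul _ _ hr (by norm_num), c16 r hr]
  · have := H.mul 16 16 (by norm_num) (by norm_num)
    rw [e, show hQ 16 16 = 32 from rfl] at this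
    obtain ⟨h2, e2⟩ := sig_spec S F hh (show (32 : ℕ) < 64 by norm_num)
    rw [this, F.one, show q 32 = t from F.t_eq] at e2
    have ht1 : t = 1 := by
      have := congrArg (fun x => h⁻¹ * x * h) e2.symm
      simpa [mul_assoc] using this
    have := S.ht
    rw [ht1, orderOf_one] at this
    omega

theorem mat_class {h : G} (hh : h ∈ centralizer ({t} : Set G)) {r : ℕ} (hr : r < 64) :
    sig q h r % 16 = app (mat q h) (r % 16) :=
  (sig_hom S F hh).class_eq (by rcases sig_sixteen S F hh with e | e <;> rw [e]) r hr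

theorem mat_lt {h : G} : ∀ x ∈ mat q h, x < 16 := by
  intro x hx
  simp only [mat, matOf, List.mem_map] at hx
  obtain ⟨u, -, rfl⟩ := hx
  exact Nat.mod_lt _ (by norm_num)

theorem mat_spAll {h : G} (hh : h ∈ centralizer ({t} : Set G)) : mat q h ∈ spAll := by
  have hdec : ∀ a < 64, ∀ b < 64, (hQ a b = hQ b a ↔ om (a % 16) (b % 16) = 0) ∧ om (a % 16) (b % 16) < 2 := by
    decide +kernel
  have key : ∀ i < 4, ∀ j < 4, om (sig q h (idL.getD i 0) % 16) (sig q h (idL.getD j 0) % 16) =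
      om (idL.getD i 0) (idL.getD j 0) := by
    intro i hi j hj
    have hl : ∀ k < 4, idL.getD k 0 < 16 := by decide
    have ha : idL.getD i 0 < 64 := by have := hl i hi; omega
    have hb : idL.getD j 0 < 64 := by have := hl j hj; omega
    obtain ⟨h1, e1⟩ := sig_spec S F hh ha
    obtain ⟨h2, e2⟩ := sig_spec S F hh hb
    obtain ⟨k1, k2⟩ := hdec _ h1 _ h2
    obtain ⟨k3, k4⟩ := hdec _ ha _ hb
    rw [Nat.mod_eq_of_lt (hl i hi), Nat.mod_eq_of_lt (hl j hj)] at k3 k4
    have H := sig_hom S F hh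
    have iff : hQ (sig q h (idL.getD i 0)) (sig q h (idL.getD j 0)) =
        hQ (sig q h (idL.getD j 0)) (sig q h (idL.getD i 0)) ↔ hQ (idL.getD i 0) (idL.getD j 0) =
        hQ (idL.getD j 0) (idL.getD i 0) := by
      constructor
      · intro e
        rw [← H.mul _ _ ha hb, ← H.mul _ _ hb ha] at e
        obtain ⟨-, u1⟩ := sig_spec S F hh (hQ_lt (idL.getD i 0) (idL.getD j 0))
        obtain ⟨-, u2⟩ := sig_spec S F hh (hQ_lt (idL.getD j 0) (idL.getD i 0))
        rw [e, u2] at u1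
        exact (F.inj _ _ (hQ_lt _ _) (hQ_lt _ _) (mul_left_cancel (mul_right_cancel u1))).symm
      · intro e
        rw [← H.mul _ _ ha hb, ← H.mul _ _ hb ha, e]
    rw [k1, k3] at iff
    omega
  have hm : mat q h = [sig q h 1 % 16, sig q h 2 % 16, sig q h 4 % 16, sig q h 8 % 16] := rfl
  rw [hm]
  refine mem_spAll (Nat.mod_lt _ (by norm_num)) (Nat.mod_lt _ (by norm_num)) (Nat.mod_lt _ (by norm_num))
    (Nat.mod_lt _ (by norm_num)) ?_
  simp only [presL, List.all_eq_true, List.mem_range, Nat.beq_eq]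
  intro i hi j hj
  rw [← key i hi j hj]
  interval_cases i <;> interval_cases j <;> rfl

theorem mat_mul {g h : G} (hg : g ∈ centralizer ({t} : Set G)) (hh : h ∈ centralizer ({t} : Set G)) :
    mat q (g * h) = cmpL (mat q g) (mat q h) := by
  have key : ∀ u, u < 16 → sig q (g * h) u % 16 = app (mat q g) (sig q h u % 16) := fun u hu => by
    have hu' : u < 64 := by omega
    obtain ⟨h1, e1⟩ := sig_spec S F hh hu'
    obtain ⟨h2, e2⟩ := sig_spec S F hg h1
    rw [← mat_class S F hg h1, sig_eq S F (mul_mem hg hh) hu' h2 (by rw [e2, e1]; group)]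
  simp only [mat, matOf, cmpL, List.map_map]
  refine List.map_congr_left fun u hu => ?_
  exact key u (by simp [idL] at hu; omega)

theorem mat_of_R {g : G} (hg : g ∈ R) : mat q g = idL := by
  obtain ⟨r, hr, rfl⟩ := F.surj g hg
  have dec : ∀ r < 64, ∀ u ∈ idL, ∃ s < 64, hQ s r = hQ r u ∧ s % 16 = u := by decide +kernel
  simp only [mat, matOf]
  conv_rhs => rw [← List.map_id idL]
  refine List.map_congr_left fun u hu => ?_
  obtain ⟨s, hs, e, e'⟩ := dec r hr u hu
  have hu' : u < 64 := by simp [idL] at hu; omega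
  rw [sig_eq S F (S.RH hg) hu' hs, e', id]
  rw [mul_inv_eq_iff_eq_mul, F.mul r u hr hu', F.mul s r hs hr, e]

theorem mat_one : mat q (1 : G) = idL := mat_of_R S F (one_mem R)

theorem mat_inv_eq {g : G} (hg : g ∈ centralizer ({t} : Set G)) (h : mat q g = idL) : mat q g⁻¹ = idL := by
  have hm := mat_mul S F (inv_mem hg) hg
  rw [inv_mul_cancel, mat_one S F, h] at hm
  obtain ⟨a, b, c, d, e⟩ : ∃ a b c d : ℕ, mat q g⁻¹ = [a, b, c, d] := ⟨_, _, _, _, rfl⟩
  rw [e] at hm ⊢
  simpa [cmpL, idL, app] using hm.symm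

/-- An element of `V` outside the centre, with a second one independent modulo it. -/
theorem exists_pair : ∃ u v : ℕ, u < 64 ∧ v < 64 ∧ q u ∈ V ∧ q v ∈ V ∧ u % 16 ≠ 0 ∧ v % 16 ≠ 0 ∧ u % 16 ≠ v % 16 ∧
    om (u % 16) (v % 16) = 0 ∧ [1, q u, q v, q u * q v, t, q u * t, q v * t, q u * q v * t].Nodup := by
  have hfin : Finite V := Nat.finite_of_card_ne_zero (by rw [S.Vcard]; norm_num)
  have code : ∀ g ∈ V, ∃ r < 64, q r = g := fun g hg => F.surj g (S.VR hg)
  have dcl : ∀ r < 64, r % 16 = 0 → hQ r r = 0 → r = 0 ∨ r = 32 := by decide +kernel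
  have sq0 : ∀ r < 64, q r ∈ V → hQ r r = 0 := fun r hr h => by
    refine F.inj _ _ (hQ_lt _ _) (by norm_num) ?_
    rw [← F.mul r r hr hr, S.Vsq _ h, F.one]
  have hsmall : ∀ r < 64, q r ∈ V → r % 16 = 0 → q r = 1 ∨ q r = t := fun r hr h h0 => by
    rcases dcl r hr h0 (sq0 r hr h) with rfl | rfl
    exacts [.inl F.one, .inr F.t_eq]
  have many : ∀ f : Fin 4 → G, ∃ g ∈ V, ∀ i, g ≠ f i := by
    intro f
    by_contra hcon
    push Not at hcon
    have h := Set.ncard_le_ncard (show (V : Set G) ⊆ Set.range f from fun g hg => by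
      obtain ⟨i, hi⟩ := hcon g hg
      exact ⟨i, hi.symm⟩) (Set.finite_range f)
    have h' := h.trans (Finite.card_range_le f)
    rw [← Nat.card_coe_set_eq, SetLike.coe_sort_coe, S.Vcard] at h'
    simp at h'
  obtain ⟨a, haV, hane⟩ := many ![1, t, 1, t]
  have ha1 : a ≠ 1 := hane 0
  have hat : a ≠ t := hane 1
  obtain ⟨u, hu, rfl⟩ := code a haV
  obtain ⟨b, hbV, hbne⟩ := many ![1, t, q u, q u * t]
  obtain ⟨v, hv, rfl⟩ := code b hbV
  have hu0 : u % 16 ≠ 0 := fun h0 => (hsmall u hu haV h0).elim ha1 hat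
  have hv0 : v % 16 ≠ 0 := fun h0 => (hsmall v hv hbV h0).elim (hbne 0) (hbne 1)
  have tt : t * t = 1 := S.Vsq t S.t_mem
  have huv : u % 16 ≠ v % 16 := by
    intro e
    have hw : q (hQ u v) ∈ V := F.mul u v hu hv ▸ mul_mem haV hbV
    have h0 : hQ u v % 16 = 0 := by rw [class_hQ u hu v hv, e, Nat.xor_self]
    rcases hsmall _ (hQ_lt _ _) hw h0 with h | h <;> rw [← F.mul u v hu hv] at h
    · refine hbne 2 ?_
      calc q v = q u * q u * q v := by rw [S.Vsq _ haV, one_mul]
        _ = q u := by rw [mul_assoc, h, mul_one]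
    · refine hbne 3 ?_
      calc q v = q u * q u * q v := by rw [S.Vsq _ haV, one_mul]
        _ = q u * t := by rw [mul_assoc, h]
  have om0 : ∀ a < 64, ∀ b < 64, hQ a b = hQ b a → om (a % 16) (b % 16) = 0 := by decide +kernel
  refine ⟨u, v, hu, hv, haV, hbV, hu0, hv0, huv, om0 u hu v hv ?_, ?_⟩
  · refine F.inj _ _ (hQ_lt _ _) (hQ_lt _ _) ?_
    rw [← F.mul u v hu hv, ← F.mul v u hv hu, S.Vcomm _ haV _ hbV]
  · have e : [1, q u, q v, q u * q v, t, q u * t, q v * t, q u * q v * t] =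
        [0, u, v, hQ u v, 32, hQ u 32, hQ v 32, hQ (hQ u v) 32].map q := by
      simp only [List.map_cons, List.map_nil, F.one, ← F.mul _ _ hu hv, ← F.mul _ _ hu (show 32 < 64 by norm_num),
        ← F.mul _ _ hv (show 32 < 64 by norm_num), ← F.mul _ _ (hQ_lt u v) (show 32 < 64 by norm_num),
        show q 32 = t from F.t_eq]
    rw [e]
    refine List.Nodup.map_on (fun x hx y hy hxy => F.inj x y ?_ ?_ hxy) ?_
    · simp only [List.mem_cons, List.not_mem_nil, or_false] at hx
      rcases hx with rfl | rfl | rfl | rfl | rfl | rfl | rfl | rfl <;> first | exact hQ_lt _ _ | assumption | norm_num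
    · simp only [List.mem_cons, List.not_mem_nil, or_false] at hy
      rcases hy with rfl | rfl | rfl | rfl | rfl | rfl | rfl | rfl <;> first | exact hQ_lt _ _ | assumption | norm_num
    · have c32 : ∀ r < 64, hQ r 32 % 16 = r % 16 ∧ hQ r 32 ≠ r := by decide +kernel
      have huv' : hQ u v % 16 = (u % 16) ^^^ (v % 16) := class_hQ u hu v hv
      have hx0 : (u % 16) ^^^ (v % 16) ≠ 0 := fun h => huv (Nat.eq_of_xor_eq_zero h)
      have hxu : (u % 16) ^^^ (v % 16) ≠ u % 16 := fun h => hv0 (by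
        have := congrArg (fun x => (u % 16) ^^^ x) h
        simpa using this)
      have hxv : (u % 16) ^^^ (v % 16) ≠ v % 16 := fun h => hu0 (by
        have := congrArg (fun x => x ^^^ (v % 16)) h
        simpa using this)
      obtain ⟨u1, u2⟩ := c32 u hu
      obtain ⟨v1, v2⟩ := c32 v hv
      obtain ⟨w1, w2⟩ := c32 _ (hQ_lt u v)
      have z32 : (32 : ℕ) % 16 = 0 := rfl
      simp only [List.nodup_cons, List.mem_cons, List.not_mem_nil, or_false, not_or, List.nodup_nil, not_false_eq_true,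
        and_true]
      refine ⟨⟨?_, ?_, ?_, ?_, ?_, ?_, ?_⟩, ⟨?_, ?_, ?_, ?_, ?_, ?_⟩, ⟨?_, ?_, ?_, ?_, ?_⟩, ⟨?_, ?_, ?_, ?_⟩,
        ⟨?_, ?_, ?_⟩, ⟨?_, ?_⟩, ?_⟩ <;> omega

theorem mat_eq_one_iff {h : G} (hh : h ∈ centralizer ({t} : Set G)) : mat q h = idL ↔ h ∈ R := by
  refine ⟨fun hm => ?_, mat_of_R S F⟩
  by_contra hR
  obtain ⟨u, v, hu, hv, huV, hvV, hu0, hv0, huv, -, hnd⟩ := exists_pair S F
  let K : Subgroup ↥(centralizer ({t} : Set G)) :=
    { carrier := {x | mat q (x : G) = idL}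
      one_mem' := mat_one S F
      mul_mem' := fun {a b} ha hb => by
        show mat q ((a : G) * (b : G)) = idL
        rw [mat_mul S F a.2 b.2, show mat q (a : G) = idL from ha, show mat q (b : G) = idL from hb]
        decide
      inv_mem' := fun {a} ha => mat_inv_eq S F a.2 ha }
  have hKn : K.Normal := ⟨fun x hx g => by
    show mat q ((g : G) * (x : G) * (g : G)⁻¹) = idL
    rw [mat_mul S F (mul_mem g.2 x.2) (inv_mem g.2), mat_mul S F g.2 x.2, show mat q (x : G) = idL from hx]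
    have h1 : mat q ((g : G) * (g : G)⁻¹) = idL := by rw [mul_inv_cancel]; exact mat_one S F
    rw [mat_mul S F g.2 (inv_mem g.2)] at h1
    obtain ⟨hl, hlt, -⟩ := spAll_props (mat_spAll S F g.2)
    rw [show cmpL (mat q (g : G)) idL = mat q (g : G) from ?_, h1]
    obtain ⟨a, b, c, d, e⟩ : ∃ a b c d : ℕ, mat q (g : G) = [a, b, c, d] := ⟨_, _, _, _, rfl⟩
    rw [e]
    simp [cmpL, idL, app]⟩
  have hNn : (K.map π).Normal := hKn.map π S.surj
  have hne : K.map π ≠ ⊥ := fun e => hR ((S.ker ⟨h, hh⟩).1 (by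
    have : π ⟨h, hh⟩ ∈ K.map π := ⟨_, hm, rfl⟩
    rwa [e, Subgroup.mem_bot] at this))
  have hA : alternatingGroup (Fin 5) ≤ K.map π := by
    rcases (hNn.subgroupOf (alternatingGroup (Fin 5))).eq_bot_or_eq_top with e | e
    · exfalso
      refine hne ((Subgroup.eq_bot_iff_forall _).2 fun n hn => ?_)
      have dec : ∀ n : Equiv.Perm (Fin 5), (∀ a ∈ ([Equiv.swap 0 1 * Equiv.swap 1 2, Equiv.swap 2 3 * Equiv.swap 3 4] :
          List (Equiv.Perm (Fin 5))), n * a = a * n) → n = 1 := by decide +kernel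
      refine dec n fun a ha => ?_
      have haA : a ∈ alternatingGroup (Fin 5) := by
        simp only [List.mem_cons, List.not_mem_nil, or_false] at ha
        rcases ha with rfl | rfl <;> simp [Equiv.Perm.mem_alternatingGroup]
      have h1 : n * a * n⁻¹ * a⁻¹ ∈ K.map π ⊓ alternatingGroup (Fin 5) := by
        refine ⟨?_, ?_⟩
        · rw [show n * a * n⁻¹ * a⁻¹ = n * (a * n⁻¹ * a⁻¹) by group]
          exact mul_mem hn (hNn.conj_mem _ (inv_mem hn) a)
        · exact (alternatingGroup (Fin 5)).mul_mem ((alternatingGroup.normal (α := Fin 5)).conj_mem a haA n) ((alternatingGroup (Fin 5)).inv_mem haA)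
      have h2 : (⟨n * a * n⁻¹ * a⁻¹, h1.2⟩ : ↥(alternatingGroup (Fin 5))) ∈ (K.map π).subgroupOf _ := h1.1
      rw [e, Subgroup.mem_bot] at h2
      have h3 : n * a * n⁻¹ * a⁻¹ = 1 := congrArg Subtype.val h2
      exact mul_inv_eq_iff_eq_mul.1 (mul_inv_eq_one.1 h3)
    · exact Subgroup.subgroupOf_eq_top.1 e
  obtain ⟨g, hgV, e1, e2, e3⟩ := S.move (q u) (q v) t (q v) (q u * q v) t huV hvV S.t_mem hvV (mul_mem huV hvV) S.t_mem
    hnd (by
      refine (List.Perm.nodup_iff ?_).2 hnd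
      have c1 : q v * (q u * q v) = q u := by
        rw [S.Vcomm _ huV _ hvV, ← mul_assoc, S.Vsq _ hvV, one_mul]
      rw [c1]
      generalize q u * q v * t = x7
      generalize q u * q v = x3
      generalize q u * t = x5
      generalize q v * t = x6
      exact List.Perm.cons _ (((List.Perm.cons _ (List.Perm.swap _ _ _)).trans (List.Perm.swap _ _ _)).trans
        (List.Perm.cons _ (List.Perm.cons _ (List.Perm.cons _ (List.Perm.cons _
          (((List.Perm.cons _ (List.Perm.swap _ _ _)).trans (List.Perm.swap _ _ _)))))))))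
  have hgH : g ∈ centralizer ({t} : Set G) := Subgroup.mem_centralizer_singleton_iff.2 (mul_inv_eq_iff_eq_mul.1 e3)
  have hsq : π (⟨g, hgH⟩ * ⟨g, hgH⟩) ∈ alternatingGroup (Fin 5) := by
    rw [Equiv.Perm.mem_alternatingGroup, map_mul, map_mul, Int.units_mul_self]
  obtain ⟨k, hk, hkeq⟩ := hA hsq
  have hr : (k : G)⁻¹ * (g * g) ∈ R := (S.ker (k⁻¹ * (⟨g, hgH⟩ * ⟨g, hgH⟩))).1 (by
    rw [map_mul, map_inv, hkeq, inv_mul_cancel])
  have hgg : mat q (g * g) = idL := by
    rw [show g * g = (k : G) * ((k : G)⁻¹ * (g * g)) by group, mat_mul S F k.2 (S.RH hr),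
      show mat q (k : G) = idL from hk, mat_of_R S F hr]
    decide
  have h2 : g * g * q u * (g * g)⁻¹ = q u * q v := by
    rw [show g * g * q u * (g * g)⁻¹ = g * (g * q u * g⁻¹) * g⁻¹ by group, e1, e2]
  have h3 := mat_class S F (mul_mem hgH hgH) hu
  rw [sig_eq S F (mul_mem hgH hgH) hu (hQ_lt u v) (by rw [h2, F.mul u v hu hv]), hgg, app_idL _ (Nat.mod_lt _ (by norm_num)),
    class_hQ u hu v hv] at h3
  have := congrArg (fun x => (u % 16) ^^^ x) h3
  simp at this
  exact hv0 this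

theorem mat_eq_iff {g h : G} (hg : g ∈ centralizer ({t} : Set G)) (hh : h ∈ centralizer ({t} : Set G)) :
    mat q g = mat q h ↔ g⁻¹ * h ∈ R := by
  rw [← mat_eq_one_iff S F (mul_mem (inv_mem hg) hh), mat_mul S F (inv_mem hg) hh]
  constructor
  · intro e
    rw [← e, ← mat_mul S F (inv_mem hg) hg, inv_mul_cancel, mat_one S F]
  · intro e
    have h1 := mat_mul S F hg (mul_mem (inv_mem hg) hh)
    rw [mul_inv_cancel_left, mat_mul S F (inv_mem hg) hh, e] at h1
    rw [h1]
    obtain ⟨a, b, c, d, e'⟩ : ∃ a b c d : ℕ, mat q g = [a, b, c, d] := ⟨_, _, _, _, rfl⟩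
    rw [e']
    simp [cmpL, idL, app]

end

end CfsgLib.HSRec.Pin
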