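import Cfsg.Agent.Lib.HSRec.Derive

/-!
# The symplectic group of dimension four over two elements, and a subgroup of type `S₅` with an orbit of five lines

A linear map of the 16 classes of the normal subgroup is the list of the images of 1, 2, 4, 8.
-/

set_option autoImplicit false
set_option maxRecDepth 100000

namespace CfsgLib.HSRec.Pin

/-- The polar form of the frame on classes. -/
def om (v w : ℕ) : ℕ :=
  (v / 2 % 2 * (w % 2) + v % 2 * (w / 2 % 2) + v / 8 % 2 * (w / 4 % 2) + v / 4 % 2 * (w / 8 % 2)) % 2

/-- The image of a class. -/
def app (P : List ℕ) (v : ℕ) : ℕ :=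
  (if v % 2 = 1 then P.getD 0 0 else 0) ^^^ (if v / 2 % 2 = 1 then P.getD 1 0 else 0) ^^^
    (if v / 4 % 2 = 1 then P.getD 2 0 else 0) ^^^ (if v / 8 % 2 = 1 then P.getD 3 0 else 0)

/-- The composite, the second map first. -/
def cmpL (P Q : List ℕ) : List ℕ := Q.map (app P)

/-- The identity. -/
def idL : List ℕ := [1, 2, 4, 8]

/-- The symplectic maps. -/
def spAll : List (List ℕ) :=
  ((List.range 16).filter fun a => !Nat.beq a 0).flatMap fun a =>
    ((List.range 16).filter fun b => Nat.beq (om a b) 1).flatMap fun b =>
      ((List.range 16).filter fun c => !Nat.beq c 0 && Nat.beq (om a c) 0 && Nat.beq (om b c) 0).flatMap fun c =>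
        ((List.range 16).filter fun d => Nat.beq (om a d) 0 && Nat.beq (om b d) 0 && Nat.beq (om c d) 1).map fun d =>
          [a, b, c, d]

/-- A power. -/
def powL (P : List ℕ) : ℕ → List ℕ
  | 0 => idL
  | n + 1 => cmpL P (powL P n)

/-- The relations of the symmetric group on five letters, none of the three elements trivial. -/
def relsL (P Q : List ℕ) : Bool :=
  let PQ := cmpL P Q
  let C := cmpL (cmpL PQ P) (powL Q 4)
  decide (cmpL P P = idL) && !decide (P = idL) && decide (powL Q 5 = idL) && !decide (Q = idL) &&
    decide (powL PQ 4 = idL) && !decide (powL PQ 2 = idL) && decide (powL C 3 = idL)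

/-- The set of the three non-zero classes of a line, as bits. -/
def wMask (u v : ℕ) : ℕ := 2 ^ u + 2 ^ v + 2 ^ (u ^^^ v)

/-- The totally isotropic lines. -/
def isoW : List ℕ :=
  (List.range 16).flatMap fun u => ((List.range 16).filter fun v =>
    !Nat.beq u 0 && Nat.blt u v && Nat.beq (om u v) 0 && Nat.blt v (u ^^^ v)).map fun v => wMask u v

/-- The image of a set. -/
def appW (P : List ℕ) (m : ℕ) : ℕ :=
  ((List.range 16).map fun v => if m.testBit v then 2 ^ app P v else 0).sum

/-- Add a value. -/
def addNew (L : List ℕ) (x : ℕ) : List ℕ := if L.contains x then L else L ++ [x]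

/-- One round of images. -/
def grow (P Q : List ℕ) (L : List ℕ) : List ℕ :=
  L.foldl (fun acc w => addNew (addNew acc (appW P w)) (appW Q w)) L

/-- Part of the orbit of a set. -/
def orbW (P Q : List ℕ) (m : ℕ) : List ℕ := grow P Q (grow P Q (grow P Q (grow P Q [m])))

/-- The first standard map. -/
def P0 : List ℕ := idL.map fun v => act 1 v % 16

/-- The second standard map. -/
def Q0 : List ℕ := idL.map fun v => act 2 v % 16

/-- The line of the standard elementary subgroup. -/
def W0 : ℕ := wMask 1 4

/-- The map taking the orbit of 1 under the second standard map to that of `v` under `Q`. -/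
def cycMap (Q : List ℕ) (v : ℕ) : List ℕ :=
  [1, 2, 12, 7].map (app [v, app Q v, app Q (app Q v), app Q (app Q (app Q v))])

/-- Is the form preserved? -/
def presL (g : List ℕ) : Bool :=
  (List.range 4).all fun i => (List.range 4).all fun j =>
    Nat.beq (om (g.getD i 0) (g.getD j 0)) (om (idL.getD i 0) (idL.getD j 0))

/-- The maps of order five. -/
def fives : List (List ℕ) := spAll.filter fun Q => decide (powL Q 5 = idL) && !decide (Q = idL)

/-- The involutions. -/
def invs : List (List ℕ) := spAll.filter fun P => decide (cmpL P P = idL) && !decide (P = idL)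

theorem five_conj :
    (fives.all fun Q => (List.range 16).any fun v =>
      presL (cycMap Q v) && decide (cmpL (cycMap Q v) Q0 = cmpL Q (cycMap Q v))) = true := by
  decide +kernel

theorem classify :
    (invs.all fun P => !relsL P Q0 || !(isoW.any fun w => Nat.ble (orbW P Q0 w).length 5) ||
      (List.range 16).any fun v => presL (cycMap Q0 v) && decide (cmpL (cycMap Q0 v) P0 = cmpL P (cycMap Q0 v)) &&
        decide (cmpL (cycMap Q0 v) Q0 = cmpL Q0 (cycMap Q0 v))) = true := by
  decide +kernel

theorem five_lines :
    (isoW.all fun w => !Nat.ble (orbW P0 Q0 w).length 5 ||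
      [W0, appW Q0 W0, appW (powL Q0 2) W0, appW (powL Q0 3) W0, appW (powL Q0 4) W0].contains w) = true := by
  decide +kernel

theorem rows_eq : ∀ k < 120, ∀ v < 64, act k v % 16 = app (idL.map fun u => act k u % 16) (v % 16) := by
  decide +kernel

/-- No representative fixes a hyperplane and moves a class, and only the first fixes every class. -/
theorem no_transvection : ((List.range 120).all fun k => (List.range 16).all fun u =>
    Nat.beq u 0 || Nat.beq k 0 ||
      !((List.range 16).all fun v => Nat.beq (om u v) 1 || Nat.beq (act k v % 16) v)) = true := by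
  decide +kernel

end CfsgLib.HSRec.Pin
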